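import Cfsg.Agent.Cit.TwoSyl.GlueOne
import Cfsg.Agent.Cit.TwoFK.Inv
import Cfsg.Agent.Cit.CoreTwoEq
import Cfsg.Agent.GH.Q2.TargetSwap
import Cfsg.Agent.S0215

/-!
# D5b, `C_S(Q₁Q₂) = ⟨z⟩`: the Sylow 2-subgroups are of type `PSp₄(q)` or `PSL₄(q)`
-/

set_option autoImplicit false
set_option linter.style.haveILetI false
set_option linter.unusedSectionVars false
set_option linter.unusedVariables false

namespace Cfsg.Agent.Cit.TwoSyl.SylOne

open Subgroup Cfsg Cit OneBasic TwoFK OneFieldHom OneFieldPsi GlueOne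
open Cfsg.Agent.GH.Q2 (Sd Ns Sw RR Co Qn)

variable {G : Type*} [Group G] [Finite G] {Om : Set (Subgroup G)} {K L S : Subgroup G}

theorem k1 (b : TwoEq Om) (hT : ∀ K ∈ Om, TyTwo K) : OneF.K1 Om :=
  fun _ hK _ hx _ hy hx4 hy4 => b.hyp.conj_four hK (hT _ hK) hx hy hx4 hy4

theorem fk' (b : TwoEq Om) (hT : ∀ K ∈ Om, TyTwo K) (hidx : ∀ N : Subgroup G, N.index ≠ 2) : FK Om :=
  fun _ hn ho _ hK _ hg => TwoFK.fk b (k1 b hT) hidx ho hn hK hg

/-- a simple group with a member has no subgroup of index two -/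
theorem index_ne_two [IsSimpleGroup G] (h : Hyp Om) (hK : K ∈ Om) (N : Subgroup G) : N.index ≠ 2 := by
  intro hN
  have hn : N.Normal := normal_of_index_eq_two hN
  rcases hn.eq_bot_or_eq_top with h1 | h1
  · obtain ⟨Q, hQ⟩ := Hyp.exists_syl K
    obtain ⟨c, v, n, g⟩ := h.exists_gq hK hQ
    rw [h1, index_bot] at hN
    have h2 : orderOf c ∣ 2 := by rw [← hN]; exact orderOf_dvd_natCard c
    rw [g.ord] at h2
    have h3 := Nat.le_of_dvd (by norm_num) h2
    have h4 : 2 ^ 1 < 2 ^ (n + 2) := Nat.pow_lt_pow_right (by norm_num) (by omega)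
    omega
  · rw [h1, index_top] at hN
    exact absurd hN (by norm_num)

/-- `z` is not isolated -/
theorem exists_fusion [IsSimpleGroup G] (h : Hyp Om) (hK : K ∈ Om) (S : Sylow 2 G)
    (hzS : zz K ∈ (S : Subgroup G)) :
    ∃ g : G, g * zz K * g⁻¹ ∈ (S : Subgroup G) ∧ g * zz K * g⁻¹ ≠ zz K := by
  by_contra hcon
  push Not at hcon
  have hz := h.orderOf_zz hK
  obtain ⟨N, hN, hodd, hc⟩ := Cfsg.Agent.S0215.result S (zz K) hz hzS hcon
  rcases hN.eq_bot_or_eq_top with h1 | h1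
  · subst h1
    have h2 : zz K ∈ center G := by
      rw [mem_center_iff]
      intro g
      have h3 := hc g
      rw [mem_bot] at h3
      have h4 : zz K * g = g * zz K := by
        calc zz K * g = (zz K * g * (zz K)⁻¹ * g⁻¹) * (g * zz K) := by group
          _ = g * zz K := by rw [h3, one_mul]
      exact h4.symm
    -- the centre is trivial or everything
    have h5 : (center G).Normal := inferInstance
    rcases h5.eq_bot_or_eq_top with h6 | h6
    · rw [h6, mem_bot] at h2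
      rw [h2, orderOf_one] at hz
      exact absurd hz (by norm_num)
    · obtain ⟨Q, hQ⟩ := Hyp.exists_syl K
      obtain ⟨c, v, n, g⟩ := h.exists_gq hK hQ
      have h7 : c ∈ center G := by rw [h6]; exact mem_top c
      have h8 : v * c * v⁻¹ = c := by rw [mem_center_iff.1 h7 v, mul_inv_cancel_right]
      rw [g.conj] at h8
      have h9 : c ^ 2 = 1 := by
        rw [pow_two]
        nth_rewrite 1 [← h8]
        exact inv_mul_cancel c
      have h10 := orderOf_dvd_of_pow_eq_one h9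
      rw [g.ord] at h10
      have h11 := Nat.le_of_dvd (by norm_num) h10
      have h12 : 2 ^ 1 < 2 ^ (n + 2) := Nat.pow_lt_pow_right (by norm_num) (by omega)
      omega
  · subst h1
    have h2 : (2 : ℕ) ∣ Nat.card (⊤ : Subgroup G) := by
      rw [card_top, ← hz]
      exact orderOf_dvd_natCard (zz K)
    exact (Nat.not_even_iff_odd.2 hodd) (even_iff_two_dvd.2 h2)

/-- the two members of `Om(S)` are mates -/
theorem mate (b : TwoEq Om) (S : Sylow 2 G) (hK : K ∈ OmS Om (S : Subgroup G))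
    (hL : L ∈ OmS Om (S : Subgroup G)) (hne : K ≠ L) : Mate Om K L :=
  ⟨hK.1, hL.1, hne, b.same S K hK L hL⟩

/-- `S` is a Sylow 2-subgroup of `C(z)` -/
theorem syl_cent (b : TwoEq Om) (S : Sylow 2 G) (hK : K ∈ OmS Om (S : Subgroup G)) :
    Syl (S : Subgroup G) (centralizer {zz K}) := by
  have h1 : (S : Subgroup G) ≤ centralizer {zz K} := fun s hs =>
    mem_centralizer_singleton_iff.2 (b.twoE.comm_of_mem S.2 hK hs)
  refine ⟨h1, S.2, fun h2 => ?_⟩
  haveI : Fact (Nat.Prime 2) := ⟨Nat.prime_two⟩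
  apply S.not_dvd_index
  exact h2.trans (relIndex_dvd_index_of_le h1)

/-- a swap in `S` -/
theorem exists_swap_mem (b : TwoEq Om) (m : Mate Om K L) (hS : Syl S (centralizer {zz K})) :
    ∃ s ∈ S, cj s K = L := by
  obtain ⟨s, hs2, hs⟩ := b.exists_swap m
  obtain ⟨R, hR, hsR⟩ := OneBasic.exists_syl_ge hs2 (M := centralizer {zz K}) (by
    rw [zpowers_le]; exact mem_centralizer_singleton_iff.2 (b.comm_of_swap m hs))
  obtain ⟨g, hg, hgR⟩ := hR.exists_conj hS
  have hgz := mem_centralizer_singleton_iff.1 hg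
  have h1 : g * s * g⁻¹ ∈ S := by rw [← hgR]; exact conj_mem_cj (hsR (mem_zpowers s))
  refine ⟨_, h1, ?_⟩
  rcases b.norm_or m (mem_centralizer_singleton_iff.1 (hS.1 h1)) with h2 | h2
  · exfalso
    have h3 : s = g⁻¹ * (g * s * g⁻¹) * g := by group
    rcases b.cj_or m hgz with ⟨e1, e2⟩ | ⟨e1, e2⟩
    · have h4 : g ∈ normalizer (K : Set G) := mem_normalizer_iff_cj.2 e1
      apply b.not_norm m hs
      rw [h3]
      exact mul_mem (mul_mem (inv_mem h4) h2) h4
    · have h5 := mem_normalizer_iff_cj.1 (b.mem_normalizer_mate m h2)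
      apply m.ne
      have h6 : cj s K = K := by
        have e1' : cj g⁻¹ L = K := by rw [← e1, cj_inv_cj]
        rw [h3, cj_mul, cj_mul, e1, h5, e1']
      exact h6.symm.trans hs
  · exact h2

/-- a swap in coordinates -/
theorem exists_sw (b : TwoEq Om) (m : Mate Om K L) (hS : Syl S (centralizer {zz K})) {r1 y1 r2 y2 : G}
    {n1 n2 : ℕ} (h : Sd S (zz K) r1 y1 r2 y2 n1 n2) (g1 : GQ (K ⊓ S) r1 y1 (zz K) n1)
    (g2 : GQ (L ⊓ S) r2 y2 (zz K) n2) :
    n1 = n2 ∧ ∃ s ∈ S, ∃ u1 j1 u2 j2 : ℤ, Sw r1 y1 r2 y2 s u1 j1 u2 j2 := by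
  obtain ⟨s, hs, hsw⟩ := exists_swap_mem b m hS
  rcases h.act s hs with ⟨u1, j1, u2, j2, N⟩ | ⟨hn, u1, j1, u2, j2, N⟩
  · exfalso
    have h3 : s * r1 * s⁻¹ ∈ L ⊓ S :=
      ⟨by rw [← hsw]; exact conj_mem_cj g1.c_mem.1, S.mul_mem (S.mul_mem hs h.h1) (S.inv_mem hs)⟩
    have h4 : s * r1 * s⁻¹ ∈ K ⊓ S := by
      have h5 : s * r1 * s⁻¹ = r1 ^ u1 := N.a1
      rw [h5]
      exact zpow_mem g1.c_mem _
    have h5 := inf_eq b m hS h4 h3
    apply h.q1.odd_ne (i := 1) odd_one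
    rw [zpow_one]
    rcases h5 with h5 | h5
    · left
      have h6 : r1 = s⁻¹ * (s * r1 * s⁻¹) * s := by group
      rw [h6, h5]; group
    · right
      have h6 : r1 = s⁻¹ * (s * r1 * s⁻¹) * s := by group
      rw [h6, h5, mul_assoc, ← h.zc hs, inv_mul_cancel_left]
  · exact ⟨hn, s, hs, u1, j1, u2, j2, N⟩

end Cfsg.Agent.Cit.TwoSyl.SylOne

namespace Cfsg.Agent.Cit.TwoSyl

open Subgroup Cfsg Cit TwoFK GlueOne SylOne

universe u

/-- **D5b, `C_S(Q₁Q₂) = ⟨z⟩`** -/
theorem sylOneStmt : CoreTwoEq.SylOneStmt.{u} := by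
  intro G _ _ _ Om b hT S K hK L hL hne hPP
  have m := mate b S hK hL hne
  have hS := syl_cent b S hK
  have hidx := fun N => index_ne_two b.hyp hK.1 N
  have hF := fk' b hT hidx
  have h0 : PPz K L (S : Subgroup G) := by
    intro s hs h1 h2
    have h3 : s ∈ CoreTwoEq.PP (S : Subgroup G) K L := by
      exact ⟨⟨hs, mem_centralizer_iff.2 fun g hg => (h1 g hg).symm⟩,
        mem_centralizer_iff.2 fun g hg => (h2 g hg).symm⟩
    rw [hPP] at h3
    obtain ⟨i, hi⟩ := h3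
    have hz2 := b.hyp.zz_mul hK.1
    rcases Int.even_or_odd' i with ⟨k, rfl | rfl⟩
    · left
      rw [← hi]
      simp only
      rw [zpow_mul, zpow_two, hz2, one_zpow]
    · right
      rw [← hi]
      simp only
      rw [zpow_add, zpow_mul, zpow_two, hz2, one_zpow, one_mul, zpow_one]
  have hzS : zz K ∈ (S : Subgroup G) := by
    obtain ⟨c, v, n, g⟩ := b.hyp.exists_gq m.hK (syl1 b m hS)
    exact g.z_mem.2
  obtain ⟨r1, y1, r2, y2, n1, n2, h, g1, g2⟩ := exists_sd b hF m hS h0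
  obtain ⟨rfl, s, hs, u1, j1, u2, j2, N⟩ := exists_sw b m hS h g1 g2
  exact GH.Q2.types_of_swap h hs N (exists_tg b hT hF hidx m S hS h0 (exists_fusion b.hyp hK.1 S hzS))

end Cfsg.Agent.Cit.TwoSyl
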