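import Cfsg.Agent.Cit.TwoSyl.Inv
import Cfsg.Agent.Cit.TwoSylModel

/-!
# R18, D5b, (4): the exact relations (`P` cyclic of order at least four, `n ≥ 1`)
-/

set_option autoImplicit false

namespace Cfsg.Agent.Cit.TwoSyl

open Subgroup Cfsg.Agent.GH.Q2

variable {G : Type*} [Group G]

theorem dvd_of_mul_odd {m : ℕ} {a b : ℤ} (hb : Odd b) (h : (2 ^ m : ℤ) ∣ a * b) : (2 ^ m : ℤ) ∣ a := by
  have hc : IsCoprime ((2 : ℤ) ^ m) b := by
    apply IsCoprime.pow_left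
    obtain ⟨k, rfl⟩ := hb
    exact ⟨-k, 1, by ring⟩
  exact hc.dvd_of_dvd_mul_right h

namespace Rf

variable {S P : Subgroup G} {z r1 y1 r2 y2 a a' s x g k ρ w : G} {n : ℕ}
  {b1 b2 c1 c2 u1 j1 u2 j2 : ℤ}

/-- an element of `P` in `⟨r2, y2⟩`. -/
theorem P_q2 (h : Sp S P z r1 y1 r2 y2 n) (hx : x ∈ P) (hq : x ∈ closure ({r2, y2} : Set G)) :
    x = 1 ∨ x = z := by
  obtain ⟨i, rfl | rfl⟩ := h.q2.mem_iff.1 hq
  · exact h.symm.P_r (by
      have := h.symm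
      exact hx)
  · exfalso
    have h1 := h.cP3 hx
    rw [cj_mul_left, h.q2.inv, cj_inv] at h1
    have h2 := Qn.cj_rz_r (r := r2) i 1
    rw [zpow_one] at h2
    rw [h2] at h1
    exact h.q2.r_ne_inv h1.symm

/-- the key computation: `κ (r1 ^ (-c1)) κ⁻¹ = r1 * s1 ^ (1 - b1)`. -/
theorem key (h : Sp S P z r1 y1 r2 y2 n) (f : Rf S P z r1 y1 r2 y2 n k ρ)
    (N : Ns r1 y1 r2 y2 (cj k r1) 1 b1 1 b2) :
    ∃ c κ : G, ∃ c1 : ℤ, c = r1 ^ (-c1) ∧ cj κ z = z ∧ cj κ c = r1 * (cj k r1) ^ (1 - b1) ∧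
      cj k r1 = r1 * ρ ^ (-c1) := by
  obtain ⟨c1, o1, e1, κ, hκ, e2⟩ := f.k1
  refine ⟨_, κ, c1, rfl, hκ, ?_, e1⟩
  have hs1 := h.s1_mem f.al
  have cs : Commute (cj k r1) r1 := by
    have := N.a1
    rw [zpow_one] at this
    exact comm_of_cj this
  have e3 : ρ ^ (-c1) = r1⁻¹ * cj k r1 := by rw [e1]; group
  have e4 : cj y1 (ρ ^ (-c1)) = cj k r1 * r1 ^ (1 - b1) := by
    rw [e3, cj_mul, cj_inv, h.q1.inv, inv_inv, cj_y1_of N, ← mul_assoc, ← cs.eq, mul_assoc,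
      sub_eq_add_neg, zpow_add, zpow_one]
  rw [cj_mul_left, e4] at e2
  have m1 : cj k r1 * r1 ^ (1 - b1) ∈ S := mul_mem hs1.1 (zpow_mem h.h1 _)
  have m2 : Commute (cj k r1 * r1 ^ (1 - b1)) (te r1 r2 n) :=
    hs1.2.mul_left (h.ct_r1.zpow_left _)
  have e5 : cj κ (r1 ^ (-c1)) = cj k⁻¹ (cj k r1 * r1 ^ (1 - b1)) := by
    rw [← e2, cj_inv_cj]
  rw [e5, f.ki' h m1 m2, cj_mul, f.ki h h.h1 h.ct_r1, cj_zpow]

/-- `s1² = p r1 ^ b1 r2 ^ b2`. -/
theorem s2_eq (h : Sp S P z r1 y1 r2 y2 n) (hf : FP S P z) (f : Rf S P z r1 y1 r2 y2 n k ρ)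
    (N : Ns r1 y1 r2 y2 (cj k r1) 1 b1 1 b2) :
    cj k r2 = cj k r1 * r1 ^ (-b1) * r2 ^ (-b2) := by
  rw [← h.v_s1 hf f.al, h.cj_v_of N]

/-- `b1 = 1` modulo the order of `r1`. -/
theorem b1_eq (h : Sp S P z r1 y1 r2 y2 n) (hf : FP S P z) (f : Rf S P z r1 y1 r2 y2 n k ρ)
    (fQ : ∀ c x : G, cj c z = z → x ∈ closure ({r1, y1} : Set G) → cj c x ∈ S →
      cj c x ∈ closure ({r1, y1} : Set G) ∨ cj c x ∈ closure ({r2, y2} : Set G))
    (hn : 1 ≤ n) (N : Ns r1 y1 r2 y2 (cj k r1) 1 b1 1 b2) : r1 ^ (1 - b1) = 1 := by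
  obtain ⟨o1, o2⟩ := h.s1_odd f.al N
  obtain ⟨c, κ, c1, hc, hκ, e, e1⟩ := f.key h N
  have hs1 := h.s1_mem f.al
  have m1 : r1 * (cj k r1) ^ (1 - b1) ∈ S := mul_mem h.h1 (zpow_mem hs1.1 _)
  have mr1 : r1 ∈ closure ({r1, y1} : Set G) := subset_closure (by simp)
  have Nz : Ns r1 y1 r2 y2 ((cj k r1) ^ (1 - b1)) 1 ((1 - b1) * b1) 1 ((1 - b1) * b2) := ns_zpow N (1 - b1)
  rcases fQ κ c hκ (by rw [hc]; exact zpow_mem mr1 _) (by rw [e]; exact m1) with h1 | h1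
  · rw [e] at h1
    have h2 : (cj k r1) ^ (1 - b1) ∈ closure ({r1, y1} : Set G) := by
      have := mul_mem (inv_mem mr1) h1
      rwa [inv_mul_cancel_left] at this
    have h3 : cj ((cj k r1) ^ (1 - b1)) y2 = y2 :=
      cj_eq_self (h.comm h2 (subset_closure (by simp)))
    have h4 : r2 ^ ((1 - b1) * b2) = 1 := by
      have := Nz.b2.symm.trans h3
      exact mul_eq_right.1 this
    rw [h.q2.zpow_eq_one] at h4
    rw [h.q1.zpow_eq_one]
    exact dvd_of_mul_odd o2 h4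
  · exfalso
    rw [e] at h1
    have h3 : cj (r1 * (cj k r1) ^ (1 - b1)) y1 = y1 :=
      cj_eq_self (h.comm (subset_closure (by simp)) h1).symm
    have h4 : r1 ^ ((1 - b1) * b1 + 2) = 1 := by
      rw [cj_mul_left, Nz.b1, cj_mul] at h3
      have e5 : cj r1 (r1 ^ ((1 - b1) * b1)) = r1 ^ ((1 - b1) * b1) := by
        have := Qn.cj_rz_r (r := r1) 1 ((1 - b1) * b1)
        rwa [zpow_one] at this
      rw [e5, h.q1.cj_r_y, ← mul_assoc, ← zpow_add] at h3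
      exact mul_eq_right.1 h3
    rw [h.q1.zpow_eq_one] at h4
    have h5 : (2 ^ (n + 2) : ℤ) ∣ 1 + b1 := by
      apply dvd_of_mul_odd (b := 2 - b1)
      · exact (even_two).sub_odd o1
      · convert h4 using 1; ring
    have h6 : r1 ^ (1 + b1) = 1 := h.q1.zpow_eq_one.2 h5
    have h7 : (cj k r1) ^ (1 - b1) = cj k r1 * cj k r1 := by
      have e6 : (cj k r1) ^ (1 + b1) = 1 := by rw [← cj_zpow, h6, cj_one]
      have : (1 - b1) = 2 - (1 + b1) := by ring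
      rw [this, zpow_sub, e6, inv_one, mul_one, zpow_two]
    have hp := h.p_mem hf f.al
    have hs2 := f.s2_eq h hf N
    have cs : Commute (cj k r1) r1 := by
      have := N.a1
      rw [zpow_one] at this
      exact comm_of_cj this
    have h8 : r1 * (cj k r1) ^ (1 - b1) = (cj k r1 * cj k r2) * r2 ^ b2 := by
      rw [h7, hs2]
      have e7 : r1 ^ (-b1) = r1 := by
        have : -b1 = 1 - (1 + b1) := by ring
        rw [this, zpow_sub, h6, inv_one, mul_one, zpow_one]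
      rw [e7]
      have e8 : r1 * (cj k r1 * cj k r1) = (cj k r1 * cj k r1) * r1 :=
        (cs.mul_left cs).symm.eq
      rw [e8, zpow_neg]
      group
    rw [h8] at h1
    have mr2 : r2 ^ b2 ∈ closure ({r2, y2} : Set G) := zpow_mem (subset_closure (by simp)) _
    have h9 : cj k r1 * cj k r2 ∈ closure ({r2, y2} : Set G) := by
      have := mul_mem h1 (inv_mem mr2)
      rwa [mul_inv_cancel_right] at this
    have h10 := h.p_pow f.al
    obtain ⟨m, rfl⟩ : ∃ m, n = m + 1 := ⟨n - 1, by omega⟩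
    rcases P_q2 h hp h9 with h11 | h11
    · rw [h11, one_pow] at h10
      exact h.q1.z_ne h10.symm
    · rw [h11, pow_succ, mul_comm, pow_mul, pow_two, h.zz, one_pow] at h10
      exact h.q1.z_ne h10.symm

/-- `⟨r2⟩ ∩ ⟨ρ⟩ = 1`. -/
theorem rho_inf (h : Sp S P z r1 y1 r2 y2 n) (f : Rf S P z r1 y1 r2 y2 n k ρ) {i j : ℤ}
    (e : r2 ^ i = ρ ^ j) : r2 ^ i = 1 := by
  by_contra hne
  obtain ⟨g0, hρ, hg0⟩ := f.ex
  -- a power of `r2 ^ i` equals `z`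
  have h1 : ∃ m : ℤ, (r2 ^ i) ^ m = z := by
    classical
    have hex : ∃ m : ℕ, (r2 ^ i) ^ (2 ^ m) = 1 := ⟨n + 2, by
      rw [← zpow_natCast, ← zpow_mul, mul_comm, zpow_mul, zpow_natCast, h.q2.rp2, one_zpow]⟩
    obtain ⟨m, hm⟩ : ∃ m, Nat.find hex = m := ⟨_, rfl⟩
    have h2 := Nat.find_spec hex
    have h3 := fun l => Nat.find_min hex (m := l)
    rw [hm] at h2 h3
    rcases m with _ | m
    · rw [pow_zero, pow_one] at h2
      exact (hne h2).elim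
    · have h4 := h3 m (Nat.lt_succ_self m)
      refine ⟨2 ^ m, ?_⟩
      have h5 : (r2 ^ i) ^ ((2 : ℤ) ^ m) = (r2 ^ i) ^ (2 ^ m) := by
        exact_mod_cast rfl
      have h6 : r2 ^ (2 * (i * 2 ^ m)) = 1 := by
        have : (2 * (i * 2 ^ m) : ℤ) = i * ((2 ^ (m + 1) : ℕ) : ℤ) := by push_cast; ring
        rw [this, zpow_mul, zpow_natCast, h2]
      rcases h.q2.sqrt1 h6 with h7 | h7
      · rw [zpow_mul, h5] at h7
        exact (h4 h7).elim
      · rwa [zpow_mul] at h7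
  obtain ⟨m, hm⟩ := h1
  rw [e, ← zpow_mul, hρ, ← cj_zpow] at hm
  have h3 : r1 ^ (j * m) * r1 ^ (j * m) = 1 := by
    apply cj_inj (s := g0)
    rw [cj_mul, hm, h.zz, cj_one]
  rw [← zpow_add, ← two_mul] at h3
  rcases h.q1.sqrt1 h3 with h4 | h4
  · rw [h4, cj_one] at hm
    exact h.q1.z_ne hm.symm
  · rw [h4, hg0] at hm
    have h5 : te r1 r2 n = 1 := mul_eq_right.1 hm
    exact h.t_ne_one h5

/-- **(4)** the exact relations. -/
theorem lq_of (h : Sp S P z r1 y1 r2 y2 n) (hf : FP S P z) (f : Rf S P z r1 y1 r2 y2 n k ρ)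
    (fQ : ∀ c x : G, cj c z = z → x ∈ closure ({r1, y1} : Set G) → cj c x ∈ S →
      cj c x ∈ closure ({r1, y1} : Set G) ∨ cj c x ∈ closure ({r2, y2} : Set G))
    (hn : 1 ≤ n) (gS : S = closure {r1, r2, cj k r1, y1, cj k (y1 * y2)}) :
    TwoSylModel.LQ S n z r1 r2 (cj k r1) y1 (cj k (y1 * y2)) := by
  obtain ⟨b1, b2, N⟩ := h.s1_ns hf f.al
  have e1 := f.b1_eq h hf fQ hn N
  have cs1 : Commute (cj k r1) r1 := by
    have := N.a1
    rw [zpow_one] at this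
    exact comm_of_cj this
  have cs2 : Commute (cj k r1) r2 := by
    have := N.a2
    rw [zpow_one] at this
    exact comm_of_cj this
  have f1 : r1 ^ (-b1) = r1⁻¹ := by
    have : -b1 = (1 - b1) + (-1) := by ring
    rw [this, zpow_add, e1, one_mul, zpow_neg_one]
  have hs2 := f.s2_eq h hf N
  obtain ⟨c1, -, g1, -⟩ := f.k1
  obtain ⟨c2, g2⟩ := f.k2
  obtain ⟨d1, d2, Nρ⟩ := f.ns
  have cρ1 : Commute ρ r1 := by
    have := Nρ.a1
    rw [zpow_one] at this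
    exact comm_of_cj this
  have e2 : r2 ^ (1 + b2) = ρ ^ (c2 - c1) := by
    rw [g2, f1] at hs2
    have e3 : cj k r1 * r1⁻¹ = ρ ^ (-c1) := by
      rw [g1, (cρ1.zpow_left (-c1)).symm.eq, mul_inv_cancel_right]
    rw [e3] at hs2
    have e4 : r2 = ρ ^ (-c1) * r2 ^ (-b2) * ρ ^ c2 := by
      rw [← hs2, mul_assoc, ← zpow_add, neg_add_cancel, zpow_zero, mul_one]
    have cρ2 : Commute ρ r2 := by
      have := Nρ.a2
      rw [zpow_one] at this
      exact comm_of_cj this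
    calc r2 ^ (1 + b2) = r2 * r2 ^ b2 := by rw [zpow_add, zpow_one]
      _ = ρ ^ (-c1) * r2 ^ (-b2) * ρ ^ c2 * r2 ^ b2 := by rw [← e4]
      _ = ρ ^ (-c1) * (r2 ^ (-b2) * (ρ ^ c2 * r2 ^ b2)) := by group
      _ = ρ ^ (-c1) * (r2 ^ (-b2) * (r2 ^ b2 * ρ ^ c2)) := by rw [(cρ2.zpow_zpow c2 b2).eq]
      _ = _ := by
        rw [← mul_assoc (r2 ^ (-b2)), ← zpow_add, neg_add_cancel, zpow_zero, one_mul, ← zpow_add]
        congr 1
        ring
  have e3 := f.rho_inf h e2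
  have f2 : r2 ^ (-b2) = r2 := by
    have : -b2 = 1 - (1 + b2) := by ring
    rw [this, zpow_sub, e3, inv_one, mul_one, zpow_one]
  rw [f1, f2] at hs2
  obtain ⟨j1, j2, T⟩ := f.kv_sw h hf
  refine ⟨h.q1.z_ne, h.zz, h.rr, cs1.symm.eq, cs2.symm.eq, h.q1.rp, h.q2.rp, ?_, h.q1.ys, h.q1.inv,
    cj_eq_self h.yr, ?_, f.kv_kv h, f.kv_r1 h hf, f.kv_s1 h, ?_, gS⟩
  · have := h.p_pow f.al
    rw [hs2] at this
    rw [← this]
    congr 1
    group
  · have := cj_y1_of N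
    rwa [f1] at this
  · have h1 : cj (cj k (y1 * y2)) y1 = r2 ^ j1 * y2 := T.b1
    rw [cj_def] at h1
    rw [h1]
    exact ((show Commute y1 r2 from h.yr).zpow_right j1).mul_right (show Commute y1 y2 from h.yy)

end Rf

end Cfsg.Agent.Cit.TwoSyl
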