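import Cfsg.Agent.Cit.TwoSyl.Hh

/-!
# R18, D5b, (3.3): conjugates of `z` acting diagonally on both factors do not exist (`P` cyclic of order at least four)
-/

set_option autoImplicit false

namespace Cfsg.Agent.Cit.TwoSyl

open Subgroup Cfsg.Agent.GH.Q2

variable {G : Type*} [Group G]

/-- `GH.Q2.ext_conj` with the hypothesis for involutions only. -/
theorem ext_conji [Finite G] (S : Sylow 2 G) {z : G} (hSz : ∀ s ∈ (S : Subgroup G), s * z = z * s)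
    (hzz : z * z = 1) (hZ : ∀ s ∈ (S : Subgroup G), s * s = 1 → (∀ w ∈ (S : Subgroup G), w * s = s * w) → s = 1 ∨ s = z)
    (g : G) (hg : cj g z ∈ (S : Subgroup G)) (hgz : cj g z ≠ z) : ∃ c k : G, cj c z = z ∧
      cj (c * g) z ∈ (S : Subgroup G) ∧ cj k (cj (c * g) z) = cj (c * g) z ∧ cj k z ≠ z ∧
      ∀ w ∈ (S : Subgroup G), w * cj (c * g) z = cj (c * g) z * w → cj k w ∈ (S : Subgroup G) := by
  classical
  have hp : Fact (Nat.Prime 2) := ⟨Nat.prime_two⟩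
  have hz1 : z ≠ 1 := by
    rintro rfl
    simp at hgz
  have hSP : IsPGroup 2 (S : Subgroup G) := S.2
  have hSC : (S : Subgroup G) ≤ centralizer {z} := fun s hs => mem_cz.2 (hSz s hs)
  -- choose `c` with maximal centralizer
  let T : Set G := {c | cj c z = z ∧ cj (c * g) z ∈ (S : Subgroup G)}
  have hT : T.Nonempty := ⟨1, by simp, by simpa using hg⟩
  have hTf : T.Finite := Set.toFinite _
  obtain ⟨c, ⟨hc, hcS⟩, hmax⟩ := Set.exists_max_image T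
    (fun c => Nat.card ↥((S : Subgroup G) ⊓ centralizer {cj (c * g) z})) hTf hT
  set s := cj (c * g) z with hs
  have hsz : s ≠ z := by
    rw [hs, cj_mul_left]
    intro h
    apply hgz
    rw [cj_eq_iff] at h
    rw [h]; exact cj_inv_z hc
  have hs1 : s ≠ 1 := cj_ne_one hz1
  set W : Subgroup G := (S : Subgroup G) ⊓ centralizer {s} with hW
  have hWP : IsPGroup 2 W := isPGroup_inf hSP
  have hsS : s ∈ W := ⟨hcS, mem_cz.2 rfl⟩
  -- `W` is a maximal 2-subgroup of `C(z) ∩ C(s)`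
  have hWmax : ∀ X : Subgroup G, IsPGroup 2 X → X ≤ centralizer {z} ⊓ centralizer {s} → W ≤ X →
      X = W := by
    intro X hX hXD hWX
    obtain ⟨d, hd, hdX⟩ := conj_into hSP hSC (sylow_max S _) hX (hXD.trans inf_le_left)
    have hd' : cj d z = z := cj_eq_self (mem_cz.1 hd)
    have hdT : d * c ∈ T := by
      refine ⟨by rw [cj_mul_left, hc, hd'], ?_⟩
      rw [mul_assoc, cj_mul_left]
      exact hdX _ (hWX hsS)
    have h1 := hmax _ hdT
    have h2 : X.map (MulAut.conj d).toMonoidHom ≤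
        (S : Subgroup G) ⊓ centralizer {cj (d * c * g) z} := by
      rintro _ ⟨x, hx, rfl⟩
      refine ⟨hdX x hx, mem_cz.2 ?_⟩
      change cj d x * cj (d * c * g) z = cj (d * c * g) z * cj d x
      rw [mul_assoc, cj_mul_left, ← cj_mul, ← cj_mul, ← hs, mem_cz.1 (hXD hx).2]
    have h3 := card_le_of_le h2
    rw [card_map_cj] at h3
    exact (eq_of_le_of_card_ge hWX (h3.trans h1)).symm
  -- a Sylow 2-subgroup of `C(s)` containing `W`
  have hconj : (S : Subgroup G).map (MulAut.conj (c * g)).toMonoidHom ≤ centralizer {s} := by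
    rintro _ ⟨x, hx, rfl⟩
    refine mem_cz.2 ?_
    change cj (c * g) x * s = s * cj (c * g) x
    rw [hs, ← cj_mul, ← cj_mul, hSz x hx]
  have hconjP := isPGroup_cj hSP (c * g)
  have hconjmax : ∀ X : Subgroup G, IsPGroup 2 X → X ≤ centralizer {s} →
      (S : Subgroup G).map (MulAut.conj (c * g)).toMonoidHom ≤ X →
      X = (S : Subgroup G).map (MulAut.conj (c * g)).toMonoidHom := by
    intro X hX _ hle
    exact (eq_of_card S hX hle (card_map_cj _ _)).symm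
  obtain ⟨d, hd, hdW⟩ := conj_into hconjP hconj hconjmax hWP inf_le_right
  set P : Subgroup G := ((S : Subgroup G).map (MulAut.conj (c * g)).toMonoidHom).map
    (MulAut.conj d⁻¹).toMonoidHom with hPdef
  have hPP : IsPGroup 2 P := isPGroup_cj hconjP _
  have hPc : Nat.card P = Nat.card (S : Subgroup G) := by
    rw [hPdef, card_map_cj, card_map_cj]
  have hPs : P ≤ centralizer {s} := by
    rintro _ ⟨x, hx, rfl⟩
    refine mem_cz.2 ?_
    change cj d⁻¹ x * s = s * cj d⁻¹ x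
    have e : cj d⁻¹ s = s := cj_inv_z (cj_eq_self (mem_cz.1 hd))
    have h1 := mem_cz.1 (hconj hx)
    conv_lhs => rw [← e]
    conv_rhs => rw [← e]
    rw [← cj_mul, ← cj_mul, h1]
  have hWP' : W ≤ P := by
    intro w hw
    exact ⟨cj d w, hdW w hw, cj_inv_cj d w⟩
  have hne : W ≠ P := by
    intro h
    have h1 : W = (S : Subgroup G) := by
      have h0 : Nat.card W = Nat.card (S : Subgroup G) := by rw [h, hPc]
      exact eq_of_le_of_card_ge inf_le_left h0.ge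
    have h2 : ∀ w ∈ (S : Subgroup G), w * s = s * w := by
      intro w hw
      rw [← h1] at hw
      exact mem_cz.1 hw.2
    rcases hZ s hcS (by rw [hs, ← cj_mul, hzz, cj_one]) h2 with h3 | h3
    · exact hs1 h3
    · exact hsz h3
  obtain ⟨k, hk, hkW, hkn⟩ := exists_normalizing hPP hWP' hne
  refine ⟨c, k, hc, hcS, ?_, ?_, ?_⟩
  · exact cj_eq_self (mem_cz.1 (hPs hk))
  · intro hkz
    have h1 := hWmax ((W ⊔ zpowers k)) ?_ ?_ le_sup_left
    · apply hkW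
      rw [← h1]
      exact mem_sup_right (mem_zpowers k)
    · exact hPP.to_le (sup_le hWP' (by rw [zpowers_le]; exact hk))
    · refine sup_le ?_ ?_
      · intro w hw
        exact ⟨hSC hw.1, hw.2⟩
      · rw [zpowers_le]
        exact ⟨mem_cz.2 (cj_eq_self_iff.1 hkz), hPs hk⟩
  · intro w hw hws
    exact (hkn w ⟨hw, mem_cz.2 hws⟩).1


section Conj

variable {z r1 y1 r2 y2 s t' : G} {n : ℕ} {u1 j1 u2 j2 v1 k1 v2 k2 : ℤ}

/-- one factor -/
theorem cj_half {r y r' y' : G} {u j v k : ℤ} (a : cj s r = r ^ u) (b : cj s y = r ^ j * y)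
    (a' : cj t' r = r' ^ v) (b' : cj t' y = r' ^ k * y') (hv : v * v = 1) :
    cj (cj t' s) r' = r' ^ u ∧ cj (cj t' s) y' = r' ^ (v * j + k * (1 - u)) * y' := by
  have e1 : cj t' (r ^ v) = r' := by rw [cj_zpow, a', ← zpow_mul, hv, zpow_one]
  have e2 : cj t' (r ^ (-(v * k)) * y) = y' := by
    rw [cj_mul, cj_zpow, a', b', ← zpow_mul, ← mul_assoc, ← zpow_add]
    have : v * -(v * k) + k = 0 := by linear_combination (-k) * hv
    rw [this, zpow_zero, one_mul]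
  constructor
  · calc cj (cj t' s) r' = cj (cj t' s) (cj t' (r ^ v)) := by rw [e1]
      _ = cj t' (cj s (r ^ v)) := cj_cj _ _ _
      _ = r' ^ u := by
        rw [cj_zpow s, a, cj_zpow, cj_zpow, a', ← zpow_mul, ← zpow_mul]
        congr 1
        linear_combination u * hv
  · calc cj (cj t' s) y' = cj (cj t' s) (cj t' (r ^ (-(v * k)) * y)) := by rw [e2]
      _ = cj t' (cj s (r ^ (-(v * k)) * y)) := cj_cj _ _ _
      _ = r' ^ (v * j + k * (1 - u)) * y' := by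
        rw [cj_mul s, cj_zpow s, a, b, cj_mul, cj_mul, cj_zpow, cj_zpow, cj_zpow, a', b', ← zpow_mul,
          ← zpow_mul, ← zpow_mul, ← mul_assoc, ← mul_assoc, ← zpow_add, ← zpow_add]
        congr 2
        linear_combination (-(u * k)) * hv

theorem Pm.sq {v : ℤ} (h : Pm v) : v * v = 1 := by rcases h with rfl | rfl <;> norm_num

theorem ns_cj (N : Ns r1 y1 r2 y2 s u1 j1 u2 j2) (T : Ns r1 y1 r2 y2 t' v1 k1 v2 k2) (p1 : Pm v1)
    (p2 : Pm v2) :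
    Ns r1 y1 r2 y2 (cj t' s) u1 (v1 * j1 + k1 * (1 - u1)) u2 (v2 * j2 + k2 * (1 - u2)) := by
  obtain ⟨e1, e2⟩ := cj_half N.a1 N.b1 T.a1 T.b1 p1.sq
  obtain ⟨e3, e4⟩ := cj_half N.a2 N.b2 T.a2 T.b2 p2.sq
  exact ⟨e1, e2, e3, e4⟩

theorem ns_cj_sw (N : Ns r1 y1 r2 y2 s u1 j1 u2 j2) (T : Sw r1 y1 r2 y2 t' v1 k1 v2 k2) (p1 : Pm v1)
    (p2 : Pm v2) :
    Ns r1 y1 r2 y2 (cj t' s) u2 (v2 * j2 + k2 * (1 - u2)) u1 (v1 * j1 + k1 * (1 - u1)) := by
  obtain ⟨e1, e2⟩ := cj_half N.a1 N.b1 T.a1 T.b1 p1.sq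
  obtain ⟨e3, e4⟩ := cj_half N.a2 N.b2 T.a2 T.b2 p2.sq
  exact ⟨e3, e4, e1, e2⟩

/-- the type of an element of `R`. -/
theorem ns_RR (h : Co z r1 y1 r2 y2 n n) (hs : s ∈ RR r1 y1 r2 y2) :
    ∃ w1 l1 w2 l2 : ℤ, Pm w1 ∧ Pm w2 ∧ Even l1 ∧ Even l2 ∧ Ns r1 y1 r2 y2 s w1 l1 w2 l2 := by
  obtain ⟨i, j, e⟩ := h.mem_R.1 hs
  have ei : Even (2 * i) := ⟨i, by ring⟩
  have ej : Even (2 * j) := ⟨j, by ring⟩
  rcases e with rfl | rfl | rfl | rfl
  · refine ⟨1, 2 * i, 1, 2 * j, Or.inl rfl, Or.inl rfl, ei, ej, ?_⟩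
    convert (h.ns_r1 i).mul (h.ns_r2 j) using 1 <;> ring
  · refine ⟨-1, 2 * i, 1, 2 * j, Or.inr rfl, Or.inl rfl, ei, ej, ?_⟩
    convert ((h.ns_r1 i).mul h.ns_y1).mul (h.ns_r2 j) using 1 <;> ring
  · refine ⟨1, 2 * i, -1, 2 * j, Or.inl rfl, Or.inr rfl, ei, ej, ?_⟩
    convert (h.ns_r1 i).mul ((h.ns_r2 j).mul h.ns_y2) using 1 <;> ring
  · refine ⟨-1, 2 * i, -1, 2 * j, Or.inr rfl, Or.inr rfl, ei, ej, ?_⟩
    convert ((h.ns_r1 i).mul h.ns_y1).mul ((h.ns_r2 j).mul h.ns_y2) using 1 <;> ring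

end Conj

namespace Sp

variable {S P : Subgroup G} {z r1 y1 r2 y2 a b s w x g k : G} {n : ℕ} {c1 c2 u1 j1 u2 j2 v1 v2 : ℤ}

theorem invol_u (h : Sp S P z r1 y1 r2 y2 n) (N : Ns r1 y1 r2 y2 s u1 j1 u2 j2) (p1 : Pm u1)
    (o1 : Odd j1) (ss : s * s = 1) : u1 = -1 := by
  rcases p1 with rfl | rfl
  · exfalso
    have h1 := N.mul N
    rw [ss] at h1
    have h2 := ns_exp1 h1 Ns.one
    rw [zpow_zero] at h2
    have h3 : r1 ^ (2 * j1) = 1 := by rw [← h2]; congr 1; ring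
    exact h.q1.odd_ne o1 (h.q1.sqrt1 h3)
  · rfl

/-- the type of a nonswap element commuting with `s`. -/
theorem cpar (h : Sp S P z r1 y1 r2 y2 n) (N : Ns r1 y1 r2 y2 s (-1) j1 (-1) j2) (o1 : Odd j1)
    (N' : Ns r1 y1 r2 y2 w v1 c1 v2 c2) (p1 : Pm v1) (e : w * s = s * w) :
    (v1 = 1 ∧ Even c1 ∧ r1 ^ (c1 + c1) = 1) ∨ (v1 = -1 ∧ Odd c1) := by
  have h1 := N'.mul N
  have h2 := N.mul N'
  rw [e] at h1
  have h3 := ns_exp1 h1 h2
  rcases p1 with rfl | rfl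
  · left
    have h4 : r1 ^ (c1 + c1) = 1 := by
      have : c1 + c1 = (1 * j1 + c1) - (-1 * c1 + j1) := by ring
      rw [this, zpow_sub, h3, mul_inv_cancel]
    refine ⟨rfl, ?_, h4⟩
    by_contra hc
    rw [Int.not_even_iff_odd] at hc
    rw [← two_mul] at h4
    exact h.q1.odd_ne hc (h.q1.sqrt1 h4)
  · right
    refine ⟨rfl, ?_⟩
    have h4 : r1 ^ (2 * (c1 - j1)) = 1 := by
      have : 2 * (c1 - j1) = (-1 * j1 + c1) - (-1 * c1 + j1) := by ring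
      rw [this, zpow_sub, h3, mul_inv_cancel]
    by_contra hc
    rw [Int.not_odd_iff_even] at hc
    exact h.q1.odd_ne (hc.sub_odd o1) (h.q1.sqrt1 h4)

/-- the two possibilities for a nonswap element commuting with `s`. -/
theorem ctyp (h : Sp S P z r1 y1 r2 y2 n) (N : Ns r1 y1 r2 y2 s (-1) j1 (-1) j2) (o1 : Odd j1) (o2 : Odd j2)
    (hw : w ∈ S) (N' : Ns r1 y1 r2 y2 w v1 c1 v2 c2) (p1 : Pm v1) (p2 : Pm v2) (e : w * s = s * w) :
    (v1 = 1 ∧ v2 = 1 ∧ Even c1 ∧ Even c2 ∧ r1 ^ (c1 + c1) = 1 ∧ r2 ^ (c2 + c2) = 1) ∨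
      (v1 = -1 ∧ v2 = -1) := by
  have hp := h.par w hw _ _ _ _ N'
  rcases h.cpar N o1 N' p1 e with ⟨a1, a2, a3⟩ | ⟨a1, a2⟩ <;>
    rcases h.symm.cpar N.symm o2 N'.symm p2 e with ⟨b1, b2, b3⟩ | ⟨b1, b2⟩
  · exact Or.inl ⟨a1, b1, a2, b2, a3, b3⟩
  · exfalso
    rw [Int.even_add] at hp
    exact (Int.not_even_iff_odd.2 b2) (hp.1 a2)
  · exfalso
    rw [Int.even_add] at hp
    exact (Int.not_even_iff_odd.2 a2) (hp.2 b2)
  · exact Or.inr ⟨a1, b1⟩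

/-- squares of nonswap elements commuting with `s`. -/
theorem csq (h : Sp S P z r1 y1 r2 y2 n) (N : Ns r1 y1 r2 y2 s (-1) j1 (-1) j2) (o1 : Odd j1) (o2 : Odd j2)
    (hw : w ∈ S) (N' : Ns r1 y1 r2 y2 w v1 c1 v2 c2) (p1 : Pm v1) (p2 : Pm v2) (e : w * s = s * w) :
    w * w ∈ P := by
  rcases h.ctyp N o1 o2 hw N' p1 p2 e with ⟨rfl, rfl, -, -, e1, e2⟩ | ⟨rfl, rfl⟩
  · exact (h.mP _).2 ⟨mul_mem hw hw, ns_congr (ns_mul N' N') (by rw [e1, zpow_zero]) (by rw [e2, zpow_zero])⟩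
  · exact h.sq_mem hw N'

/-- nonswap elements commuting with `s`. -/
theorem cstr (h : Sp S P z r1 y1 r2 y2 n) (hs : s ∈ S) (hsP : ∀ x ∈ P, cj s x = x)
    (N : Ns r1 y1 r2 y2 s (-1) j1 (-1) j2) (ss : s * s = 1)
    (o1 : Odd j1) (o2 : Odd j2)
    (hw : w ∈ S) (N' : Ns r1 y1 r2 y2 w v1 c1 v2 c2) (p1 : Pm v1) (p2 : Pm v2) (e : w * s = s * w) :
    ∃ π ∈ P, w = π ∨ w = te r1 r2 n * π ∨ w = π * s ∨ w = te r1 r2 n * π * s := by
  have key : ∀ w ∈ S, w * s = s * w → (∃ c1 c2 : ℤ, Even c1 ∧ Even c2 ∧ Ns r1 y1 r2 y2 w 1 c1 1 c2) →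
      ∃ π ∈ P, w = π ∨ w = te r1 r2 n * π := by
    rintro w hw e ⟨c1, c2, e1, e2, N'⟩
    obtain ⟨i, hi⟩ := e1.two_dvd
    obtain ⟨j, hj⟩ := e2.two_dvd
    rw [hi, hj] at N'
    obtain ⟨π, hπ, rfl⟩ := h.even_dec hw N'
    have h1 := cj_eq_self e.symm
    rw [cj_mul, cj_mul, cj_zpow, cj_zpow, N.a1, N.a2, hsP π hπ] at h1
    have h2 := mul_right_cancel h1
    rw [← zpow_mul, ← zpow_mul] at h2
    have f1 : (-1 * i - i) = -(2 * i) := by ring
    have f2 : (-1 * j - j) = -(2 * j) := by ring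
    have h3 := Sd.A0_eq h.toCo h2
    rw [f1, f2, zpow_neg, zpow_neg, inv_eq_one, inv_eq_one] at h3
    have zi := h.q1.zz
    rcases h3 with ⟨g1, g2⟩ | ⟨g1, g2⟩
    · refine ⟨r1 ^ i * r2 ^ j * π, ?_, Or.inl rfl⟩
      have m1 : r1 ^ i ∈ P := by
        rcases h.q1.sqrt1 g1 with g | g <;> rw [g]
        exacts [one_mem _, h.zP]
      have m2 : r2 ^ j ∈ P := by
        rcases h.q2.sqrt1 g2 with g | g <;> rw [g]
        exacts [one_mem _, h.zP]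
      exact mul_mem (mul_mem m1 m2) hπ
    · rw [inv_eq_iff_eq_inv, zi] at g1 g2
      have zr2 : z * r2 ^ (2 ^ n) = r2 ^ (2 ^ n) * z :=
        (Commute.pow_right (show Commute z r2 from h.q2.zr) _)
      have m : r1 ^ i * r2 ^ j = te r1 r2 n ∨ r1 ^ i * r2 ^ j = te r1 r2 n * z := by
        unfold te
        rcases h.q1.sqrtz g1 with f1 | f1 <;> rcases h.q2.sqrtz g2 with f2 | f2 <;> rw [f1, f2]
        · left; rfl
        · right; rw [mul_assoc]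
        · right; rw [mul_assoc, zr2, mul_assoc]
        · left; rw [mul_assoc, ← mul_assoc z, zr2, mul_assoc, h.zz, mul_one]
      rcases m with m | m
      · exact ⟨π, hπ, Or.inr (by rw [m])⟩
      · exact ⟨z * π, mul_mem h.zP hπ, Or.inr (by rw [m, mul_assoc])⟩
  rcases h.ctyp N o1 o2 hw N' p1 p2 e with ⟨rfl, rfl, e1, e2, -, -⟩ | ⟨rfl, rfl⟩
  · obtain ⟨π, hπ, h1 | h1⟩ := key w hw e ⟨c1, c2, e1, e2, N'⟩
    · exact ⟨π, hπ, Or.inl h1⟩
    · exact ⟨π, hπ, Or.inr (Or.inl h1)⟩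
  · have hws : w * s ∈ S := mul_mem hw hs
    have he : w * s * s = s * (w * s) := by rw [e, mul_assoc, ← e, ← mul_assoc]
    have hN := N'.mul N
    have e11 : (-1 : ℤ) * -1 = 1 := by norm_num
    have hN1 : Ns r1 y1 r2 y2 (w * s) 1 (-1 * j1 + c1) 1 (-1 * j2 + c2) := by
      rwa [e11] at hN
    rcases h.ctyp N o1 o2 hws hN1 (Or.inl rfl) (Or.inl rfl) he with ⟨-, -, e1, e2, -, -⟩ | ⟨h1, -⟩
    · obtain ⟨π, hπ, h1 | h1⟩ := key _ hws he ⟨_, _, e1, e2, hN1⟩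
      · refine ⟨π, hπ, Or.inr (Or.inr (Or.inl ?_))⟩
        rw [← h1, mul_assoc, ss, mul_one]
      · refine ⟨π, hπ, Or.inr (Or.inr (Or.inr ?_))⟩
        rw [← h1, mul_assoc, ss, mul_one]
    · norm_num at h1

/-- commutators of `a ∈ C_S(s)` with `{1, t} P {1, s}`. -/
theorem comm_aux (h : Sp S P z r1 y1 r2 y2 n) (ha : a ∈ S) (e : a * s = s * a)
    (hb : ∃ π ∈ P, b = π ∨ b = te r1 r2 n * π ∨ b = π * s ∨ b = te r1 r2 n * π * s) :
    cj a b * b⁻¹ ∈ P := by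
  obtain ⟨π, hπ, hb⟩ := hb
  have h1 : cj a π * π⁻¹ ∈ P := mul_mem (h.P_nor ha hπ) (inv_mem hπ)
  have h2 : cj a (te r1 r2 n) * (te r1 r2 n)⁻¹ ∈ P := by
    rcases h.cj_t ha with h3 | h3
    · rw [h3, mul_inv_cancel]; exact one_mem _
    · rw [h3, h.tz, mul_inv_cancel_right]; exact h.zP
  have h3 : cj a s = s := cj_eq_self e
  have ct : Commute (cj a π * π⁻¹) (te r1 r2 n)⁻¹ := (h.ct_P h1).inv_right
  have h4 : cj a (te r1 r2 n * π) * (te r1 r2 n * π)⁻¹ ∈ P := by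
    have : cj a (te r1 r2 n * π) * (te r1 r2 n * π)⁻¹ =
        (cj a (te r1 r2 n) * (te r1 r2 n)⁻¹) * (cj a π * π⁻¹) := by
      rw [cj_mul, mul_inv_rev]
      calc cj a (te r1 r2 n) * cj a π * (π⁻¹ * (te r1 r2 n)⁻¹)
          = cj a (te r1 r2 n) * ((cj a π * π⁻¹) * (te r1 r2 n)⁻¹) := by group
        _ = cj a (te r1 r2 n) * ((te r1 r2 n)⁻¹ * (cj a π * π⁻¹)) := by rw [ct.eq]
        _ = _ := by group
    rw [this]
    exact mul_mem h2 h1
  rcases hb with rfl | rfl | rfl | rfl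
  · exact h1
  · exact h4
  · have : cj a (π * s) * (π * s)⁻¹ = cj a π * π⁻¹ := by rw [cj_mul, h3]; group
    rw [this]; exact h1
  · have : cj a (te r1 r2 n * π * s) * (te r1 r2 n * π * s)⁻¹ =
        cj a (te r1 r2 n * π) * (te r1 r2 n * π)⁻¹ := by rw [cj_mul, h3]; group
    rw [this]; exact h4

/-- all commutators of `C_S(s)` lie in `P`. -/
theorem comm_all (h : Sp S P z r1 y1 r2 y2 n) (hs : s ∈ S) (hsP : ∀ x ∈ P, cj s x = x)
    (N : Ns r1 y1 r2 y2 s (-1) j1 (-1) j2) (ss : s * s = 1)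
    (o1 : Odd j1) (o2 : Odd j2) (ha : a ∈ S) (hb : b ∈ S) (ea : a * s = s * a) (eb : b * s = s * b) :
    cj a b * b⁻¹ ∈ P := by
  rcases h.act b hb with ⟨v1, k1, v2, k2, p1, p2, Nb⟩ | ⟨v1, k1, v2, k2, p1, p2, Nb⟩
  · exact h.comm_aux ha ea (h.cstr hs hsP N ss o1 o2 hb Nb p1 p2 eb)
  rcases h.act a ha with ⟨w1, l1, w2, l2, q1, q2, Na⟩ | ⟨w1, l1, w2, l2, q1, q2, Na⟩
  · have h1 := h.comm_aux hb eb (h.cstr hs hsP N ss o1 o2 ha Na q1 q2 ea)
    have h2 : cj a b * b⁻¹ = (cj b a * a⁻¹)⁻¹ := by simp [cj, mul_assoc]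
    rw [h2]
    exact inv_mem h1
  · have hc : a⁻¹ * b ∈ S := mul_mem (inv_mem ha) hb
    have ec : a⁻¹ * b * s = s * (a⁻¹ * b) := by
      have h3 : Commute a s := ea
      have h4 : Commute b s := eb
      exact (h3.inv_left.mul_left h4).eq
    have hac : a * (a⁻¹ * b) = b := by group
    rcases h.act _ hc with ⟨x1, m1, x2, m2, t1, t2, Nc⟩ | ⟨x1, m1, x2, m2, t1, t2, Nc⟩
    · have h1 := h.comm_aux ha ea (h.cstr hs hsP N ss o1 o2 hc Nc t1 t2 ec)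
      have h2 : cj a b * b⁻¹ = cj a (cj a (a⁻¹ * b) * (a⁻¹ * b)⁻¹) := by simp [cj, mul_assoc]
      rw [h2]
      exact h.P_nor ha h1
    · exfalso
      have h5 := Na.mul Nc
      rw [hac] at h5
      exact h5.not_sw Nb h.toCo

end Sp

/-- (3.3): no conjugate of `z` in `S` acts diagonally on both factors. -/
theorem no_D [Finite G] (S : Sylow 2 G) {P : Subgroup G} {z r1 y1 r2 y2 : G} {n : ℕ}
    (h : Sp (S : Subgroup G) P z r1 y1 r2 y2 n)
    (f2 : ∀ c s : G, cj c z = z → s ∈ (S : Subgroup G) → cj c s ∈ (S : Subgroup G) →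
      ∃ s' ∈ (S : Subgroup G), cj c s * (cj s' s)⁻¹ ∈ RR r1 y1 r2 y2)
    (hn : ∀ s ∈ (S : Subgroup G), ∀ u1 j1 u2 j2 : ℤ, Ns r1 y1 r2 y2 s u1 j1 u2 j2 → ∀ x ∈ P, cj s x = x)
    (hw : ∀ s ∈ (S : Subgroup G), ∀ u1 j1 u2 j2 : ℤ, Sw r1 y1 r2 y2 s u1 j1 u2 j2 → ∀ x ∈ P,
      x * x = z → cj s x = x⁻¹)
    {g : G} (hg : cj g z ∈ (S : Subgroup G)) {u1 j1 u2 j2 : ℤ} (N : Ns r1 y1 r2 y2 (cj g z) u1 j1 u2 j2) :
    Even j1 := by
  by_contra hj1
  have hp := h.par _ hg _ _ _ _ N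
  have hj2 : ¬ Even j2 := fun hj2 => hj1 ((Int.even_add.1 hp).2 hj2)
  rw [Int.not_even_iff_odd] at hj1 hj2
  have hgz : cj g z ≠ z := by
    intro e
    rw [e] at N
    have h1 := ns_exp1 N h.ns_z
    have h2 := (h.q1.parity h1).2 Even.zero
    exact (Int.not_even_iff_odd.2 hj1) h2
  obtain ⟨c, k, hc, hcS, hks, hkz, hkW⟩ := ext_conji S (fun s hs => h.zc hs) h.zz
    (fun s hs hss hc => h.cen_z hs hss hc) g hg hgz
  -- the type of the extremal conjugate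
  have hs' : ∃ l1 l2 : ℤ, Odd l1 ∧ Odd l2 ∧ Ns r1 y1 r2 y2 (cj (c * g) z) (-1) l1 (-1) l2 := by
    have hss : cj (c * g) z * cj (c * g) z = 1 := by rw [← cj_mul, h.zz, cj_one]
    have hcg : cj (c * g) z = cj c (cj g z) := cj_mul_left _ _ _
    obtain ⟨s', hs'S, hR⟩ := f2 c (cj g z) hc hg (by rw [← hcg]; exact hcS)
    rw [← hcg] at hR
    obtain ⟨w1, l1, w2, l2, q1, q2, e1, e2, NR⟩ := ns_RR h.toCo hR
    have key : ∃ m1 m2 v1 v2 : ℤ, Pm v1 ∧ Pm v2 ∧ Odd m1 ∧ Odd m2 ∧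
        Ns r1 y1 r2 y2 (cj s' (cj g z)) v1 m1 v2 m2 := by
      have ou : ∀ {u j v k : ℤ}, Pm u → Odd j → Pm v → Odd (v * j + k * (1 - u)) := by
        intro u j v k hu hj hv
        have h1 : Even (k * (1 - u)) := by
          rcases hu with rfl | rfl
          · norm_num
          · exact ⟨k, by ring⟩
        exact (hv.odd.mul hj).add_even h1
      rcases h.act _ hg with ⟨a1, b1, a2, b2, pa1, pa2, Ng⟩ | ⟨a1, b1, a2, b2, pa1, pa2, Ng⟩
      · have f1 := (h.q1.parity (ns_exp1 N Ng))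
        have f2' := (h.q2.parity (ns_exp2 N Ng))
        have o1 : Odd b1 := by
          rw [← Int.not_even_iff_odd] at hj1 ⊢; tauto
        have o2 : Odd b2 := by
          rw [← Int.not_even_iff_odd] at hj2 ⊢; tauto
        rcases h.act s' hs'S with ⟨v1, k1, v2, k2, p1, p2, T⟩ | ⟨v1, k1, v2, k2, p1, p2, T⟩
        · exact ⟨_, _, _, _, pa1, pa2, ou pa1 o1 p1, ou pa2 o2 p2, ns_cj Ng T p1 p2⟩
        · exact ⟨_, _, _, _, pa2, pa1, ou pa2 o2 p2, ou pa1 o1 p1, ns_cj_sw Ng T p1 p2⟩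
      · exact (N.not_sw Ng h.toCo).elim
    obtain ⟨m1, m2, v1, v2, pv1, pv2, om1, om2, NC⟩ := key
    have hM := NR.mul NC
    rw [inv_mul_cancel_right] at hM
    have o1 : Odd (w1 * m1 + l1) := (q1.odd.mul om1).add_even e1
    have o2 : Odd (w2 * m2 + l2) := (q2.odd.mul om2).add_even e2
    have pm : ∀ {u v : ℤ}, Pm u → Pm v → Pm (u * v) := by
      rintro u v (rfl | rfl) (rfl | rfl) <;> simp [Pm]
    have i1 := h.invol_u hM (pm q1 pv1) o1 hss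
    have i2 := h.symm.invol_u hM.symm (pm q2 pv2) o2 hss
    rw [i1, i2] at hM
    exact ⟨_, _, o1, o2, hM⟩
  obtain ⟨l1, l2, o1, o2, Ns'⟩ := hs'
  have ss : cj (c * g) z * cj (c * g) z = 1 := by rw [← cj_mul, h.zz, cj_one]
  generalize cj (c * g) z = s at *
  have hsP : ∀ x ∈ P, cj s x = x := hn s hcS _ _ _ _ Ns'
  obtain ⟨p, hp4, hpp⟩ := h.four
  have hpS := h.P_le hp4
  have eps : p * s = s * p := (cj_eq_self_iff.1 (hsP p hp4)).symm
  have hkp : cj k p ∈ (S : Subgroup G) := hkW p hpS eps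
  have ekp : cj k p * s = s * cj k p := by
    conv_lhs => rw [← hks]
    conv_rhs => rw [← hks]
    rw [← cj_mul, ← cj_mul, eps]
  have hkzP : cj k z ∈ P := by
    by_cases hsw : ∃ w ∈ (S : Subgroup G), w * s = s * w ∧ ∃ u1 j1 u2 j2 : ℤ, Sw r1 y1 r2 y2 w u1 j1 u2 j2
    · obtain ⟨w, hwS, ew, x1, m1, x2, m2, W⟩ := hsw
      have h1 := hw w hwS _ _ _ _ W p hp4 hpp
      have hkw : cj k w ∈ (S : Subgroup G) := hkW w hwS ew
      have ekw : cj k w * s = s * cj k w := by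
        conv_lhs => rw [← hks]
        conv_rhs => rw [← hks]
        rw [← cj_mul, ← cj_mul, ew]
      have h2 := h.comm_all hcS hsP Ns' ss o1 o2 hkw hkp ekw ekp
      have h3 : cj (cj k w) (cj k p) * (cj k p)⁻¹ = cj k z := by
        rw [cj_cj, h1, ← cj_inv, ← cj_mul]
        congr 1
        rw [← mul_inv_rev, hpp, h.q1.zz]
      rw [← h3]
      exact h2
    · push Not at hsw
      rcases h.act _ hkp with ⟨v1, k1, v2, k2, p1, p2, Nk⟩ | ⟨v1, k1, v2, k2, p1, p2, Nk⟩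
      · have h2 := h.csq Ns' o1 o2 hkp Nk p1 p2 ekp
        rwa [← cj_mul, hpp] at h2
      · exact absurd Nk (hsw _ hkp ekp _ _ _ _)
  rcases h.P_invol hkzP (by rw [← cj_mul, h.zz, cj_one]) with h1 | h1
  · exact cj_ne_one h.q1.z_ne h1
  · exact hkz h1

end Cfsg.Agent.Cit.TwoSyl
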