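import Cfsg.Agent.GH.Q2.FusionT

/-!
# `|Om(S)| = 2`, the Sylow 2-subgroup: the transfer lemma (TR)

(2.3) of `R18-D5b`.
-/

set_option autoImplicit false
set_option linter.unusedVariables false

namespace Cfsg.Agent.Cit.TwoSyl.Transfer

open Subgroup Cfsg.Agent.GH.Q2

variable {G : Type*} [Group G]

/-- membership of two elements congruent modulo `M` -/
theorem mem_iff_of_div {M : Subgroup G} {x y : G} (h : x * y⁻¹ ∈ M) : x ∈ M ↔ y ∈ M := by
  constructor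
  · intro h1
    have h2 := M.mul_mem (M.inv_mem h) h1
    have h3 : (x * y⁻¹)⁻¹ * x = y := by group
    rwa [h3] at h2
  · intro h1
    have h2 := M.mul_mem h h1
    have h3 : x * y⁻¹ * y = x := by group
    rwa [h3] at h2

/-- a subgroup of index 2 in `S` is normal in `S` -/
theorem mem_cj_iff {S M : Subgroup G} (hr : M.relIndex S = 2) {s x : G} (hs : s ∈ S) (hx : x ∈ S) :
    cj s x ∈ M ↔ x ∈ M := by
  have hn : (M.subgroupOf S).Normal := normal_of_index_eq_two hr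
  have key : ∀ a ∈ S, ∀ b ∈ S, b ∈ M → cj a b ∈ M := by
    intro a ha b hb hbM
    exact hn.conj_mem ⟨b, hb⟩ hbM ⟨a, ha⟩
  constructor
  · intro h
    have h1 : cj s⁻¹ (cj s x) ∈ M := key s⁻¹ (inv_mem hs) _ (mul_mem (mul_mem hs hx) (inv_mem hs)) h
    rwa [cj_inv_cj] at h1
  · exact key s hs x hx

/-- (2.3) **the transfer lemma** -/
theorem tr [Finite G] (S : Sylow 2 G) (hidx : ∀ N : Subgroup G, N.index ≠ 2) {z t h u : G}
    {R M : Subgroup G} (hSz : ∀ s ∈ (S : Subgroup G), s * z = z * s) (zz : z * z = 1) (z1 : z ≠ 1)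
    (hM : M ≤ S) (hr : M.relIndex (S : Subgroup G) = 2) (hRM : R ≤ M)
    (hRn : ∀ s ∈ (S : Subgroup G), ∀ g ∈ R, cj s g ∈ R)
    (f2 : ∀ c s : G, cj c z = z → s ∈ (S : Subgroup G) → cj c s ∈ (S : Subgroup G) →
      ∃ s' ∈ (S : Subgroup G), cj c s * (cj s' s)⁻¹ ∈ R)
    (f1 : ∀ a ∈ R, a * a = 1 → a ≠ 1 → a ≠ z → ∃ c : G, cj c z = z ∧ cj c a = t)
    (tS : t ∈ (S : Subgroup G))
    (max0 : ∀ X : Subgroup G, IsPGroup 2 X → X ≤ centralizer {z} ⊓ centralizer {t} →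
      (S : Subgroup G) ⊓ centralizer {t} ≤ X → X = (S : Subgroup G) ⊓ centralizer {t})
    (al : Al (S : Subgroup G) z t h)
    (hD : ∀ g, cj g z ∈ (S : Subgroup G) → cj g z ∈ M)
    (hu : u ∈ (S : Subgroup G)) (huM : u ∉ M)
    (hz : ∀ k : ℕ, u ^ k ≠ 1 → ∃ i : ℤ, (u ^ k) ^ i = z)
    (hs : ∀ (k : ℕ) (c g : G), cj c z = z → cj c (u ^ k) ∈ (S : Subgroup G) → u ^ k ≠ 1 → u ^ k ≠ z →
      cj g z ∈ (S : Subgroup G) → cj g z ≠ z → cj g z * cj c (u ^ k) = cj c (u ^ k) * cj g z →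
      cj g z ∈ R)
    (hinv : ∀ (k : ℕ) (c : G), cj c z = z → cj c (u ^ k) ∈ (S : Subgroup G) →
      cj c (u ^ k) * t = t * cj c (u ^ k) → (cj h (cj c (u ^ k)) ∈ M ↔ cj c (u ^ k) ∈ M)) : False := by
  classical
  have hp : Fact (Nat.Prime 2) := ⟨Nat.prime_two⟩
  have hSP : IsPGroup 2 (S : Subgroup G) := S.2
  have hSC : (S : Subgroup G) ≤ centralizer {z} := fun s hs => mem_cz.2 (hSz s hs)
  have hN : (M.subgroupOf (S : Subgroup G)).index = 2 := hr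
  -- fusion in `C(z)` preserves membership in `M`
  have f2' : ∀ c s : G, cj c z = z → s ∈ (S : Subgroup G) → cj c s ∈ (S : Subgroup G) →
      (cj c s ∈ M ↔ s ∈ M) := by
    intro c s hc hs1 hs2
    obtain ⟨s', hs', h1⟩ := f2 c s hc hs1 hs2
    have h2 : cj s' s ∈ (S : Subgroup G) := mul_mem (mul_mem hs' hs1) (inv_mem hs')
    exact (mem_iff_of_div (hRM h1)).trans (mem_cj_iff hr hs' hs1)
  have main : ∀ (k : ℕ) (g : G), cj g (u ^ k) ∈ (S : Subgroup G) → (cj g (u ^ k) ∈ M ↔ u ^ k ∈ M) := by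
    intro k g hg
    have hx : u ^ k ∈ (S : Subgroup G) := pow_mem hu k
    by_cases hx1 : u ^ k = 1
    · rw [hx1, Cfsg.Agent.GH.Q2.cj_one]
    obtain ⟨i, hi⟩ := hz k hx1
    have hzS : z ∈ (S : Subgroup G) := by rw [← hi]; exact zpow_mem hx i
    have hgz : cj g z ∈ (S : Subgroup G) := by rw [← hi, cj_zpow]; exact zpow_mem hg i
    by_cases hsz : cj g⁻¹ z = z
    · apply f2' g _ _ hx hg
      have := congrArg (cj g) hsz
      rw [cj_cj_inv] at this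
      exact this.symm
    by_cases hxz : u ^ k = z
    · rw [hxz]
      have h1 := hD 1 (by rw [cj_one_left]; exact hzS)
      rw [cj_one_left] at h1
      exact ⟨fun _ => h1, fun _ => hD g hgz⟩
    -- the 2-group `S^(g⁻¹) ∩ C(z)`
    obtain ⟨P, hP⟩ : ∃ P : Subgroup G, P = (S : Subgroup G).map (MulAut.conj g⁻¹).toMonoidHom ⊓
      centralizer {z} := ⟨_, rfl⟩
    have hP2 : IsPGroup 2 P := by rw [hP]; exact (isPGroup_cj hSP g⁻¹).to_le inf_le_left
    have hxs : cj g⁻¹ z * u ^ k = u ^ k * cj g⁻¹ z := by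
      have h1 := congrArg (cj g⁻¹) (hSz _ hg)
      rw [cj_mul, cj_mul, cj_inv_cj] at h1
      exact h1.symm
    have hxP : u ^ k ∈ P := by
      rw [hP]
      refine ⟨⟨cj g (u ^ k), hg, ?_⟩, mem_cz.2 (hSz _ hx)⟩
      change cj g⁻¹ (cj g (u ^ k)) = u ^ k
      rw [cj_inv_cj]
    have hsP : cj g⁻¹ z ∈ P := by
      rw [hP]
      refine ⟨⟨z, hzS, rfl⟩, mem_cz.2 ?_⟩
      have h1 : Commute (cj g⁻¹ z) ((u ^ k) ^ i) := (show Commute (cj g⁻¹ z) (u ^ k) from hxs).zpow_right i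
      rw [hi] at h1
      exact h1.eq
    obtain ⟨k1, hk1, hk1P⟩ := conj_into hSP hSC (sylow_max S _) hP2 (by rw [hP]; exact inf_le_right)
    have hk1z : cj k1 z = z := cj_eq_self (mem_cz.1 hk1)
    obtain ⟨s1, hs1⟩ : ∃ s1, s1 = cj k1 (cj g⁻¹ z) := ⟨_, rfl⟩
    have hs1g : s1 = cj (k1 * g⁻¹) z := by rw [hs1, cj_mul_left]
    have hs1z : s1 ≠ z := by
      intro h1
      rw [hs1] at h1
      exact hsz (cj_inj (h1.trans hk1z.symm))
    have hs1x : s1 * cj k1 (u ^ k) = cj k1 (u ^ k) * s1 := by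
      rw [hs1, ← cj_mul, ← cj_mul, hxs]
    have hs1R : s1 ∈ R := by
      rw [hs1g]
      refine hs k k1 (k1 * g⁻¹) hk1z (hk1P _ hxP) hx1 hxz ?_ ?_ ?_
      · rw [← hs1g, hs1]; exact hk1P _ hsP
      · rw [← hs1g]; exact hs1z
      · rw [← hs1g]; exact hs1x
    have hs11 : s1 * s1 = 1 := by
      rw [hs1g, ← cj_mul, zz, Cfsg.Agent.GH.Q2.cj_one]
    have hs1ne : s1 ≠ 1 := by
      rw [hs1g]; exact cj_ne_one z1
    obtain ⟨c, hcz, hct⟩ := f1 s1 hs1R hs11 hs1ne hs1z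
    obtain ⟨m, hm⟩ : ∃ m, m = c * k1 := ⟨_, rfl⟩
    have hmz : cj m z = z := by rw [hm, cj_mul_left, hk1z, hcz]
    have hms : cj m (cj g⁻¹ z) = t := by rw [hm, cj_mul_left, ← hs1, hct]
    have hmx : cj m (u ^ k) * t = t * cj m (u ^ k) := by
      rw [← hms, ← cj_mul, ← cj_mul, hxs]
    have hmxz : cj m (u ^ k) * z = z * cj m (u ^ k) := by
      conv_lhs => rw [← hmz, ← cj_mul, hSz _ hx, cj_mul, hmz]
    have hX : IsPGroup 2 (zpowers (cj m (u ^ k))) := by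
      have h1 : IsPGroup 2 (zpowers (u ^ k)) := hSP.to_le (zpowers_le.2 hx)
      have h2 := isPGroup_cj h1 m
      rw [MonoidHom.map_zpowers] at h2
      exact h2
    have hPt : IsPGroup 2 ↥((S : Subgroup G) ⊓ centralizer {t}) := isPGroup_inf hSP
    obtain ⟨d, hd, hdX⟩ := conj_into hPt
      (show (S : Subgroup G) ⊓ centralizer {t} ≤ centralizer {z} ⊓ centralizer {t} from
        fun y hy => ⟨hSC hy.1, hy.2⟩) max0 hX (by
        rw [zpowers_le]; exact ⟨mem_cz.2 hmxz, mem_cz.2 hmx⟩)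
    have h3 := hdX _ (mem_zpowers _)
    obtain ⟨kk, hkk⟩ : ∃ kk, kk = d * m := ⟨_, rfl⟩
    have hkkz : cj kk z = z := by
      rw [hkk, cj_mul_left, hmz]; exact cj_eq_self (mem_cz.1 hd.1)
    have hkks : cj kk (cj g⁻¹ z) = t := by
      rw [hkk, cj_mul_left, hms]; exact cj_eq_self (mem_cz.1 hd.2)
    have hx1S : cj kk (u ^ k) ∈ (S : Subgroup G) := by rw [hkk, cj_mul_left]; exact h3.1
    have hx1t : cj kk (u ^ k) * t = t * cj kk (u ^ k) := by rw [hkk, cj_mul_left]; exact mem_cz.1 h3.2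
    have e1 := hinv k kk hkkz hx1S hx1t
    have e2 := f2' kk _ hkkz hx hx1S
    have e3 := al.nor _ hx1S hx1t
    have hfz : cj (g * kk⁻¹ * h⁻¹) z = z := by
      have h4 : cj h⁻¹ z = t := by
        have := congrArg (cj h⁻¹) al.ht
        rw [cj_inv_cj] at this
        exact this.symm
      have h5 : cj kk⁻¹ t = cj g⁻¹ z := by rw [← hkks, cj_inv_cj]
      rw [cj_mul_left, cj_mul_left, h4, h5, cj_cj_inv]
    have hfx : cj (g * kk⁻¹ * h⁻¹) (cj h (cj kk (u ^ k))) = cj g (u ^ k) := by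
      rw [cj_mul_left, cj_mul_left, cj_inv_cj, cj_inv_cj]
    have e4 := f2' (g * kk⁻¹ * h⁻¹) _ hfz e3 (by rw [hfx]; exact hg)
    rw [hfx] at e4
    exact e4.trans (e1.trans e2)
  -- transfer
  have key : ∀ (k : ℕ) (g₀ : G) (h : g₀⁻¹ * ((⟨u, hu⟩ : (S : Subgroup G)) : G) ^ k * g₀ ∈
      (S : Subgroup G)), ThreePrime.Transfer.signHom _ hN
      ⟨g₀⁻¹ * ((⟨u, hu⟩ : (S : Subgroup G)) : G) ^ k * g₀, h⟩ =
      ThreePrime.Transfer.signHom _ hN ((⟨u, hu⟩ : (S : Subgroup G)) ^ k) := by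
    intro k g₀ hk
    have hc : g₀⁻¹ * ((⟨u, hu⟩ : (S : Subgroup G)) : G) ^ k * g₀ = cj g₀⁻¹ (u ^ k) := by
      simp [cj]
    have h1 := main k g₀⁻¹ (by rw [← hc]; exact hk)
    by_cases h2 : u ^ k ∈ M
    · rw [ThreePrime.Transfer.signHom_of_mem, ThreePrime.Transfer.signHom_of_mem]
      · exact h2
      · rw [mem_subgroupOf]; change g₀⁻¹ * ((⟨u, hu⟩ : (S : Subgroup G)) : G) ^ k * g₀ ∈ M
        rw [hc]; exact h1.2 h2
    · rw [ThreePrime.Transfer.signHom_of_not_mem, ThreePrime.Transfer.signHom_of_not_mem]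
      · exact h2
      · rw [mem_subgroupOf]; change ¬ g₀⁻¹ * ((⟨u, hu⟩ : (S : Subgroup G)) : G) ^ k * g₀ ∈ M
        rw [hc]; exact fun h3 => h2 (h1.1 h3)
  have h3 := TwoFusion.PResidual.transfer_eq_pow_index_of_fusion
    (ThreePrime.Transfer.signHom _ hN) (⟨u, hu⟩ : (S : Subgroup G)) key
  rw [ThreePrime.Transfer.hom_eq_one hidx, ThreePrime.Transfer.signHom_of_not_mem hN
    (show (⟨u, hu⟩ : (S : Subgroup G)) ∉ M.subgroupOf (S : Subgroup G) from huM)] at h3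
  have h4 : Odd (S : Subgroup G).index := by
    rw [← Nat.not_even_iff_odd, even_iff_two_dvd]
    exact S.not_dvd_index
  rw [h4.neg_one_pow] at h3
  exact absurd h3 (by decide)

end Cfsg.Agent.Cit.TwoSyl.Transfer
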