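import Cfsg.Agent.Cit.TwoSyl.Idx
import Cfsg.Agent.Cit.TwoSyl.Transfer
import Cfsg.Agent.Cit.TwoSyl.NoD
import Cfsg.Agent.Cit.TwoSyl.Exact

/-!
# R18, D5b: the Sylow 2-subgroups when `C_S(Q₁Q₂)` is cyclic of order at least four and `t ~ z`

`P = ⟨s1 s2⟩`, `n ≥ 1` and `S` is of type `PSL₄(q)` (`MB` with `k = n + 2`).
-/

set_option autoImplicit false

namespace Cfsg.Agent.Cit.TwoSyl

open Subgroup Cfsg.Agent.GH.Q2

variable {G : Type*} [Group G]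

/-- The fusion hypotheses. -/
structure Fp (S P : Subgroup G) (z r1 y1 r2 y2 : G) (n : ℕ) : Prop where
  /-- (f1) the involutions of `R` other than `z` are conjugate in `C(z)`. -/
  f1 : ∀ a ∈ RR r1 y1 r2 y2, ∀ b ∈ RR r1 y1 r2 y2, a * a = 1 → a ≠ 1 → a ≠ z → b * b = 1 →
    b ≠ 1 → b ≠ z → ∃ c : G, cj c z = z ∧ cj c a = b
  /-- (f2) fusion in `C(z)` respects `S / R`. -/
  f2 : ∀ c s : G, cj c z = z → s ∈ S → cj c s ∈ S →
    ∃ s' ∈ S, cj c s * (cj s' s)⁻¹ ∈ RR r1 y1 r2 y2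
  /-- (fP) `C(z)` controls `P`. -/
  fP : FP S P z
  /-- (fQ) `C(z)` permutes the two factors. -/
  fQ : ∀ c x : G, cj c z = z → x ∈ closure ({r1, y1} : Set G) → cj c x ∈ S →
    cj c x ∈ closure ({r1, y1} : Set G) ∨ cj c x ∈ closure ({r2, y2} : Set G)
  /-- (F2). -/
  iso : Iso S z r1 y1 r2 y2
  /-- (A). -/
  tz : ∃ g : G, cj g z = te r1 r2 n

section Main

variable [Finite G] (S : Sylow 2 G) {P : Subgroup G} {z r1 y1 r2 y2 k ρ : G} {n : ℕ}

theorem noD_of (h : Sp (S : Subgroup G) P z r1 y1 r2 y2 n) (F : Fp (S : Subgroup G) P z r1 y1 r2 y2 n)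
    (f : Rf (S : Subgroup G) P z r1 y1 r2 y2 n k ρ) : NoD (S : Subgroup G) z r1 y1 r2 y2 := by
  intro g hg u1 j1 u2 j2 N
  exact no_D S h F.f2 (fun s hs u1 j1 u2 j2 N x hx => f.act_P h F.fP hs N hx)
    (fun s hs u1 j1 u2 j2 N x hx hxx => f.sw_P h F.fP hs N hx hxx) hg N

/-- (3.4): `P` is generated by `s1 s2`. -/
theorem P_eq (hidx : ∀ N : Subgroup G, N.index ≠ 2) (h : Sp (S : Subgroup G) P z r1 y1 r2 y2 n)
    (F : Fp (S : Subgroup G) P z r1 y1 r2 y2 n) (f : Rf (S : Subgroup G) P z r1 y1 r2 y2 n k ρ) :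
    ∀ x ∈ P, ∃ i : ℤ, x = (cj k r1 * cj k r2) ^ i := by
  have noD := noD_of S h F f
  obtain ⟨p0, hp0, hgen⟩ := h.cyc
  obtain ⟨e, he⟩ := hgen _ (h.p_mem F.fP f.al)
  rcases Int.even_or_odd e with he' | he'
  · exfalso
    obtain ⟨e', rfl⟩ := he'.two_dvd
    obtain ⟨M, hMS, hr, hRM, m1, m2, mτ, mρ, hnot⟩ := f.half h F.fP hp0 hgen he
    have my1 : y1 ∈ M := hRM h.m2
    refine Transfer.tr S hidx (z := z) (t := te r1 r2 n) (h := k) (u := p0) (R := RR r1 y1 r2 y2)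
      (M := M) (fun s hs => h.zc hs) h.zz h.q1.z_ne hMS hr hRM (fun s hs g hg => h.cj_RR hs hg) F.f2 ?_
      h.t_mem ?_ f.al ?_ (h.P_le hp0) hnot ?_ ?_ ?_
    · intro a ha haa ha1 haz
      exact F.f1 a ha _ (Sd.t_mem_R h.toCo) haa ha1 haz h.tt h.t_ne_one h.t_ne_z
    · exact max0i S (fun s hs => h.zc hs) (fun s hs hss hc => h.cen_z hs hss hc) h.t_mem h.tt
        h.t_ne_one h.t_ne_z (fun s hs => h.cj_t hs)
    · intro g hg
      rcases h.act _ hg with ⟨u1, j1, u2, j2, _, _, N⟩ | ⟨u1, j1, u2, j2, _, _, N⟩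
      · exact hRM (h.ns_RR F.iso noD hg N)
      · exact f.sw_form h F.fP F.iso noD my1 m1 m2 mτ hg N
    · intro m hm
      exact h.P_zpow (pow_mem hp0 m) hm
    · intro m c g hc hcS hm1 hmz hg hgz hcomm
      have hxP : cj c (p0 ^ m) ∈ P := F.fP c _ hc (pow_mem hp0 m) hcS
      have hx1 : ¬ (cj c (p0 ^ m) = 1 ∨ cj c (p0 ^ m) = z) := by
        rintro (h1 | h1)
        · exact cj_ne_one hm1 h1
        · apply hmz
          apply cj_inj (s := c)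
          rw [h1, hc]
      obtain ⟨i, hi⟩ := h.P_sqrt hxP hx1
      rcases h.act _ hg with ⟨u1, j1, u2, j2, _, _, N⟩ | ⟨u1, j1, u2, j2, _, _, N⟩
      · exact h.ns_RR F.iso noD hg N
      · exfalso
        have h1 := f.sw_P h F.fP hg N (zpow_mem hxP i) hi
        have h2 : Commute (cj g z) (cj c (p0 ^ m) ^ i) := (show Commute _ _ from hcomm).zpow_right i
        rw [cj_eq_self' h2] at h1
        have h3 : cj c (p0 ^ m) ^ i * cj c (p0 ^ m) ^ i = 1 := by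
          nth_rewrite 1 [h1]
          exact inv_mul_cancel _
        rw [hi] at h3
        exact h.q1.z_ne h3
    · intro m c hc hcS hct
      have hxP : cj c (p0 ^ m) ∈ P := F.fP c _ hc (pow_mem hp0 m) hcS
      obtain ⟨d, hd⟩ := f.kP _ hxP
      rw [hd]
      constructor
      · intro h1
        have := mul_mem h1 (inv_mem (zpow_mem mρ (-d)))
        rwa [mul_inv_cancel_right] at this
      · intro h1
        exact mul_mem h1 (zpow_mem mρ (-d))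
  · -- `e` odd
    intro x hx
    obtain ⟨j, hj⟩ := hgen x hx
    obtain ⟨K, hK⟩ := h.two ⟨p0, h.P_le hp0⟩
    have hK' : p0 ^ ((2 : ℤ) ^ K) = 1 := by
      have := congrArg Subtype.val hK
      have h2 : p0 ^ (2 ^ K) = 1 := by simpa using this
      rw [← zpow_natCast] at h2
      simpa using h2
    have hcop : IsCoprime ((2 : ℤ) ^ K) e := by
      obtain ⟨c', rfl⟩ := he'
      exact isCoprime_two_pow K c'
    obtain ⟨u, v, huv⟩ := hcop
    have e3 : p0 = (cj k r1 * cj k r2) ^ v := by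
      have : p0 ^ (u * 2 ^ K + v * e) = p0 := by rw [huv, zpow_one]
      rw [zpow_add, mul_comm u, zpow_mul, hK', one_zpow, one_mul, mul_comm v, zpow_mul] at this
      rw [he]
      exact this.symm
    refine ⟨v * j, ?_⟩
    rw [zpow_mul, ← e3, hj]

omit [Finite G] in
theorem n_pos (h : Sp (S : Subgroup G) P z r1 y1 r2 y2 n)
    (f : Rf (S : Subgroup G) P z r1 y1 r2 y2 n k ρ)
    (hP : ∀ x ∈ P, ∃ i : ℤ, x = (cj k r1 * cj k r2) ^ i) : 1 ≤ n := by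
  by_contra hn
  have hn0 : n = 0 := by omega
  subst hn0
  have h1 := h.p_pow f.al
  rw [pow_zero, pow_one] at h1
  obtain ⟨p4, hp4, h4⟩ := h.four
  obtain ⟨i, hi⟩ := hP p4 hp4
  rw [h1] at hi
  rcases h.q1.zpow_one_or i with h2 | h2
  · rw [hi, h2, one_mul] at h4
    exact h.q1.z_ne h4.symm
  · rw [hi, h2, h.zz] at h4
    exact h.q1.z_ne h4.symm

/-- **D5b, `|P| ≥ 4`**: relations of type `PSL₄(q)`, `(q - 1)₂ = 2 ^ (n + 2)`. -/
theorem exists_lq (hidx : ∀ N : Subgroup G, N.index ≠ 2) (h : Sp (S : Subgroup G) P z r1 y1 r2 y2 n)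
    (F : Fp (S : Subgroup G) P z r1 y1 r2 y2 n) :
    1 ≤ n ∧ ∃ s τ : G, TwoSylModel.LQ (S : Subgroup G) n z r1 r2 s y1 τ := by
  obtain ⟨g, hg⟩ := F.tz
  obtain ⟨k, ρ, f⟩ := exists_rf S h F.fP hg
  have hP := P_eq S hidx h F f
  have hn := n_pos S h f hP
  exact ⟨hn, _, _, f.lq_of h F.fP F.fQ hn (f.gen h F.fP hP)⟩

/-- **D5b, `|P| ≥ 4`**: coordinates. -/
theorem exists_mb (hidx : ∀ N : Subgroup G, N.index ≠ 2) (h : Sp (S : Subgroup G) P z r1 y1 r2 y2 n)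
    (F : Fp (S : Subgroup G) P z r1 y1 r2 y2 n) :
    1 ≤ n ∧ ∃ f d, Cfsg.Agent.LFourB.Mono.MB (S : Subgroup G) (n + 2) f d := by
  obtain ⟨hn, s, τ, hq⟩ := exists_lq S hidx h F
  exact ⟨hn, _, _, hq.lr.mb⟩

/-- **D5b, `|P| ≥ 4`**: `S` is of type `PSL₄(q)`. -/
theorem typeL4 (hidx : ∀ N : Subgroup G, N.index ≠ 2) (h : Sp (S : Subgroup G) P z r1 y1 r2 y2 n)
    (F : Fp (S : Subgroup G) P z r1 y1 r2 y2 n) : Cfsg.Agent.GH.Defs.TypeL4 ↥(S : Subgroup G) := by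
  obtain ⟨hn, s, τ, hq⟩ := exists_lq S hidx h F
  exact hq.typeL4

end Main

end Cfsg.Agent.Cit.TwoSyl
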