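import Cfsg.Agent.Cit.TwoSyl.GlueSp
import Cfsg.Agent.Cit.TwoSyl.End

/-!
# D5b, case (A), `C_S(Q₁Q₂)` cyclic of order at least four: `S` is of type `PSL₄(q)`
-/

set_option autoImplicit false
set_option linter.style.haveILetI false
set_option linter.unusedSectionVars false
set_option linter.unusedVariables false

namespace Cfsg.Agent.Cit.TwoSyl.SylTwo

open Subgroup Cfsg Cit OneBasic TwoFK OneFieldHom OneFieldPsi GlueOne SylOne GlueTwo GlueSp
open Cfsg.Agent.GH.Q2 (Sd Ns Sw RR Co Qn)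
open Cfsg.Agent.Cit.CoreTwoEq (PP CaseA)

variable {G : Type*} [Group G] [Finite G] {Om : Set (Subgroup G)} {K L S : Subgroup G}

/-- a cyclic 2-group of order at least four contains a root of its involution -/
theorem exists_root {P : Subgroup G} {z : G} (hP : IsPGroup 2 P) (hcyc : IsCyclic P) (hz : z ∈ P) (hz1 : z ≠ 1)
    (hz2 : z * z = 1) (hne : P ≠ zpowers z) : ∃ p ∈ P, p * p = z := by
  obtain ⟨⟨p, hp⟩, hgen⟩ := hcyc.exists_generator
  have hgen' : ∀ x ∈ P, ∃ i : ℤ, p ^ i = x := by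
    intro x hx
    obtain ⟨i, hi⟩ := hgen ⟨x, hx⟩
    exact ⟨i, congrArg Subtype.val hi⟩
  obtain ⟨i, hi⟩ := hgen' z hz
  rcases Int.even_or_odd' i with ⟨j, rfl | rfl⟩
  · refine ⟨p ^ j, P.zpow_mem hp j, ?_⟩
    rw [← zpow_add, ← two_mul, hi]
  · exfalso
    apply hne
    -- `p ^ 2 = 1`
    have h1 : p ^ ((2 * j + 1) * 2) = 1 := by rw [zpow_mul, hi, zpow_two, hz2]
    obtain ⟨k, hk⟩ := hP ⟨p, hp⟩
    have hk' : p ^ 2 ^ k = 1 := congrArg Subtype.val hk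
    have h2 : (orderOf p : ℤ) ∣ (2 * j + 1) * 2 := orderOf_dvd_iff_zpow_eq_one.2 h1
    have h3 : orderOf p ∣ 2 ^ k := orderOf_dvd_of_pow_eq_one hk'
    obtain ⟨l, -, hl⟩ := (Nat.dvd_prime_pow Nat.prime_two).1 h3
    rw [hl] at h2
    have h4 : p ^ 2 = 1 := by
      rw [← orderOf_dvd_iff_pow_eq_one, hl]
      rcases l with _ | _ | l
      · simp
      · simp
      · exfalso
        obtain ⟨w, hw⟩ := h2
        push_cast at hw
        have h5 : (2 * j + 1) * 2 = 2 * (2 * (2 ^ l * w)) := by rw [hw]; ring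
        omega
    apply le_antisymm
    · intro x hx
      obtain ⟨a, rfl⟩ := hgen' x hx
      -- `p = z`
      have h5 : p = z := by
        rw [← hi, zpow_add, zpow_mul, zpow_ofNat, h4, one_zpow, one_mul, zpow_one]
      rw [h5]
      exact zpow_mem (mem_zpowers z) a
    · rw [zpowers_le]; exact hz

end Cfsg.Agent.Cit.TwoSyl.SylTwo

namespace Cfsg.Agent.Cit.TwoSyl

open Subgroup Cfsg Cit TwoFK GlueOne SylOne GlueTwo GlueSp SylTwo
open Cfsg.Agent.GH.Q2 (Sd Ns Sw RR Co Qn)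
open Cfsg.Agent.Cit.CoreTwoEq (PP CaseA)

universe u

/-- the data -/
theorem exists_sp {G : Type u} [Group G] [Finite G] {Om : Set (Subgroup G)} {K L : Subgroup G}
    (b : TwoEq Om) (hT : ∀ K ∈ Om, TyTwo K) (hA : CaseA Om) (hidx : ∀ N : Subgroup G, N.index ≠ 2)
    (m : Mate Om K L) {S : Subgroup G} (hS : Syl S (centralizer {zz K})) (hcyc : IsCyclic (PP S K L))
    (hne : PP S K L ≠ zpowers (zz K)) :
    ∃ (r1 y1 r2 y2 : G) (n : ℕ), Sp S (PP S K L) (zz K) r1 y1 r2 y2 n ∧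
      Fp S (PP S K L) (zz K) r1 y1 r2 y2 n := by
  have hF := fk' b hT hidx
  obtain ⟨r1, y1, r2, y2, n, g1, g2, hact⟩ := exists_co b hT hidx m hS
  have hco : Co (zz K) r1 y1 r2 y2 n n :=
    GH.Q2.Coord.co_of_gq g1 g2 (comm_QQ b m hS) (fun g h1 h2 => inf_eq b m hS h1 h2)
  have c1 := GH.Q2.Coord.closure_of_gq g1
  have c2 := GH.Q2.Coord.closure_of_gq g2
  have hR : RR r1 y1 r2 y2 = (K ⊓ S) ⊔ (L ⊓ S) := by
    unfold RR
    rw [c1, c2]
  have hact' : ∀ s ∈ S, (∃ u1 j1 u2 j2 : ℤ, Ns r1 y1 r2 y2 s u1 j1 u2 j2) ∨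
      (∃ u1 j1 u2 j2 : ℤ, Sw r1 y1 r2 y2 s u1 j1 u2 j2) := by
    intro s hs
    rcases hact s hs with ⟨u1, j1, u2, j2, -, -, N⟩ | ⟨u1, j1, u2, j2, -, -, N⟩
    · exact Or.inl ⟨_, _, _, _, N⟩
    · exact Or.inr ⟨_, _, _, _, N⟩
  have hP2 : IsPGroup 2 ↥(PP S K L) := hS.2.1.to_le (fun s hs => (mem_PP.1 hs).1)
  have hzP : zz K ∈ PP S K L := by
    have hz : zz K ∈ S := g1.z_mem.2
    rw [mem_PP]
    refine ⟨hz, fun g hg => ?_, fun g hg => ?_⟩
    · exact (mem_centralizer_singleton_iff.1 (hS.1 hg.2)).symm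
    · exact (mem_centralizer_singleton_iff.1 (hS.1 hg.2)).symm
  have mP : ∀ s, s ∈ PP S K L ↔ s ∈ S ∧ Ns r1 y1 r2 y2 s 1 0 1 0 := by
    intro s
    rw [mem_PP]
    constructor
    · rintro ⟨h1, h2, h3⟩
      have key : ∀ w : G, s * w = w * s → GH.Q2.cj s w = w := fun w hw => GH.Q2.cj_eq_self hw
      refine ⟨h1, ?_, ?_, ?_, ?_⟩
      · rw [key _ (h2 _ g1.c_mem), zpow_one]
      · rw [key _ (h2 _ g1.v_mem), zpow_zero, one_mul]
      · rw [key _ (h3 _ g2.c_mem), zpow_one]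
      · rw [key _ (h3 _ g2.v_mem), zpow_zero, one_mul]
    · rintro ⟨h1, N⟩
      have key : ∀ w v : G, GH.Q2.cj s w = v → v = w → s * w = w * s := fun w v h h' => by
        rw [h'] at h; exact GH.Q2.cj_eq_self_iff.1 h
      exact ⟨h1, comm_of g1 (key _ _ N.a1 (zpow_one _)) (key _ _ N.b1 (by rw [zpow_zero, one_mul])),
        comm_of g2 (key _ _ N.a2 (zpow_one _)) (key _ _ N.b2 (by rw [zpow_zero, one_mul]))⟩
  refine ⟨r1, y1, r2, y2, n, ⟨hco, g1.c_mem.2, g1.v_mem.2, g2.c_mem.2, g2.v_mem.2, hact, ?_, mP, ?_,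
    exists_root hP2 hcyc hzP (b.hyp.zz_ne m.hK) (b.hyp.zz_mul m.hK) hne, hS.2.1⟩, ?_⟩
  · intro s hs u1 j1 u2 j2 N
    exact par b (k1 b hT) hidx m hS g1 g2 hs
      (by rw [show s * r1 * s⁻¹ = r1 ^ u1 from N.a1]; exact zpow_mem (mem_zpowers r1) u1)
      (by rw [show s * r2 * s⁻¹ = r2 ^ u2 from N.a2]; exact zpow_mem (mem_zpowers r2) u2) N.b1 N.b2
  · obtain ⟨⟨p, hp⟩, hgen⟩ := hcyc.exists_generator
    refine ⟨p, hp, fun x hx => ?_⟩
    obtain ⟨i, hi⟩ := hgen ⟨x, hx⟩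
    exact ⟨i, (congrArg Subtype.val hi).symm⟩
  · constructor
    · intro a ha c hc haa ha1 haz hcc hc1 hcz
      rw [hR] at ha hc
      exact GlueOne.f1 b hT m hS ha hc haa ha1 haz hcc hc1 hcz
    · exact fun c s hc hs hcs => GlueSp.f2 b hT hF m hS hcyc g1 g2 hco hact' c s hc hs hcs
    · exact fun c x hc hx hcx => GlueTwo.fP b m hS hc hx hcx
    · intro c x hc hx hcx
      rw [c1] at hx ⊢
      rw [c2]
      exact GlueTwo.fQ b m hc hx hcx
    · exact ⟨fun g _ h1 h2 => iso1 b m hS m.hK rfl (syl1 b m hS) g1 h1 h2,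
        fun g _ h1 h2 => iso1 b m hS m.hL m.zz.symm (syl2 b m hS) g2 h1 h2⟩
    · exact GlueSp.tz b hT hA m hS g1 g2 hco

/-- **D5b, case (A), `C_S(Q₁Q₂)` cyclic, not `⟨z⟩`** -/
theorem sylTwoStmt : CoreTwoEq.SylTwoStmt.{u} := by
  intro G _ _ _ Om b hT hA S K hK L hL hne hcyc hPne
  have m := mate b S hK hL hne
  have hS := syl_cent b S hK
  have hidx := fun N => index_ne_two b.hyp hK.1 N
  obtain ⟨r1, y1, r2, y2, n, h, F⟩ := exists_sp b hT hA hidx m hS hcyc hPne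
  exact typeL4 S hidx h F

end Cfsg.Agent.Cit.TwoSyl
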