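import Cfsg.Agent.GH.Q2.FusionT

/-!
# R18, D5b: the 2-group data (two commuting quaternion groups with cyclic centralizer `P` of order at least four)

Blueprint: `blueprints/R18-D5b-helper772.md`.  Conventions of `GH/Q2/Base`: `cj s x = s * x * s⁻¹`.
-/

set_option autoImplicit false

namespace Cfsg.Agent.Cit.TwoSyl

open Subgroup Cfsg.Agent.GH.Q2

variable {G : Type*} [Group G]

/-- `u = ±1`. -/
def Pm (u : ℤ) : Prop := u = 1 ∨ u = -1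

theorem Pm.odd {u : ℤ} (h : Pm u) : Odd u := by
  rcases h with rfl | rfl
  · exact odd_one
  · exact ⟨-1, by norm_num⟩

/-- `t = r1 ^ (2 ^ n) * r2 ^ (2 ^ n)`. -/
abbrev te (r1 r2 : G) (n : ℕ) : G := r1 ^ (2 ^ n) * r2 ^ (2 ^ n)

theorem cj_mem {S : Subgroup G} {s x : G} (hs : s ∈ S) (hx : x ∈ S) : cj s x ∈ S :=
  mul_mem (mul_mem hs hx) (inv_mem hs)

theorem cj_eq_self' {s x : G} (h : Commute s x) : cj s x = x := cj_eq_self h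

theorem comm_of_cj {s x : G} (h : cj s x = x) : Commute s x := cj_eq_self_iff.1 h

section NA

variable {z r1 y1 r2 y2 a a' s : G} {n : ℕ} {b1 b2 c1 c2 u1 u2 v1 v2 : ℤ}

theorem ns_mul (h : Ns r1 y1 r2 y2 a 1 b1 1 b2) (h' : Ns r1 y1 r2 y2 a' 1 c1 1 c2) :
    Ns r1 y1 r2 y2 (a * a') 1 (b1 + c1) 1 (b2 + c2) := by
  have := h.mul h'
  convert this using 1 <;> ring

theorem ns_congr {b1' b2' : ℤ} (h : Ns r1 y1 r2 y2 a u1 b1 u2 b2) (e1 : r1 ^ b1 = r1 ^ b1')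
    (e2 : r2 ^ b2 = r2 ^ b2') : Ns r1 y1 r2 y2 a u1 b1' u2 b2' :=
  ⟨h.a1, by rw [h.b1, e1], h.a2, by rw [h.b2, e2]⟩

theorem ns_inv (h : Ns r1 y1 r2 y2 a 1 b1 1 b2) : Ns r1 y1 r2 y2 a⁻¹ 1 (-b1) 1 (-b2) where
  a1 := by
    rw [zpow_one, eq_comm, ← cj_eq_iff, h.a1, zpow_one]
  b1 := by
    rw [eq_comm, ← cj_eq_iff, cj_mul, cj_zpow, h.a1, zpow_one, h.b1, ← mul_assoc, ← zpow_add,
      neg_add_cancel, zpow_zero, one_mul]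
  a2 := by
    rw [zpow_one, eq_comm, ← cj_eq_iff, h.a2, zpow_one]
  b2 := by
    rw [eq_comm, ← cj_eq_iff, cj_mul, cj_zpow, h.a2, zpow_one, h.b2, ← mul_assoc, ← zpow_add,
      neg_add_cancel, zpow_zero, one_mul]

theorem ns_pow (h : Ns r1 y1 r2 y2 a 1 b1 1 b2) (k : ℕ) :
    Ns r1 y1 r2 y2 (a ^ k) 1 (k * b1) 1 (k * b2) := by
  induction k with
  | zero => simpa using (Ns.one (r1 := r1) (y1 := y1) (r2 := r2) (y2 := y2))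
  | succ k ih =>
    rw [pow_succ]
    convert ns_mul ih h using 1 <;> push_cast <;> ring

theorem ns_zpow (h : Ns r1 y1 r2 y2 a 1 b1 1 b2) (k : ℤ) :
    Ns r1 y1 r2 y2 (a ^ k) 1 (k * b1) 1 (k * b2) := by
  obtain ⟨k, rfl | rfl⟩ := k.eq_nat_or_neg
  · simpa using ns_pow h k
  · have := ns_inv (ns_pow h k)
    rw [zpow_neg, zpow_natCast]
    convert this using 1 <;> ring

theorem ns_exp1 (h : Ns r1 y1 r2 y2 s u1 b1 u2 b2) (h' : Ns r1 y1 r2 y2 s v1 c1 v2 c2) :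
    r1 ^ b1 = r1 ^ c1 := mul_right_cancel (h.b1.symm.trans h'.b1)

theorem ns_exp2 (h : Ns r1 y1 r2 y2 s u1 b1 u2 b2) (h' : Ns r1 y1 r2 y2 s v1 c1 v2 c2) :
    r2 ^ b2 = r2 ^ c2 := mul_right_cancel (h.b2.symm.trans h'.b2)

/-- conjugation by `y1`. -/
theorem cj_y1_of (h : Ns r1 y1 r2 y2 a 1 b1 1 b2) : cj y1 a = a * r1 ^ (-b1) := by
  have h1 : a⁻¹ * y1 * a = r1 ^ (-b1) * y1 := by
    have := (ns_inv h).b1
    rwa [cj_def, inv_inv] at this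
  calc cj y1 a = a * (a⁻¹ * y1 * a) * y1⁻¹ := by simp [cj, mul_assoc]
    _ = a * r1 ^ (-b1) := by rw [h1]; group

theorem cj_y2_of (h : Ns r1 y1 r2 y2 a 1 b1 1 b2) : cj y2 a = a * r2 ^ (-b2) :=
  cj_y1_of h.symm

end NA

/-- The 2-group data. -/
structure Sp (S P : Subgroup G) (z r1 y1 r2 y2 : G) (n : ℕ) : Prop
    extends Co z r1 y1 r2 y2 n n where
  h1 : r1 ∈ S
  h2 : y1 ∈ S
  h3 : r2 ∈ S
  h4 : y2 ∈ S
  act : ∀ s ∈ S, (∃ u1 j1 u2 j2 : ℤ, Pm u1 ∧ Pm u2 ∧ Ns r1 y1 r2 y2 s u1 j1 u2 j2) ∨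
    (∃ u1 j1 u2 j2 : ℤ, Pm u1 ∧ Pm u2 ∧ Sw r1 y1 r2 y2 s u1 j1 u2 j2)
  /-- nobody acts as (diagonal, 1). -/
  par : ∀ s ∈ S, ∀ u1 j1 u2 j2 : ℤ, Ns r1 y1 r2 y2 s u1 j1 u2 j2 → Even (j1 + j2)
  mP : ∀ s, s ∈ P ↔ s ∈ S ∧ Ns r1 y1 r2 y2 s 1 0 1 0
  cyc : ∃ p ∈ P, ∀ x ∈ P, ∃ i : ℤ, x = p ^ i
  four : ∃ p ∈ P, p * p = z
  two : IsPGroup 2 S

namespace Sp

variable {S P : Subgroup G} {z r1 y1 r2 y2 a a' s x g : G} {n : ℕ} {b1 b2 c1 c2 u1 j1 u2 j2 : ℤ}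

theorem symm (h : Sp S P z r1 y1 r2 y2 n) : Sp S P z r2 y2 r1 y1 n where
  toCo := h.toCo.symm
  h1 := h.h3
  h2 := h.h4
  h3 := h.h1
  h4 := h.h2
  act s hs := by
    rcases h.act s hs with ⟨u1, j1, u2, j2, p1, p2, N⟩ | ⟨u1, j1, u2, j2, p1, p2, N⟩
    · exact Or.inl ⟨u2, j2, u1, j1, p2, p1, N.symm⟩
    · exact Or.inr ⟨u2, j2, u1, j1, p2, p1, N.symm⟩
  par s hs u1 j1 u2 j2 N := by
    rw [add_comm]
    exact h.par s hs u2 j2 u1 j1 N.symm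
  mP s := by
    rw [h.mP]
    exact ⟨fun h => ⟨h.1, h.2.symm⟩, fun h => ⟨h.1, h.2.symm⟩⟩
  cyc := h.cyc
  four := h.four
  two := h.two

theorem cj_z (h : Sp S P z r1 y1 r2 y2 n) (hs : s ∈ S) : cj s z = z := by
  rcases h.act s hs with ⟨u1, j1, u2, j2, p1, p2, N⟩ | ⟨u1, j1, u2, j2, p1, p2, N⟩
  · exact N.cj_z h.toCo
  · exact N.cj_z h.toCo

theorem zc (h : Sp S P z r1 y1 r2 y2 n) (hs : s ∈ S) : s * z = z * s := comm_of_cj (h.cj_z hs)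

theorem R_le (h : Sp S P z r1 y1 r2 y2 n) : RR r1 y1 r2 y2 ≤ S := by
  unfold RR
  refine sup_le ?_ ?_ <;> rw [closure_le] <;> rintro x (rfl | rfl)
  exacts [h.h1, h.h2, h.h3, h.h4]

theorem hz (h : Sp S P z r1 y1 r2 y2 n) : z ∈ S := h.R_le h.mz

theorem P_le (h : Sp S P z r1 y1 r2 y2 n) : P ≤ S := fun s hs => ((h.mP s).1 hs).1

theorem nsP (h : Sp S P z r1 y1 r2 y2 n) (hx : x ∈ P) : Ns r1 y1 r2 y2 x 1 0 1 0 :=
  ((h.mP x).1 hx).2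

theorem ns_z (h : Sp S P z r1 y1 r2 y2 n) : Ns r1 y1 r2 y2 z 1 0 1 0 where
  a1 := by rw [zpow_one]; exact cj_eq_self h.q1.zr
  b1 := by rw [zpow_zero, one_mul]; exact cj_eq_self h.q1.zy
  a2 := by rw [zpow_one]; exact cj_eq_self h.q2.zr
  b2 := by rw [zpow_zero, one_mul]; exact cj_eq_self h.q2.zy

theorem zP (h : Sp S P z r1 y1 r2 y2 n) : z ∈ P := (h.mP z).2 ⟨h.hz, h.ns_z⟩

theorem cP1 (h : Sp S P z r1 y1 r2 y2 n) (hx : x ∈ P) : cj x r1 = r1 := by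
  have := (h.nsP hx).a1; rwa [zpow_one] at this

theorem cP2 (h : Sp S P z r1 y1 r2 y2 n) (hx : x ∈ P) : cj x y1 = y1 := by
  have := (h.nsP hx).b1; rwa [zpow_zero, one_mul] at this

theorem cP3 (h : Sp S P z r1 y1 r2 y2 n) (hx : x ∈ P) : cj x r2 = r2 := h.symm.cP1 hx

theorem cP4 (h : Sp S P z r1 y1 r2 y2 n) (hx : x ∈ P) : cj x y2 = y2 := h.symm.cP2 hx

theorem memP (h : Sp S P z r1 y1 r2 y2 n) (hs : s ∈ S) (c1 : cj s r1 = r1) (c2 : cj s y1 = y1)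
    (c3 : cj s r2 = r2) (c4 : cj s y2 = y2) : s ∈ P :=
  (h.mP s).2 ⟨hs, by rw [zpow_one, c1], by rw [zpow_zero, one_mul, c2], by rw [zpow_one, c3],
    by rw [zpow_zero, one_mul, c4]⟩

/-- elements of `P` centralize `R`. -/
theorem P_RR (h : Sp S P z r1 y1 r2 y2 n) (hx : x ∈ P) (hg : g ∈ RR r1 y1 r2 y2) : cj x g = g := by
  have h1 : RR r1 y1 r2 y2 ≤ centralizer {x} := by
    unfold RR
    refine sup_le ?_ ?_ <;> rw [closure_le] <;> rintro w (rfl | rfl) <;> rw [SetLike.mem_coe, mem_cz]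
    exacts [(comm_of_cj (h.cP1 hx)).symm, (comm_of_cj (h.cP2 hx)).symm,
      (comm_of_cj (h.cP3 hx)).symm, (comm_of_cj (h.cP4 hx)).symm]
  exact cj_eq_self (mem_cz.1 (h1 hg)).symm

/-- `R` is normalized by `S`. -/
theorem cj_RR (h : Sp S P z r1 y1 r2 y2 n) (hs : s ∈ S) (hg : g ∈ RR r1 y1 r2 y2) :
    cj s g ∈ RR r1 y1 r2 y2 := by
  have h1 : RR r1 y1 r2 y2 ≤ (RR r1 y1 r2 y2).comap (MulAut.conj s).toMonoidHom := by
    conv_lhs => unfold RR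
    refine sup_le ?_ ?_ <;> rw [closure_le] <;> rintro w (rfl | rfl) <;>
      rw [SetLike.mem_coe, mem_comap] <;>
      rcases h.act s hs with ⟨u1, j1, u2, j2, p1, p2, N⟩ | ⟨u1, j1, u2, j2, p1, p2, N⟩
    · change cj s w ∈ _; rw [N.a1]; exact Subgroup.zpow_mem _ h.m1 _
    · change cj s w ∈ _; rw [N.a1]; exact Subgroup.zpow_mem _ h.m3 _
    · change cj s w ∈ _; rw [N.b1]; exact mul_mem (Subgroup.zpow_mem _ h.m1 _) h.m2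
    · change cj s w ∈ _; rw [N.b1]; exact mul_mem (Subgroup.zpow_mem _ h.m3 _) h.m4
    · change cj s w ∈ _; rw [N.a2]; exact Subgroup.zpow_mem _ h.m3 _
    · change cj s w ∈ _; rw [N.a2]; exact Subgroup.zpow_mem _ h.m1 _
    · change cj s w ∈ _; rw [N.b2]; exact mul_mem (Subgroup.zpow_mem _ h.m3 _) h.m4
    · change cj s w ∈ _; rw [N.b2]; exact mul_mem (Subgroup.zpow_mem _ h.m1 _) h.m2
  exact h1 hg

theorem P_nor (h : Sp S P z r1 y1 r2 y2 n) (hs : s ∈ S) (hx : x ∈ P) : cj s x ∈ P := by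
  have key : ∀ g ∈ RR r1 y1 r2 y2, cj (cj s x) g = g := by
    intro g hg
    have h1 := h.P_RR hx (h.cj_RR (inv_mem hs) hg)
    conv_lhs => rw [← cj_cj_inv s g]
    rw [cj_cj, h1, cj_cj_inv]
  exact h.memP (cj_mem hs (h.P_le hx)) (key _ h.m1) (key _ h.m2) (key _ h.m3) (key _ h.m4)

theorem P_comm (h : Sp S P z r1 y1 r2 y2 n) {x x' : G} (hx : x ∈ P) (hx' : x' ∈ P) :
    Commute x x' := by
  obtain ⟨p, _, hp⟩ := h.cyc
  obtain ⟨i, rfl⟩ := hp x hx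
  obtain ⟨j, rfl⟩ := hp x' hx'
  exact Commute.zpow_zpow_self p i j

/-- `z` is the only involution of `P`. -/
theorem P_invol (h : Sp S P z r1 y1 r2 y2 n) (hx : x ∈ P) (hxx : x * x = 1) : x = 1 ∨ x = z := by
  obtain ⟨p, _, hp⟩ := h.cyc
  obtain ⟨i, hi⟩ := hp x hx
  obtain ⟨j, hj⟩ := hp z h.zP
  by_cases h0 : x = 1
  · exact Or.inl h0
  right
  have e1 : p ^ (2 * i) = 1 := by rw [two_mul, zpow_add, ← hi, hxx]
  have e2 : p ^ (2 * j) = 1 := by rw [two_mul, zpow_add, ← hj, h.q1.z_sq]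
  rw [← orderOf_dvd_iff_zpow_eq_one] at e1 e2
  have n1 : ¬ (orderOf p : ℤ) ∣ i := fun hd => h0 (by
    rw [hi]; exact orderOf_dvd_iff_zpow_eq_one.1 hd)
  have n2 : ¬ (orderOf p : ℤ) ∣ j := fun hd => h.q1.z_ne (by
    rw [hj]; exact orderOf_dvd_iff_zpow_eq_one.1 hd)
  obtain ⟨k, hk⟩ := e1
  obtain ⟨l, hl⟩ := e2
  have k1 : Odd k := by
    rw [← Int.not_even_iff_odd]
    rintro ⟨m, rfl⟩
    exact n1 ⟨m, by linarith⟩
  have l1 : Odd l := by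
    rw [← Int.not_even_iff_odd]
    rintro ⟨m, rfl⟩
    exact n2 ⟨m, by linarith⟩
  have h3 : Even (k - l) := k1.sub_odd l1
  obtain ⟨m, hm⟩ := h3
  have h4 : p ^ (i - j) = 1 := by
    apply orderOf_dvd_iff_zpow_eq_one.1
    refine ⟨m, ?_⟩
    have : 2 * (i - j) = 2 * (orderOf p * m) := by
      rw [mul_sub, hk, hl, ← mul_sub, hm]; ring
    linarith
  rw [zpow_sub, mul_inv_eq_one] at h4
  rw [hi, h4, ← hj]

theorem P_zpow (h : Sp S P z r1 y1 r2 y2 n) (hx : x ∈ P) (hx1 : x ≠ 1) : ∃ i : ℤ, x ^ i = z := by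
  obtain ⟨k, hk⟩ := h.two ⟨x, h.P_le hx⟩
  have hk' : x ^ (2 ^ k) = 1 := by
    have := congrArg Subtype.val hk
    simpa using this
  clear hk
  induction k with
  | zero => exact absurd (by simpa using hk') hx1
  | succ k ih =>
    by_cases h1 : x ^ (2 ^ k) = 1
    · exact ih h1
    · have h2 : x ^ (2 ^ k) * x ^ (2 ^ k) = 1 := by
        rw [← pow_add, ← two_mul, ← pow_succ', hk']
      rcases h.P_invol (pow_mem hx _) h2 with h3 | h3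
      · exact absurd h3 h1
      · exact ⟨(2 ^ k : ℕ), by rw [zpow_natCast, h3]⟩

/-- a power of `x` is a square root of `z`. -/
theorem P_sqrt (h : Sp S P z r1 y1 r2 y2 n) (hx : x ∈ P) (hx1 : ¬ (x = 1 ∨ x = z)) :
    ∃ i : ℤ, x ^ i * x ^ i = z := by
  have h1 : x * x ≠ 1 := fun e => hx1 (h.P_invol hx e)
  obtain ⟨i, hi⟩ := h.P_zpow (mul_mem hx hx) h1
  refine ⟨i, ?_⟩
  rw [← hi, (Commute.refl x).mul_zpow]

theorem P_rr (h : Sp S P z r1 y1 r2 y2 n) {i j : ℤ} (hx : r1 ^ i * r2 ^ j ∈ P) :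
    r1 ^ i = 1 ∨ r1 ^ i = z := by
  have h1 := (comm_of_cj (h.cP2 hx)).symm
  have h2 : cj y1 (r1 ^ i * r2 ^ j) = r1 ^ (-i) * r2 ^ j := by
    rw [cj_mul, h.q1.cj_y_zpow, cj_zpow, cj_eq_self h.yr]
  rw [cj_eq_self h1] at h2
  have h3 := mul_right_cancel h2
  apply h.q1.sqrt1
  rw [two_mul, zpow_add]
  nth_rewrite 1 [h3]
  rw [← zpow_add, neg_add_cancel, zpow_zero]

theorem P_rr' (h : Sp S P z r1 y1 r2 y2 n) {i j : ℤ} (hx : r1 ^ i * r2 ^ j ∈ P) :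
    r2 ^ j = 1 ∨ r2 ^ j = z := by
  apply h.symm.P_rr (i := j) (j := i)
  rwa [((show Commute r1 r2 from h.rr).zpow_zpow i j).eq] at hx

theorem P_r (h : Sp S P z r1 y1 r2 y2 n) {i : ℤ} (hx : r1 ^ i ∈ P) : r1 ^ i = 1 ∨ r1 ^ i = z := by
  apply h.P_rr (j := 0)
  rwa [zpow_zero, mul_one]

theorem t_notP (h : Sp S P z r1 y1 r2 y2 n) : te r1 r2 n ∉ P := by
  intro h1
  have h2 := h.P_rr (i := 2 ^ n) (j := 2 ^ n) (by
    rw [show r1 ^ ((2 : ℤ) ^ n) = r1 ^ (2 ^ n) by rw [← zpow_natCast]; push_cast; rfl,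
      show r2 ^ ((2 : ℤ) ^ n) = r2 ^ (2 ^ n) by rw [← zpow_natCast]; push_cast; rfl]
    exact h1)
  rw [show r1 ^ ((2 : ℤ) ^ n) = r1 ^ (2 ^ n) by rw [← zpow_natCast]; push_cast; rfl] at h2
  exact h.q1.a_ne h2

theorem tz_notP (h : Sp S P z r1 y1 r2 y2 n) : te r1 r2 n * z ∉ P := by
  intro h1
  apply h.t_notP
  have := mul_mem h1 h.zP
  rwa [mul_assoc, h.q1.z_sq, mul_one] at this

theorem t_mem (h : Sp S P z r1 y1 r2 y2 n) : te r1 r2 n ∈ S :=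
  mul_mem (pow_mem h.h1 _) (pow_mem h.h3 _)

theorem t_comm' (h : Sp S P z r1 y1 r2 y2 n) : te r1 r2 n = te r2 r1 n := Sd.t_comm h.toCo

theorem tt (h : Sp S P z r1 y1 r2 y2 n) : te r1 r2 n * te r1 r2 n = 1 := Sd.t_sq h.toCo

theorem t_ne_one (h : Sp S P z r1 y1 r2 y2 n) : te r1 r2 n ≠ 1 := Sd.t_ne_one h.toCo

theorem t_ne_z (h : Sp S P z r1 y1 r2 y2 n) : te r1 r2 n ≠ z := Sd.t_ne_z h.toCo

theorem zz (h : Sp S P z r1 y1 r2 y2 n) : z * z = 1 := h.q1.z_sq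

theorem tz (h : Sp S P z r1 y1 r2 y2 n) : te r1 r2 n * z = z * te r1 r2 n := h.zc h.t_mem

/-- `s * s ∈ P` for `s` inverting `r1` and `r2`. -/
theorem sq_mem (h : Sp S P z r1 y1 r2 y2 n) (hs : s ∈ S) (N : Ns r1 y1 r2 y2 s (-1) j1 (-1) j2) :
    s * s ∈ P := by
  refine (h.mP _).2 ⟨mul_mem hs hs, ?_⟩
  have := N.mul N
  convert this using 1
  · norm_num
  · ring
  · norm_num
  · ring

theorem even_dec (h : Sp S P z r1 y1 r2 y2 n) (hs : s ∈ S) {i j : ℤ}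
    (N : Ns r1 y1 r2 y2 s 1 (2 * i) 1 (2 * j)) : ∃ π ∈ P, s = r1 ^ i * r2 ^ j * π := by
  refine ⟨(r1 ^ i * r2 ^ j)⁻¹ * s, (h.mP _).2 ⟨?_, ?_⟩, by group⟩
  · exact mul_mem (inv_mem (mul_mem (zpow_mem h.h1 _) (zpow_mem h.h3 _))) hs
  · have h1 := ns_mul (ns_inv (ns_mul (h.ns_r1 i) (h.ns_r2 j))) N
    convert h1 using 1 <;> ring

theorem comm_mem (h : Sp S P z r1 y1 r2 y2 n) (ha : a ∈ S) (ha' : a' ∈ S)
    (N : Ns r1 y1 r2 y2 a 1 b1 1 b2) (N' : Ns r1 y1 r2 y2 a' 1 c1 1 c2) : cj a a' * a'⁻¹ ∈ P := by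
  refine (h.mP _).2 ⟨mul_mem (cj_mem ha ha') (inv_mem ha'), ?_⟩
  have h1 : Ns r1 y1 r2 y2 (cj a a' * a'⁻¹) 1 (b1 + c1 + -b1 + -c1) 1 (b2 + c2 + -b2 + -c2) :=
    ns_mul (ns_mul (ns_mul N N') (ns_inv N)) (ns_inv N')
  convert h1 using 1 <;> ring

theorem ns_v (h : Sp S P z r1 y1 r2 y2 n) : Ns r1 y1 r2 y2 (y1 * y2) (-1) 0 (-1) 0 := by
  have := h.ns_y1.mul h.ns_y2
  simpa using this

theorem v_mem (h : Sp S P z r1 y1 r2 y2 n) : y1 * y2 ∈ S := mul_mem h.h2 h.h4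

theorem vv (h : Sp S P z r1 y1 r2 y2 n) : (y1 * y2) * (y1 * y2) = 1 := by
  calc (y1 * y2) * (y1 * y2) = y1 * (y2 * y1) * y2 := by group
    _ = (y1 * y1) * (y2 * y2) := by rw [← h.yy]; group
    _ = 1 := by rw [h.q1.ys, h.q2.ys, h.zz]

theorem v_inv (h : Sp S P z r1 y1 r2 y2 n) : (y1 * y2)⁻¹ = y1 * y2 :=
  inv_eq_of_mul_eq_one_left h.vv

theorem cj_v_of (h : Sp S P z r1 y1 r2 y2 n) (N : Ns r1 y1 r2 y2 a 1 b1 1 b2) :
    cj (y1 * y2) a = a * r1 ^ (-b1) * r2 ^ (-b2) := by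
  rw [cj_mul_left, cj_y2_of N, cj_mul, cj_y1_of N, cj_zpow, cj_eq_self h.yr]

theorem lam_mem (h : Sp S P z r1 y1 r2 y2 n) (ha : a ∈ S) (N : Ns r1 y1 r2 y2 a 1 b1 1 b2) :
    a * a * r1 ^ (-b1) * r2 ^ (-b2) ∈ P := by
  refine (h.mP _).2 ⟨?_, ?_⟩
  · exact mul_mem (mul_mem (mul_mem ha ha) (zpow_mem h.h1 _)) (zpow_mem h.h3 _)
  · have h1 := ns_mul (ns_mul (ns_mul N N) (h.ns_r1 (-b1))) (h.ns_r2 (-b2))
    convert h1 using 1 <;> ring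

theorem ns_t (h : Sp S P z r1 y1 r2 y2 n) :
    Ns r1 y1 r2 y2 (te r1 r2 n) 1 (2 ^ (n + 1)) 1 (2 ^ (n + 1)) := by
  have h1 := ns_mul (h.ns_r1 (2 ^ n)) (h.ns_r2 (2 ^ n))
  have e1 : r1 ^ ((2 : ℤ) ^ n) = r1 ^ (2 ^ n) := by rw [← zpow_natCast]; push_cast; rfl
  have e2 : r2 ^ ((2 : ℤ) ^ n) = r2 ^ (2 ^ n) := by rw [← zpow_natCast]; push_cast; rfl
  rw [e1, e2] at h1
  convert h1 using 1 <;> ring

end Sp

end Cfsg.Agent.Cit.TwoSyl
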