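import Cfsg.Agent.Cit.TwoFK.Fam
import Cfsg.Agent.Cit.OneK1
import Cfsg.Agent.Cit.LemmaB
import Cfsg.Agent.GH.Q2.InF2
import Cfsg.Agent.GH.Q2.Coord
import Cfsg.Agent.GH.Q2.MainTg

/-!
# D5b, `C_S(Q₁Q₂) = ⟨z⟩`: the data of GH-Q (II) from `TwoEq`

For `TwoEq Om`, `Mate Om K L`, `S` a Sylow 2-subgroup of `C(zz K)`, `C_S(Q₁Q₂) = ⟨z⟩` and no field automorphisms:
coordinates `Sd`, `(f1)`, `(f2)`.
-/

set_option autoImplicit false
set_option linter.style.haveILetI false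
set_option linter.unusedSectionVars false
set_option linter.unusedVariables false

namespace Cfsg.Agent.Cit.TwoSyl.GlueOne

open Subgroup Cfsg Cit OneBasic TwoFK OneFieldHom OneFieldPsi
open Cfsg.Agent.GH.Q2 (Sd Ns Sw RR Co Qn)

variable {G : Type*} [Group G] [Finite G] {Om : Set (Subgroup G)} {K L S : Subgroup G}

/-- no field automorphisms, in the form of THEOREM FK -/
def FK (Om : Set (Subgroup G)) : Prop :=
  ∀ n, n ≠ 0 → Ord Om n → ∀ K ∈ Om, ∀ g ∈ normalizer (K : Set G), psiK K n g = 1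

theorem hK1 (b : TwoEq Om) (hT : ∀ K ∈ Om, TyTwo K) (hK : K ∈ Om) : ∀ x ∈ K, ∀ y ∈ K, orderOf x = 4 →
    orderOf y = 4 → ∃ k ∈ K, k * x * k⁻¹ = y :=
  fun _ hx _ hy hx4 hy4 => b.hyp.conj_four hK (hT K hK) hx hy hx4 hy4

/-- `FK` on coordinates -/
theorem fk_coord (b : TwoEq Om) (hF : FK Om) (hK : K ∈ Om) {Q : Subgroup G} (hQ : Syl Q K) {x y : G} {n : ℕ}
    (g : GQ Q x y (zz K) n) {s : G} (hs : s ∈ normalizer (K : Set G)) {a : ℤ} (ha : s * x * s⁻¹ = x ^ a) :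
    x ^ a = x ∨ x ^ a = x⁻¹ := by
  have hord : orderOf (s * x * s⁻¹) = 2 ^ (n + 2) := by
    have := (MulAut.conj s).orderOf_eq x
    rw [MulAut.conj_apply] at this
    rw [this, g.ord]
  have hx1 : x ^ 2 ^ (n + 2) = 1 := pow_eq_one g.ord
  obtain ⟨u, hu⟩ := exists_unit g.ord hord (by rw [ha]; exact zpow_mem (mem_zpowers x) a)
  have key : (u = 1 ∨ u = -1) → x ^ a = x ∨ x ^ a = x⁻¹ := by
    rintro (h1 | h1)
    · left; rw [← ha, hu, h1, Units.val_one, cp_one hx1]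
    · right; rw [← ha, hu, h1, Units.val_neg, Units.val_one, cp_neg_one hx1]
  apply key
  rcases Nat.eq_zero_or_pos n with hn | hn
  · subst hn
    have : ∀ w : (ZMod 4)ˣ, w = 1 ∨ w = -1 := by decide
    exact this u
  · have hn0 : n ≠ 0 := by omega
    obtain ⟨m, ho⟩ := TwoFK.exists_ord b
    have hmn := ho.eq hK hQ g
    subst hmn
    have h2 := hF n hn0 ho K hK s hs
    have h3 : R K n s u := R_of_one (ho K hK) hn0 hs (hQ.1 g.c_mem) g.ord K.one_mem (by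
      rw [hu]; group)
    rw [psiK_eq (ho K hK) hn0 h3, q_eq_one] at h2
    exact h2

/-- an even type is inner on a quaternion group -/
theorem exists_inner {Q : Subgroup G} {z r y s : G} {n : ℕ} {j : ℤ} (g : GQ Q r y z n)
    (hr : s * r * s⁻¹ = r ∨ s * r * s⁻¹ = r⁻¹) (hy : s * y * s⁻¹ = r ^ j * y) (hj : Even j) :
    ∃ q ∈ Q, q * r * q⁻¹ = s * r * s⁻¹ ∧ q * y * q⁻¹ = s * y * s⁻¹ := by
  obtain ⟨k, rfl⟩ := hj
  have hyk : y * r ^ (-k) = r ^ k * y := by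
    have h1 : y * r ^ (-k) * y⁻¹ = r ^ k := by
      rw [← conj_zpow, g.conj, inv_zpow, zpow_neg, inv_inv]
    rw [← h1]; group
  have h2 : r ^ k * y * (r ^ k)⁻¹ = r ^ (k + k) * y := by
    rw [← zpow_neg, mul_assoc, hyk, ← mul_assoc, ← zpow_add]
  rcases hr with h1 | h1
  · refine ⟨r ^ k, Q.zpow_mem g.c_mem k, ?_, by rw [hy, h2]⟩
    rw [h1]; group
  · refine ⟨r ^ k * y, Q.mul_mem (Q.zpow_mem g.c_mem k) g.v_mem, ?_, ?_⟩
    · calc r ^ k * y * r * (r ^ k * y)⁻¹ = r ^ k * (y * r * y⁻¹) * (r ^ k)⁻¹ := by group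
        _ = r⁻¹ := by rw [g.conj]; group
        _ = s * r * s⁻¹ := h1.symm
    · calc r ^ k * y * y * (r ^ k * y)⁻¹ = r ^ k * y * (r ^ k)⁻¹ := by group
        _ = s * y * s⁻¹ := by rw [h2, hy]

theorem comm_of {Q : Subgroup G} {z r y s : G} {n : ℕ} (g : GQ Q r y z n) (hr : s * r = r * s)
    (hy : s * y = y * s) : ∀ w ∈ Q, s * w = w * s := by
  intro w hw
  have h1 : Q ≤ centralizer {s} := by
    rw [← GH.Q2.Coord.closure_of_gq g, closure_le]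
    rintro x (rfl | rfl)
    · exact mem_centralizer_singleton_iff.2 hr.symm
    · exact mem_centralizer_singleton_iff.2 hy.symm
  exact (mem_centralizer_singleton_iff.1 (h1 hw)).symm

/-- the centraliser of `Q₁Q₂` in `S` is `⟨z⟩` -/
def PPz (K L S : Subgroup G) : Prop :=
  ∀ s ∈ S, (∀ g ∈ K ⊓ S, s * g = g * s) → (∀ g ∈ L ⊓ S, s * g = g * s) → s = 1 ∨ s = zz K

theorem comm_QQ (b : TwoEq Om) (m : Mate Om K L) (hS : Syl S (centralizer {zz K})) :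
    ∀ a ∈ K ⊓ S, ∀ c ∈ L ⊓ S, a * c = c * a :=
  fun _ ha _ hc => m.comm b.hyp hS.2.1 ha.1 ha.2 hc.1 hc.2

theorem syl1 (b : TwoEq Om) (m : Mate Om K L) (hS : Syl S (centralizer {zz K})) : Syl (K ⊓ S) K :=
  b.syl_inf m.hK hS

theorem syl2 (b : TwoEq Om) (m : Mate Om K L) (hS : Syl S (centralizer {zz K})) : Syl (L ⊓ S) L :=
  b.syl_inf m.hL (by rw [← m.zz]; exact hS)

/-- **`inR`** -/
theorem inR (b : TwoEq Om) (hF : FK Om) (m : Mate Om K L) (hS : Syl S (centralizer {zz K}))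
    (h0 : PPz K L S) {r1 y1 r2 y2 : G} {n1 n2 : ℕ} (g1 : GQ (K ⊓ S) r1 y1 (zz K) n1)
    (g2 : GQ (L ⊓ S) r2 y2 (zz K) n2) {s : G} (hs : s ∈ S) {u1 j1 u2 j2 : ℤ}
    (N : Ns r1 y1 r2 y2 s u1 j1 u2 j2) (e1 : Even j1) (e2 : Even j2) : s ∈ RR r1 y1 r2 y2 := by
  have a1 : s * r1 * s⁻¹ = r1 ^ u1 := N.a1
  have a2 : s * r2 * s⁻¹ = r2 ^ u2 := N.a2
  have b1 : s * y1 * s⁻¹ = r1 ^ j1 * y1 := N.b1
  have b2 : s * y2 * s⁻¹ = r2 ^ j2 * y2 := N.b2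
  have hsz : s * zz K = zz K * s := mem_centralizer_singleton_iff.1 (hS.1 hs)
  have hsK : s ∈ normalizer (K : Set G) := by
    rcases b.norm_or m hsz with h1 | h1
    · exact h1
    · exfalso
      have h2 : s * r1 * s⁻¹ ∈ L := by rw [← h1]; exact conj_mem_cj g1.c_mem.1
      have h3 : r1 ^ u1 ∈ K ⊓ S := zpow_mem g1.c_mem u1
      have h4 : r1 ^ u1 ∈ L ⊓ S := ⟨a1 ▸ h2, h3.2⟩
      have h5 : y1 * r1 ^ u1 = r1 ^ u1 * y1 := comm_QQ b m hS _ g1.v_mem _ h4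
      have h6 : orderOf (r1 ^ u1) = 2 ^ (n1 + 2) := by
        rw [← a1]
        have := (MulAut.conj s).orderOf_eq r1
        rw [MulAut.conj_apply] at this
        rw [this, g1.ord]
      have h7 : r1 ^ u1 = (r1 ^ u1)⁻¹ := by
        have h8 : y1 * r1 ^ u1 * y1⁻¹ = (r1 ^ u1)⁻¹ := by
          rw [← conj_zpow, g1.conj, inv_zpow]
        rw [← h8, h5, mul_inv_cancel_right]
      have h9 : (r1 ^ u1) ^ 2 = 1 := by
        rw [pow_two]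
        nth_rewrite 2 [h7]
        exact mul_inv_cancel _
      have h10 := orderOf_dvd_of_pow_eq_one h9
      rw [h6] at h10
      have h11 := Nat.le_of_dvd (by norm_num) h10
      have h12 : 2 ^ 1 < 2 ^ (n1 + 2) := Nat.pow_lt_pow_right (by norm_num) (by omega)
      omega
  have hsL := b.mem_normalizer_mate m hsK
  obtain ⟨q1, hq1, c1, d1⟩ := exists_inner g1 (by
    rw [a1]; exact fk_coord b hF m.hK (syl1 b m hS) g1 hsK a1) b1 e1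
  obtain ⟨q2, hq2, c2, d2⟩ := exists_inner g2 (by
    rw [a2]; exact fk_coord b hF m.hL (syl2 b m hS) (m.zz ▸ g2) hsL a2) b2 e2
  have hc := comm_QQ b m hS
  have hq21 : ∀ w ∈ K ⊓ S, q2⁻¹ * w * q2 = w := by
    intro w hw
    rw [mul_assoc, hc w hw q2 hq2, inv_mul_cancel_left]
  have hq12 : ∀ w ∈ L ⊓ S, q1⁻¹ * w * q1 = w := by
    intro w hw
    rw [mul_assoc, ← hc q1 hq1 w hw, inv_mul_cancel_left]
  have hqq : q1 * q2 = q2 * q1 := hc _ hq1 _ hq2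
  have k1 : ∀ w ∈ K ⊓ S, q1 * w * q1⁻¹ = s * w * s⁻¹ → ((q1 * q2)⁻¹ * s) * w = w * ((q1 * q2)⁻¹ * s) := by
    intro w hw h1
    calc ((q1 * q2)⁻¹ * s) * w = q2⁻¹ * (q1⁻¹ * (s * w * s⁻¹) * q1) * q1⁻¹ * s := by group
      _ = (q2⁻¹ * w * q2) * ((q1 * q2)⁻¹ * s) := by rw [← h1]; group
      _ = w * ((q1 * q2)⁻¹ * s) := by rw [hq21 w hw]
  have k2 : ∀ w ∈ L ⊓ S, q2 * w * q2⁻¹ = s * w * s⁻¹ → ((q1 * q2)⁻¹ * s) * w = w * ((q1 * q2)⁻¹ * s) := by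
    intro w hw h1
    rw [hqq]
    calc ((q2 * q1)⁻¹ * s) * w = q1⁻¹ * (q2⁻¹ * (s * w * s⁻¹) * q2) * q2⁻¹ * s := by group
      _ = (q1⁻¹ * w * q1) * ((q2 * q1)⁻¹ * s) := by rw [← h1]; group
      _ = w * ((q2 * q1)⁻¹ * s) := by rw [hq12 w hw]
  have hRR : q1 * q2 ∈ RR r1 y1 r2 y2 := by
    unfold RR
    rw [GH.Q2.Coord.closure_of_gq g1, GH.Q2.Coord.closure_of_gq g2]
    exact mul_mem (mem_sup_left hq1) (mem_sup_right hq2)
  have hz : zz K ∈ RR r1 y1 r2 y2 := by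
    unfold RR
    rw [GH.Q2.Coord.closure_of_gq g1]
    exact mem_sup_left g1.z_mem
  have h1 := h0 ((q1 * q2)⁻¹ * s) (S.mul_mem (S.inv_mem (S.mul_mem hq1.2 hq2.2)) hs)
    (comm_of g1 (k1 _ g1.c_mem c1) (k1 _ g1.v_mem d1)) (comm_of g2 (k2 _ g2.c_mem c2) (k2 _ g2.v_mem d2))
  have h2 : s = (q1 * q2) * ((q1 * q2)⁻¹ * s) := by group
  rw [h2]
  rcases h1 with h1 | h1
  · rw [h1, mul_one]; exact hRR
  · rw [h1]; exact mul_mem hRR hz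

/-- `Q₁ ∩ Q₂ = ⟨z⟩` -/
theorem inf_eq (b : TwoEq Om) (m : Mate Om K L) (hS : Syl S (centralizer {zz K})) {x : G} (hx1 : x ∈ K ⊓ S)
    (hx2 : x ∈ L ⊓ S) : x = 1 ∨ x = zz K := by
  obtain ⟨c, v, n, hc⟩ := b.hyp.exists_gq m.hK (syl1 b m hS)
  have h3 : ∀ a ∈ K ⊓ S, a * x = x * a := fun a ha => comm_QQ b m hS a ha x hx2
  by_cases hxc : x ∈ zpowers c
  · obtain ⟨i, rfl⟩ := hxc
    have h4 : v * c ^ i = c ^ i * v := h3 v hc.v_mem
    rw [hc.zpow_v] at h4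
    have h5 : c ^ (2 * i) = 1 := by
      rw [two_mul, zpow_add]
      nth_rewrite 1 [mul_left_cancel h4]
      rw [zpow_neg, inv_mul_cancel]
    exact hc.zpow_sq h5
  · exfalso
    obtain ⟨i, rfl⟩ := hc.exists_eq_of_not_mem hx1 hxc
    exact GH.Q2.InRank.out_not_comm hc i (h3 c hc.c_mem)

/-- **coordinates** -/
theorem exists_sd (b : TwoEq Om) (hF : FK Om) (m : Mate Om K L) (hS : Syl S (centralizer {zz K}))
    (h0 : PPz K L S) : ∃ (r1 y1 r2 y2 : G) (n1 n2 : ℕ), Sd S (zz K) r1 y1 r2 y2 n1 n2 ∧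
      GQ (K ⊓ S) r1 y1 (zz K) n1 ∧ GQ (L ⊓ S) r2 y2 (zz K) n2 := by
  obtain ⟨c₁, v₁, n₁, g1⟩ := b.hyp.exists_gq m.hK (syl1 b m hS)
  obtain ⟨c₂, v₂, n₂, g2⟩ := b.hyp.exists_gq m.hL (syl2 b m hS)
  rw [← m.zz] at g2
  have hmap : ∀ (s : G) (A B : Subgroup G), s ∈ S → cj s A = B → ∀ g ∈ A ⊓ S, s * g * s⁻¹ ∈ B ⊓ S := by
    rintro s A B hs rfl g ⟨hgA, hg⟩
    exact ⟨conj_mem_cj hgA, S.mul_mem (S.mul_mem hs hg) (S.inv_mem hs)⟩
  obtain ⟨r1, y1, r2, y2, k1, k2, hco, -, -, hact⟩ := GH.Q2.Coord.exists_coord hS.2.1 g1 g2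
    (comm_QQ b m hS) (fun g hg1 hg2 => inf_eq b m hS hg1 hg2) (by
      intro s hs
      rcases b.cj_or m (mem_centralizer_singleton_iff.1 (hS.1 hs)) with ⟨e1, e2⟩ | ⟨e1, e2⟩
      · exact Or.inl ⟨hmap s _ _ hs e1, hmap s _ _ hs e2⟩
      · exact Or.inr ⟨hmap s _ _ hs e1, hmap s _ _ hs e2⟩)
  exact ⟨r1, y1, r2, y2, n₁, n₂, ⟨hco, k1.c_mem.2, k1.v_mem.2, k2.c_mem.2, k2.v_mem.2, hact,
    fun s hs u1 j1 u2 j2 N e1 e2 => inR b hF m hS h0 k1 k2 hs N e1 e2⟩, k1, k2⟩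

/-- involutions of `R` other than `z` -/
theorem exists_of_mem (b : TwoEq Om) (m : Mate Om K L) (hS : Syl S (centralizer {zz K})) {a : G}
    (ha : a ∈ (K ⊓ S) ⊔ (L ⊓ S)) (haa : a * a = 1) (ha1 : a ≠ 1) (haz : a ≠ zz K) :
    ∃ p ∈ K ⊓ S, ∃ q ∈ L ⊓ S, a = p * q ∧ p * p = zz K ∧ q * q = zz K := by
  obtain ⟨p, hp, q, hq, rfl⟩ := (GH.Q2.InRank.mem_sup_iff (comm_QQ b m hS)).1 ha
  have hpq := comm_QQ b m hS p hp q hq
  have e1 : (p * p) * (q * q) = 1 := by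
    rw [← haa]
    exact ((show Commute q p from hpq.symm).mul_mul_mul_comm p q).symm
  have e2 : q * q = (p * p)⁻¹ := eq_inv_of_mul_eq_one_right e1
  have hzz : zz K * zz K = 1 := b.hyp.zz_mul m.hK
  have hzi : (zz K)⁻¹ = zz K := inv_eq_of_mul_eq_one_right hzz
  have uK : ∀ x ∈ K, x * x = 1 → x = 1 ∨ x = zz K := by
    intro x hx hxx
    by_cases h1 : x = 1
    · exact Or.inl h1
    · exact Or.inr (b.hyp.eq_zz m.hK hx hxx h1)
  have uL : ∀ x ∈ L, x * x = 1 → x = 1 ∨ x = zz K := by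
    intro x hx hxx
    by_cases h1 : x = 1
    · exact Or.inl h1
    · exact Or.inr (by rw [m.zz]; exact b.hyp.eq_zz m.hL hx hxx h1)
  rcases inf_eq b m hS (x := p * p) (mul_mem hp hp) (by
    have h3 := inv_mem (mul_mem hq hq)
    rwa [e2, inv_inv] at h3) with h3 | h3
  · exfalso
    rw [h3, inv_one] at e2
    rcases uK p hp.1 h3 with h4 | h4 <;> rcases uL q hq.1 e2 with h5 | h5
    · exact ha1 (by rw [h4, h5, one_mul])
    · exact haz (by rw [h4, h5, one_mul])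
    · exact haz (by rw [h4, h5, mul_one])
    · exact ha1 (by rw [h4, h5, hzz])
  · refine ⟨p, hp, q, hq, rfl, h3, ?_⟩
    rw [e2, h3, hzi]

/-- **(f1)** -/
theorem f1 (b : TwoEq Om) (hT : ∀ K ∈ Om, TyTwo K) (m : Mate Om K L) (hS : Syl S (centralizer {zz K}))
    {a a' : G} (ha : a ∈ (K ⊓ S) ⊔ (L ⊓ S)) (ha' : a' ∈ (K ⊓ S) ⊔ (L ⊓ S)) (haa : a * a = 1) (ha1 : a ≠ 1)
    (haz : a ≠ zz K) (hbb : a' * a' = 1) (hb1 : a' ≠ 1) (hbz : a' ≠ zz K) :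
    ∃ c : G, c * zz K * c⁻¹ = zz K ∧ c * a * c⁻¹ = a' := by
  obtain ⟨p, hp, q, hq, rfl, hpp, hqq⟩ := exists_of_mem b m hS ha haa ha1 haz
  obtain ⟨p', hp', q', hq', rfl, hpp', hqq'⟩ := exists_of_mem b m hS ha' hbb hb1 hbz
  have o1 := b.hyp.orderOf_of_sq m.hK hpp
  have o2 := b.hyp.orderOf_of_sq m.hK hpp'
  have o3 := b.hyp.orderOf_of_sq m.hL (by rw [← m.zz]; exact hqq)
  have o4 := b.hyp.orderOf_of_sq m.hL (by rw [← m.zz]; exact hqq')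
  have p1 : IsPGroup 2 ↥(K ⊓ S) := hS.2.1.to_le inf_le_right
  have p2 : IsPGroup 2 ↥(L ⊓ S) := hS.2.1.to_le inf_le_right
  obtain ⟨k, hk, hkc, hkp⟩ := b.hyp.conj_four_rel m.hK (hK1 b hT m.hK) (syl1 b m hS) p2
    (inf_le_left.trans (m.symm.le_normalizer b.hyp)) (fun a ha q hq => (comm_QQ b m hS q hq a ha).symm)
    hp hp' o1 o2
  obtain ⟨l, hl, hlc, hlq⟩ := b.hyp.conj_four_rel m.hL (hK1 b hT m.hL) (syl2 b m hS) p1
    (inf_le_left.trans (m.le_normalizer b.hyp)) (fun a ha q hq => comm_QQ b m hS a ha q hq) hq hq' o3 o4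
  have hkz : k * zz K = zz K * k := b.hyp.comm_zz m.hK (le_normalizer hk)
  have hlz : l * zz K = zz K * l := by
    rw [m.zz]; exact b.hyp.comm_zz m.hL (le_normalizer hl)
  refine ⟨l * k, ?_, ?_⟩
  · have h1 : (l * k) * zz K = zz K * (l * k) := by rw [mul_assoc, hkz, ← mul_assoc, hlz, mul_assoc]
    rw [h1, mul_inv_cancel_right]
  · have e1 : k * q * k⁻¹ = q := by rw [hkc q hq, mul_inv_cancel_right]
    have e2 : l * p' * l⁻¹ = p' := by rw [hlc p' hp', mul_inv_cancel_right]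
    calc l * k * (p * q) * (l * k)⁻¹ = l * ((k * p * k⁻¹) * (k * q * k⁻¹)) * l⁻¹ := by group
      _ = (l * p' * l⁻¹) * (l * q * l⁻¹) := by rw [hkp, e1]; group
      _ = p' * q' := by rw [e2, hlq]

theorem qk (b : TwoEq Om) (hT : ∀ K ∈ Om, TyTwo K) (hK : K ∈ Om) {Q : Subgroup G} (hQ : Syl Q K) {c v : G}
    {n : ℕ} (g : GQ Q c v (zz K) n) : GH.Q2.InQuat.QK K Q c v (zz K) n :=
  ⟨hQ, g, fun x hx => mem_centralizer_singleton_iff.2 (b.hyp.comm_zz hK (le_normalizer hx)),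
    fun f x => OneK1.hom_eq_one (hT K hK) f x⟩

open GH.Q2.InF2 in
/-- elements of odd order of `C(z)` normalise the members -/
theorem odd_normalizer (b : TwoEq Om) (m : Mate Om K L) {g : G} (hg : g * zz K = zz K * g)
    (ho : Odd (orderOf g)) : g ∈ normalizer (K : Set G) :=
  mem_of_sq ho (b.sq_norm m hg)

open GH.Q2.InF2 in
theorem res_le_stab (b : TwoEq Om) (hT : ∀ K ∈ Om, TyTwo K) (m : Mate Om K L) {Q : Subgroup G}
    (hQ : Syl Q K) {c v : G} {n : ℕ} (g : GQ Q c v (zz K) n) : Res (zz K) ≤ Stab K (zz K) (c ^ 2 ^ n) v :=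
  res_le fun _ hgz hgo => odd_mem (qk b hT m.hK hQ g) (odd_normalizer b m hgz hgo) hgz hgo

open GH.Q2.InF2 in
/-- **`S ∩ O^2(C(z)) ≤ R`** -/
theorem mem_RR (b : TwoEq Om) (hT : ∀ K ∈ Om, TyTwo K) (m : Mate Om K L) (hS : Syl S (centralizer {zz K}))
    {r1 y1 r2 y2 : G} {n1 n2 : ℕ} (h : Sd S (zz K) r1 y1 r2 y2 n1 n2) (g1 : GQ (K ⊓ S) r1 y1 (zz K) n1)
    (g2 : GQ (L ⊓ S) r2 y2 (zz K) n2) {s : G} (hs : s ∈ S) (hs' : s ∈ Res (zz K)) :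
    s ∈ RR r1 y1 r2 y2 := by
  have k1 := qk b hT m.hK (syl1 b m hS) g1
  have g2' : GQ (L ⊓ S) r2 y2 (zz L) n2 := m.zz ▸ g2
  have k2 := qk b hT m.hL (syl2 b m hS) g2'
  have hs1 := res_le_stab b hT m (syl1 b m hS) g1 hs'
  have hs2 := res_le_stab b hT m.symm (syl2 b m hS) g2' (by rw [← m.zz]; exact hs')
  rcases h.act s hs with ⟨u1, j1, u2, j2, N⟩ | ⟨-, u1, j1, u2, j2, N⟩
  · exact h.inR s hs u1 j1 u2 j2 N (even_of_stab k1 (N.odd1 h.toCo) N.a1 N.b1 hs1)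
      (even_of_stab k2 (N.odd2 h.toCo) N.a2 N.b2 hs2)
  · exfalso
    have h3 : s * r1 * s⁻¹ ∈ K ⊓ S :=
      ⟨(mem_normalizer_iff.1 hs1.1 r1).1 g1.c_mem.1, S.mul_mem (S.mul_mem hs h.h1) (S.inv_mem hs)⟩
    have h4 : s * r1 * s⁻¹ ∈ L ⊓ S := by
      have h5 : s * r1 * s⁻¹ = r2 ^ u1 := N.a1
      rw [h5]
      exact zpow_mem g2.c_mem _
    have h5 := inf_eq b m hS h3 h4
    apply h.q1.odd_ne (i := 1) odd_one
    rw [zpow_one]
    rcases h5 with h5 | h5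
    · left
      have h6 : r1 = s⁻¹ * (s * r1 * s⁻¹) * s := by group
      rw [h6, h5]; group
    · right
      have h6 : r1 = s⁻¹ * (s * r1 * s⁻¹) * s := by group
      rw [h6, h5, mul_assoc, ← h.zc hs, inv_mul_cancel_left]

open GH.Q2.InF2 in
/-- **(f2)** -/
theorem f2 (b : TwoEq Om) (hT : ∀ K ∈ Om, TyTwo K) (m : Mate Om K L) (hS : Syl S (centralizer {zz K}))
    {r1 y1 r2 y2 : G} {n1 n2 : ℕ} (h : Sd S (zz K) r1 y1 r2 y2 n1 n2) (g1 : GQ (K ⊓ S) r1 y1 (zz K) n1)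
    (g2 : GQ (L ⊓ S) r2 y2 (zz K) n2) (c s : G) (hc : GH.Q2.cj c (zz K) = zz K) (hs : s ∈ S)
    (hcs : GH.Q2.cj c s ∈ S) : ∃ t ∈ S, GH.Q2.cj c s * (GH.Q2.cj t s)⁻¹ ∈ RR r1 y1 r2 y2 := by
  have hcz : c * zz K = zz K * c := GH.Q2.cj_eq_self_iff.1 hc
  obtain ⟨x, hx, t, ht, rfl⟩ := exists_mul hS hcz
  have htz : t * zz K = zz K * t := h.zc ht
  have hts : GH.Q2.cj t s ∈ S := S.mul_mem (S.mul_mem ht hs) (S.inv_mem ht)
  refine ⟨t, ht, mem_RR b hT m hS h g1 g2 (S.mul_mem hcs (S.inv_mem hts)) ?_⟩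
  have h3 : GH.Q2.cj (x * t) s * (GH.Q2.cj t s)⁻¹ =
      x * (GH.Q2.cj t s * x⁻¹ * (GH.Q2.cj t s)⁻¹) := by
    simp only [GH.Q2.cj]; group
  rw [h3]
  exact mul_mem hx (conj_mem_res (h.zc hts) (inv_mem hx))

/-- **the target presentations** -/
theorem exists_tg (b : TwoEq Om) (hT : ∀ K ∈ Om, TyTwo K) (hF : FK Om) (hidx : ∀ N : Subgroup G, N.index ≠ 2)
    (m : Mate Om K L) (S : Sylow 2 G) (hS : Syl (S : Subgroup G) (centralizer {zz K}))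
    (h0 : PPz K L S) (iso : ∃ g : G, g * zz K * g⁻¹ ∈ (S : Subgroup G) ∧ g * zz K * g⁻¹ ≠ zz K) :
    GH.Q2.Tg (S : Subgroup G) (zz K) := by
  obtain ⟨r1, y1, r2, y2, n1, n2, h, g1, g2⟩ := exists_sd b hF m hS h0
  have hR : RR r1 y1 r2 y2 = (K ⊓ (S : Subgroup G)) ⊔ (L ⊓ (S : Subgroup G)) := by
    unfold RR
    rw [GH.Q2.Coord.closure_of_gq g1, GH.Q2.Coord.closure_of_gq g2]
  refine GH.Q2.tg_main S hidx h iso ?_ (f2 b hT m hS h g1 g2)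
  intro a ha c hc haa ha1 haz hcc hc1 hcz
  rw [hR] at ha hc
  exact f1 b hT m hS ha hc haa ha1 haz hcc hc1 hcz

end Cfsg.Agent.Cit.TwoSyl.GlueOne
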