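import Cfsg.Agent.Cit.TwoSyl.Rel

/-!
# R18, D5b: the reflection `k`, the element `τ = k y1 y2 k⁻¹`, conjugates of `z` in `S`
-/

set_option autoImplicit false

namespace Cfsg.Agent.Cit.TwoSyl

open Subgroup Cfsg.Agent.GH.Q2

variable {G : Type*} [Group G]

namespace Sp

variable {S P : Subgroup G} {z r1 y1 r2 y2 a a' s x g k k0 w : G} {n : ℕ} {b1 b2 c1 c2 u1 j1 u2 j2 : ℤ}

/-! ### (1.7) -/

theorem g0_z (h : Sp S P z r1 y1 r2 y2 n) (al : Al S z (te r1 r2 n) k0) :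
    cj (y1 * k0) z = te r1 r2 n * z := by
  rw [cj_mul_left, al.hz, h.cj_t_y1]

theorem g0_t (h : Sp S P z r1 y1 r2 y2 n) (al : Al S z (te r1 r2 n) k0) :
    cj (y1 * k0) (te r1 r2 n) = z := by
  rw [cj_mul_left, al.ht, h.q1.cj_y_z]

theorem g0_tz (h : Sp S P z r1 y1 r2 y2 n) (al : Al S z (te r1 r2 n) k0) :
    cj (y1 * k0) (te r1 r2 n * z) = te r1 r2 n := by
  rw [cj_mul_left, h.al_tz al, h.cj_tz_y1]

/-- `k = g0 y1 g0⁻¹`, `g0 = y1 k0`. -/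
theorem refl_al (h : Sp S P z r1 y1 r2 y2 n) (al : Al S z (te r1 r2 n) k0) :
    Al S z (te r1 r2 n) (cj (y1 * k0) y1) where
  hz := by
    have e : cj (y1 * k0)⁻¹ z = te r1 r2 n := by
      rw [eq_comm, ← cj_eq_iff, h.g0_t al]
    rw [show z = cj (y1 * k0) (cj (y1 * k0)⁻¹ z) from (cj_cj_inv _ _).symm, cj_cj, e, h.cj_t_y1,
      h.g0_tz al]
  ht := by
    have e : cj (y1 * k0)⁻¹ (te r1 r2 n) = te r1 r2 n * z := by
      rw [eq_comm, ← cj_eq_iff, h.g0_tz al]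
    have h1 : cj (cj (y1 * k0) y1) (te r1 r2 n) =
        cj (cj (y1 * k0) y1) (cj (y1 * k0) (cj (y1 * k0)⁻¹ (te r1 r2 n))) := by rw [cj_cj_inv]
    rw [h1, cj_cj, e, h.cj_tz_y1, h.g0_t al]
  hh := by
    rw [← cj_mul, h.q1.ys, h.g0_z al]
    exact mul_mem h.t_mem h.hz
  nor w hw hwt := by
    have h1 : cj (cj (y1 * k0) y1) w = cj (y1 * k0) (cj y1 (cj (y1 * k0)⁻¹ w)) := by
      rw [← cj_cj, cj_cj_inv]
    have h2 := h.nor_y1' hw hwt
    have h3 := h.al_nor al.inv h2.1 h2.2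
    have h4 := h.nor_y1 h3.1 h3.2
    have h5 := h.al_nor al h4.1 h4.2
    have h6 := h.nor_y1 h5.1 h5.2
    rw [h1, mul_inv_rev, cj_mul_left, cj_mul_left]
    exact h6.1

theorem refl_sq (h : Sp S P z r1 y1 r2 y2 n) (al : Al S z (te r1 r2 n) k0) :
    cj (y1 * k0) y1 * cj (y1 * k0) y1 = te r1 r2 n * z := by
  rw [← cj_mul, h.q1.ys, h.g0_z al]

theorem refl_cj (N : Ns r1 y1 r2 y2 (cj (y1 * k0)⁻¹ w) 1 b1 1 b2) :
    cj (cj (y1 * k0) y1) w = w * (cj (y1 * k0) r1) ^ (-b1) := by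
  have h1 : cj (cj (y1 * k0) y1) w = cj (y1 * k0) (cj y1 (cj (y1 * k0)⁻¹ w)) := by
    rw [← cj_cj, cj_cj_inv]
  rw [h1, cj_y1_of N, cj_mul, cj_cj_inv, cj_zpow]

end Sp

/-- the reflection `k` and `ρ` with `ρ ^ (2 ^ (n + 1)) = t z`. -/
structure Rf (S P : Subgroup G) (z r1 y1 r2 y2 : G) (n : ℕ) (k ρ : G) : Prop where
  al : Al S z (te r1 r2 n) k
  kk : k * k = te r1 r2 n * z
  /-- `ρ` is conjugate to `r1` by an element mapping `z` to `t z`. -/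
  ex : ∃ g0 : G, ρ = cj g0 r1 ∧ cj g0 z = te r1 r2 n * z
  ns : ∃ b1 b2 : ℤ, Ns r1 y1 r2 y2 ρ 1 b1 1 b2
  ρS : ρ ∈ S
  k1 : ∃ c1 : ℤ, Odd c1 ∧ cj k r1 = r1 * ρ ^ (-c1) ∧
    (∃ κ : G, cj κ z = z ∧ cj (k * κ) (r1 ^ (-c1)) = cj y1 (ρ ^ (-c1)))
  k2 : ∃ c2 : ℤ, cj k r2 = r2 * ρ ^ (-c2)
  kP : ∀ x ∈ P, ∃ c : ℤ, cj k x = x * ρ ^ (-c)

theorem exists_rf [Finite G] (S : Sylow 2 G) {P : Subgroup G} {z r1 y1 r2 y2 : G} {n : ℕ}
    (h : Sp (S : Subgroup G) P z r1 y1 r2 y2 n) (hf : FP (S : Subgroup G) P z) {g : G}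
    (hg : cj g z = te r1 r2 n) : ∃ k ρ : G, Rf (S : Subgroup G) P z r1 y1 r2 y2 n k ρ := by
  obtain ⟨k0, al0⟩ := exists_al S h hg
  have al := h.refl_al al0
  have r1S := h.al_nor al0 h.h1 h.ct_r1
  have hρ : cj (y1 * k0) r1 = cj y1 (cj k0 r1) := cj_mul_left _ _ _
  have hρS := h.nor_y1 r1S.1 r1S.2
  have e1 : cj (y1 * k0)⁻¹ r1 = (cj k0⁻¹ r1)⁻¹ := by
    have : cj y1⁻¹ r1 = r1⁻¹ := by
      rw [eq_comm, ← cj_eq_iff, cj_inv, h.q1.inv, inv_inv]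
    rw [mul_inv_rev, cj_mul_left, this, cj_inv]
  have e2 : cj (y1 * k0)⁻¹ r2 = cj k0⁻¹ r2 := by
    have : cj y1⁻¹ r2 = r2 := by
      rw [eq_comm, ← cj_eq_iff, cj_eq_self h.yr]
    rw [mul_inv_rev, cj_mul_left, this]
  obtain ⟨b1, b2, N⟩ := h.s1_ns hf al0.inv
  obtain ⟨o1, o2⟩ := h.s1_odd al0.inv N
  obtain ⟨b1', b2', N'⟩ := h.s2_ns hf al0.inv
  have N1 : Ns r1 y1 r2 y2 (cj (y1 * k0)⁻¹ r1) 1 (-b1) 1 (-b2) := by
    rw [e1]; exact ns_inv N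
  have N2 : Ns r1 y1 r2 y2 (cj (y1 * k0)⁻¹ r2) 1 b1' 1 b2' := by
    rw [e2]; exact N'
  refine ⟨cj (y1 * k0) y1, cj (y1 * k0) r1, al, h.refl_sq al0, ⟨y1 * k0, rfl, h.g0_z al0⟩, ?_, ?_,
    ⟨-b1, o1.neg, Sp.refl_cj N1, ?_⟩, ⟨b1', Sp.refl_cj N2⟩, ?_⟩
  · obtain ⟨c1, c2, M⟩ := h.s1_ns hf al0
    rw [hρ, cj_y1_of M]
    exact ⟨_, _, ns_mul M (h.ns_r1 (-c1))⟩
  · rw [hρ]; exact hρS.1
  · refine ⟨(cj (y1 * k0) y1)⁻¹ * k0, ?_, ?_⟩
    · rw [cj_mul_left, al0.hz, al.inv.ht]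
    · rw [mul_inv_cancel_left, hρ, cj_zpow, cj_zpow, ← cj_mul_left, h.q1.ys,
        cj_eq_self (h.zc r1S.1).symm]
  · intro x hx
    have e3 : cj (y1 * k0)⁻¹ x = cj k0⁻¹ x := by
      have : cj y1⁻¹ x = x := by
        rw [eq_comm, ← cj_eq_iff]
        exact cj_eq_self' (comm_of_cj (h.cP2 hx)).symm
      rw [mul_inv_rev, cj_mul_left, this]
    obtain ⟨d1, d2, M⟩ := h.p2_ns hf al0.inv (g := cj k0⁻¹ x) (by rw [inv_inv, cj_cj_inv]; exact hx)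
    have M' : Ns r1 y1 r2 y2 (cj (y1 * k0)⁻¹ x) 1 d1 1 d2 := by rw [e3]; exact M
    exact ⟨d1, Sp.refl_cj M'⟩


namespace Rf

variable {S P : Subgroup G} {z r1 y1 r2 y2 a a' s x g k ρ w : G} {n : ℕ}
  {b1 b2 c1 c2 u1 j1 u2 j2 : ℤ}

/-- `k` is an involution on `C_S(t)`. -/
theorem ki (h : Sp S P z r1 y1 r2 y2 n) (f : Rf S P z r1 y1 r2 y2 n k ρ) (hw : w ∈ S)
    (hwt : Commute w (te r1 r2 n)) : cj k (cj k w) = w := by
  rw [← cj_mul_left, f.kk]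
  apply cj_eq_self'
  exact (hwt.mul_right (h.zc hw)).symm

theorem ki' (h : Sp S P z r1 y1 r2 y2 n) (f : Rf S P z r1 y1 r2 y2 n k ρ) (hw : w ∈ S)
    (hwt : Commute w (te r1 r2 n)) : cj k⁻¹ w = cj k w := by
  conv_lhs => rw [← f.ki h hw hwt]
  rw [cj_inv_cj]

theorem kv_mem (h : Sp S P z r1 y1 r2 y2 n) (f : Rf S P z r1 y1 r2 y2 n k ρ) :
    cj k (y1 * y2) ∈ S ∧ Commute (cj k (y1 * y2)) (te r1 r2 n) := h.al_nor f.al h.v_mem h.ct_v

theorem kv_kv (h : Sp S P z r1 y1 r2 y2 n) (_ : Rf S P z r1 y1 r2 y2 n k ρ) :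
    cj k (y1 * y2) * cj k (y1 * y2) = 1 := by rw [← cj_mul, h.vv, cj_one]

theorem kv_s1 (h : Sp S P z r1 y1 r2 y2 n) (_ : Rf S P z r1 y1 r2 y2 n k ρ) :
    cj (cj k (y1 * y2)) (cj k r1) = (cj k r1)⁻¹ := by
  rw [cj_cj, h.ns_v.a1, zpow_neg_one, cj_inv]

theorem kv_s2 (h : Sp S P z r1 y1 r2 y2 n) (_ : Rf S P z r1 y1 r2 y2 n k ρ) :
    cj (cj k (y1 * y2)) (cj k r2) = (cj k r2)⁻¹ := by
  rw [cj_cj, h.ns_v.a2, zpow_neg_one, cj_inv]

theorem kv_r1 (h : Sp S P z r1 y1 r2 y2 n) (hf : FP S P z) (f : Rf S P z r1 y1 r2 y2 n k ρ) :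
    cj (cj k (y1 * y2)) r1 = r2 := by
  conv_lhs => rw [← f.ki h h.h1 h.ct_r1]
  rw [cj_cj, h.v_s1 hf f.al, f.ki h h.h3 h.ct_r2]

theorem kv_r2 (h : Sp S P z r1 y1 r2 y2 n) (hf : FP S P z) (f : Rf S P z r1 y1 r2 y2 n k ρ) :
    cj (cj k (y1 * y2)) r2 = r1 := by
  rw [← f.kv_r1 h hf, ← cj_mul_left, f.kv_kv h, cj_one_left]

/-- `τ = k v k⁻¹` is a swap. -/
theorem kv_sw (h : Sp S P z r1 y1 r2 y2 n) (hf : FP S P z) (f : Rf S P z r1 y1 r2 y2 n k ρ) :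
    ∃ j1 j2 : ℤ, Sw r1 y1 r2 y2 (cj k (y1 * y2)) 1 j1 1 j2 := by
  have hr1 := f.kv_r1 h hf
  have hr2 := f.kv_r2 h hf
  rcases h.act _ (f.kv_mem h).1 with ⟨u1, j1, u2, j2, p1, p2, N⟩ | ⟨u1, j1, u2, j2, p1, p2, N⟩
  · exfalso
    have h1 := N.a1.symm.trans hr1
    have h2 := h.ind_zpow (i := u1) (j := 1) (by rw [zpow_one]; exact h1)
    exact h.q1.odd_ne p1.odd h2
  · have e1 : u1 = 1 := by
      rcases p1 with rfl | rfl
      · rfl
      · exfalso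
        have h1 := N.a1.symm.trans hr1
        rw [zpow_neg_one] at h1
        exact h.q2.r_ne_inv h1.symm
    have e2 : u2 = 1 := by
      rcases p2 with rfl | rfl
      · rfl
      · exfalso
        have h1 := N.a2.symm.trans hr2
        rw [zpow_neg_one] at h1
        exact h.q1.r_ne_inv h1.symm
    subst e1 e2
    exact ⟨j1, j2, N⟩

/-- `τ` inverts the square roots of `z` in `P`. -/
theorem kv_inv (h : Sp S P z r1 y1 r2 y2 n) (hf : FP S P z) (f : Rf S P z r1 y1 r2 y2 n k ρ)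
    (hx : x ∈ P) (hxx : x * x = z) : cj (cj k (y1 * y2)) x = x⁻¹ := by
  have h1 := h.v_inverts hf f.al (g := cj k x) (Sp.p2_of hx) (by rw [← cj_mul, hxx, f.al.hz])
  conv_lhs => rw [← f.ki h (h.P_le hx) (h.ct_P hx)]
  rw [cj_cj, h1, cj_inv, f.ki h (h.P_le hx) (h.ct_P hx)]

/-- nonswap elements centralize `P`. -/
theorem act_P (h : Sp S P z r1 y1 r2 y2 n) (hf : FP S P z) (f : Rf S P z r1 y1 r2 y2 n k ρ)
    (hs : s ∈ S) (N : Ns r1 y1 r2 y2 s u1 j1 u2 j2) (hx : x ∈ P) : cj s x = x := by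
  have c1 := h.cP1 hx
  have c2 := h.cP2 hx
  have c3 := h.cP3 hx
  have c4 := h.cP4 hx
  have step : ∀ {s : G} {b1 b2 : ℤ}, s ∈ S → Ns r1 y1 r2 y2 s 1 b1 1 b2 → cj s x = x := by
    intro s b1 b2 hs N
    have ev : ∀ {s : G} {b1 b2 : ℤ}, s ∈ S → Ns r1 y1 r2 y2 s 1 b1 1 b2 → Even b1 → cj s x = x := by
      intro s b1 b2 hs N e1
      have e2 : Even b2 := by
        have := h.par s hs _ _ _ _ N
        rw [Int.even_add] at this
        tauto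
      obtain ⟨i, hi⟩ := e1.two_dvd
      obtain ⟨j, hj⟩ := e2.two_dvd
      rw [hi, hj] at N
      obtain ⟨π, hπ, rfl⟩ := h.even_dec hs N
      apply cj_eq_self'
      exact ((((comm_of_cj c1).zpow_right i).mul_right ((comm_of_cj c3).zpow_right j)).mul_right
        (h.P_comm hx hπ)).symm
    by_cases e1 : Even b1
    · exact ev hs N e1
    · obtain ⟨d1, d2, M⟩ := h.s1_ns hf f.al
      obtain ⟨o1, _⟩ := h.s1_odd f.al M
      rw [Int.not_even_iff_odd] at e1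
      have h1 := ev (mul_mem hs (h.s1_mem f.al).1) (ns_mul N M) (e1.add_odd o1)
      rwa [cj_mul_left, cj_eq_self' (h.s1_P hf f.al hx)] at h1
  have hy1 : cj y1 x = x := cj_eq_self' (comm_of_cj c2).symm
  have hy2 : cj y2 x = x := cj_eq_self' (comm_of_cj c4).symm
  rcases h.act s hs with ⟨u1, j1, u2, j2, p1, p2, N⟩ | ⟨u1, j1, u2, j2, p1, p2, N'⟩
  · rcases p1 with rfl | rfl <;> rcases p2 with rfl | rfl
    · exact step hs N
    · have := N.mul h.ns_y2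
      have h1 := step (b1 := j1) (b2 := j2) (mul_mem hs h.h4) (by convert this using 1 <;> norm_num)
      rwa [cj_mul_left, hy2] at h1
    · have := N.mul h.ns_y1
      have h1 := step (b1 := j1) (b2 := j2) (mul_mem hs h.h2) (by convert this using 1 <;> norm_num)
      rwa [cj_mul_left, hy1] at h1
    · have := N.mul h.ns_v
      have h1 := step (b1 := j1) (b2 := j2) (mul_mem hs h.v_mem) (by convert this using 1 <;> norm_num)
      rwa [cj_mul_left, cj_mul_left, hy2, hy1] at h1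
  · exact (h.ns_not_sw N N').elim

/-- swaps invert the square roots of `z` in `P`. -/
theorem sw_P (h : Sp S P z r1 y1 r2 y2 n) (hf : FP S P z) (f : Rf S P z r1 y1 r2 y2 n k ρ)
    (hs : s ∈ S) (N : Sw r1 y1 r2 y2 s u1 j1 u2 j2) (hx : x ∈ P) (hxx : x * x = z) :
    cj s x = x⁻¹ := by
  obtain ⟨i1, i2, M⟩ := f.kv_sw h hf
  have h1 := f.act_P h hf (mul_mem hs (f.kv_mem h).1) (N.mul M) (inv_mem hx)
  rw [cj_mul_left, cj_inv, f.kv_inv h hf hx hxx, inv_inv] at h1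
  exact h1

end Rf

namespace Sp

variable {S P : Subgroup G} {z r1 y1 r2 y2 a a' s x g k k0 w : G} {n : ℕ} {b1 b2 c1 c2 u1 j1 u2 j2 : ℤ}

/-! ### (2.1) -/

/-- nonswap elements of even type. -/
theorem ns_dec (h : Sp S P z r1 y1 r2 y2 n) (hs : s ∈ S) (N : Ns r1 y1 r2 y2 s u1 j1 u2 j2)
    (e1 : Even j1) (e2 : Even j2) : ∃ q1 ∈ closure ({r1, y1} : Set G),
    ∃ q2 ∈ closure ({r2, y2} : Set G), ∃ π ∈ P, s = q1 * q2 * π := by
  have mr1 : ∀ i : ℤ, r1 ^ i ∈ closure ({r1, y1} : Set G) := fun i =>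
    zpow_mem (subset_closure (by simp)) i
  have mr2 : ∀ i : ℤ, r2 ^ i ∈ closure ({r2, y2} : Set G) := fun i =>
    zpow_mem (subset_closure (by simp)) i
  have my1 : y1⁻¹ ∈ closure ({r1, y1} : Set G) := inv_mem (subset_closure (by simp))
  have my2 : y2⁻¹ ∈ closure ({r2, y2} : Set G) := inv_mem (subset_closure (by simp))
  have dec : ∀ {s : G} {b1 b2 : ℤ}, s ∈ S → Ns r1 y1 r2 y2 s 1 b1 1 b2 → Even b1 → Even b2 →
      ∃ i j : ℤ, ∃ π ∈ P, s = r1 ^ i * r2 ^ j * π := by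
    intro s b1 b2 hs N e1 e2
    obtain ⟨i, hi⟩ := e1.two_dvd
    obtain ⟨j, hj⟩ := e2.two_dvd
    rw [hi, hj] at N
    obtain ⟨π, hπ, e⟩ := h.even_dec hs N
    exact ⟨i, j, π, hπ, e⟩
  rcases h.act s hs with ⟨v1, l1, v2, l2, p1, p2, M⟩ | ⟨v1, l1, v2, l2, p1, p2, M⟩
  · have f1 : Even l1 := (h.q1.parity (ns_exp1 N M)).1 e1
    have f2 : Even l2 := (h.q2.parity (ns_exp2 N M)).1 e2
    rcases p1 with rfl | rfl <;> rcases p2 with rfl | rfl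
    · obtain ⟨i, j, π, hπ, e⟩ := dec hs M f1 f2
      exact ⟨_, mr1 i, _, mr2 j, π, hπ, e⟩
    · have := M.mul h.ns_y2
      obtain ⟨i, j, π, hπ, e⟩ := dec (b1 := l1) (b2 := l2) (mul_mem hs h.h4)
        (by convert this using 1 <;> norm_num) f1 f2
      have c : Commute π y2 := comm_of_cj (h.cP4 hπ)
      refine ⟨_, mr1 i, _, mul_mem (mr2 j) my2, π, hπ, ?_⟩
      calc s = (s * y2) * y2⁻¹ := by group
        _ = r1 ^ i * r2 ^ j * (π * y2⁻¹) := by rw [e]; group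
        _ = _ := by rw [c.inv_right.eq]; group
    · have := M.mul h.ns_y1
      obtain ⟨i, j, π, hπ, e⟩ := dec (b1 := l1) (b2 := l2) (mul_mem hs h.h2)
        (by convert this using 1 <;> norm_num) f1 f2
      have c : Commute π y1 := comm_of_cj (h.cP2 hπ)
      have c' : Commute (r2 ^ j) y1 := ((show Commute y1 r2 from h.yr).zpow_right j).symm
      refine ⟨_, mul_mem (mr1 i) my1, _, mr2 j, π, hπ, ?_⟩
      calc s = (s * y1) * y1⁻¹ := by group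
        _ = r1 ^ i * r2 ^ j * (π * y1⁻¹) := by rw [e]; group
        _ = r1 ^ i * (r2 ^ j * y1⁻¹) * π := by rw [c.inv_right.eq]; group
        _ = _ := by rw [c'.inv_right.eq]; group
    · have := M.mul h.ns_v
      obtain ⟨i, j, π, hπ, e⟩ := dec (b1 := l1) (b2 := l2) (mul_mem hs h.v_mem)
        (by convert this using 1 <;> norm_num) f1 f2
      have c : Commute π y1 := comm_of_cj (h.cP2 hπ)
      have d : Commute π y2 := comm_of_cj (h.cP4 hπ)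
      have c' : Commute (r2 ^ j * y2⁻¹) y1 :=
        (((show Commute y1 r2 from h.yr).zpow_right j).mul_right
          (show Commute y1 y2 from h.yy).inv_right).symm
      refine ⟨_, mul_mem (mr1 i) my1, _, mul_mem (mr2 j) my2, π, hπ, ?_⟩
      calc s = (s * (y1 * y2)) * y2⁻¹ * y1⁻¹ := by group
        _ = r1 ^ i * r2 ^ j * (π * y2⁻¹) * y1⁻¹ := by rw [e]; group
        _ = r1 ^ i * (r2 ^ j * y2⁻¹) * (π * y1⁻¹) := by rw [d.inv_right.eq]; group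
        _ = r1 ^ i * ((r2 ^ j * y2⁻¹) * y1⁻¹) * π := by rw [c.inv_right.eq]; group
        _ = _ := by rw [c'.inv_right.eq]; group
  · exact (h.ns_not_sw N M).elim

theorem q_sq (h : Sp S P z r1 y1 r2 y2 n) {q : G} (hq : q ∈ closure ({r1, y1} : Set G)) :
    ∃ i : ℤ, q * q = r1 ^ i ∧ (r1 ^ i = 1 → q = 1 ∨ q = z) := by
  obtain ⟨i, rfl | rfl⟩ := h.q1.mem_iff.1 hq
  · refine ⟨i + i, by rw [zpow_add], fun e => h.q1.sqrt1 ?_⟩
    rwa [two_mul]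
  · refine ⟨2 ^ (n + 1), by rw [h.q1.ry_sq, h.q1.rzp], fun e => ?_⟩
    rw [h.q1.rzp] at e
    exact (h.q1.z_ne e).elim

/-- (2.1). -/
theorem R0 (h : Sp S P z r1 y1 r2 y2 n)
    (iso1 : ∀ g : G, cj g z ∈ S → Commute (cj g z) r1 → Commute (cj g z) y1 → cj g z = z)
    (iso2 : ∀ g : G, cj g z ∈ S → Commute (cj g z) r2 → Commute (cj g z) y2 → cj g z = z)
    (hg : cj g z ∈ S) (N : Ns r1 y1 r2 y2 (cj g z) u1 j1 u2 j2) (e1 : Even j1) (e2 : Even j2) :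
    cj g z ∈ RR r1 y1 r2 y2 := by
  obtain ⟨q1, hq1, q2, hq2, π, hπ, e⟩ := h.ns_dec hg N e1 e2
  have hR : q1 * q2 ∈ RR r1 y1 r2 y2 := mul_mem (mem_sup_left hq1) (mem_sup_right hq2)
  have cπ : Commute π (q1 * q2) := comm_of_cj (h.P_RR hπ hR)
  have c12 : Commute q1 q2 := h.comm hq1 hq2
  have hsq : cj g z * cj g z = 1 := by rw [← cj_mul, h.zz, cj_one]
  have h1 : (q1 * q1) * (q2 * q2) * (π * π) = 1 := by
    rw [← hsq, e]
    calc (q1 * q1) * (q2 * q2) * (π * π) = q1 * (q1 * q2) * q2 * (π * π) := by group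
      _ = q1 * (q2 * q1) * q2 * (π * π) := by rw [c12.eq]
      _ = (q1 * q2) * ((q1 * q2) * π) * π := by group
      _ = (q1 * q2) * (π * (q1 * q2)) * π := by rw [cπ.eq]
      _ = _ := by group
  obtain ⟨i, hi, hi'⟩ := h.q_sq hq1
  obtain ⟨j, hj, hj'⟩ := h.symm.q_sq hq2
  rw [hi, hj] at h1
  have h2 : r1 ^ i * r2 ^ j ∈ P := by
    rw [mul_eq_one_iff_eq_inv] at h1
    rw [h1]
    exact inv_mem (mul_mem hπ hπ)
  have comm1 : ∀ {w : G}, w ∈ closure ({r1, y1} : Set G) → Commute q2 w := fun hw =>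
    (show Commute _ q2 from h.comm hw hq2).symm
  have comm2 : ∀ {w : G}, w ∈ closure ({r2, y2} : Set G) → Commute q1 w := fun hw => h.comm hq1 hw
  have hzR : z ∈ RR r1 y1 r2 y2 := h.mz
  rcases h.P_rr h2 with f1 | f1
  · -- `q1 ∈ {1, z}`
    have h3 : ∀ w ∈ S, Commute q1 w := by
      intro w hw
      rcases hi' f1 with h4 | h4
      · rw [h4]; exact Commute.one_left _
      · rw [h4]; exact (h.zc hw).symm
    have h4 := iso1 g hg ?_ ?_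
    · rw [h4]; exact hzR
    · rw [e]
      exact ((h3 _ h.h1).mul_left (comm1 (subset_closure (by simp)))).mul_left (comm_of_cj (h.cP1 hπ))
    · rw [e]
      exact ((h3 _ h.h2).mul_left (comm1 (subset_closure (by simp)))).mul_left (comm_of_cj (h.cP2 hπ))
  · rcases h.P_rr' h2 with f2 | f2
    · have h3 : ∀ w ∈ S, Commute q2 w := by
        intro w hw
        rcases hj' f2 with h4 | h4
        · rw [h4]; exact Commute.one_left _
        · rw [h4]; exact (h.zc hw).symm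
      have h4 := iso2 g hg ?_ ?_
      · rw [h4]; exact hzR
      · rw [e]
        exact ((comm2 (subset_closure (by simp))).mul_left (h3 _ h.h3)).mul_left (comm_of_cj (h.cP3 hπ))
      · rw [e]
        exact ((comm2 (subset_closure (by simp))).mul_left (h3 _ h.h4)).mul_left (comm_of_cj (h.cP4 hπ))
    · rw [f1, f2, h.zz, one_mul] at h1
      rw [e]
      rcases h.P_invol hπ h1 with h3 | h3
      · rw [h3, mul_one]; exact hR
      · rw [h3]; exact mul_mem hR hzR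

end Sp

/-! ### (2.2) -/

/-- the hypothesis (F2). -/
structure Iso (S : Subgroup G) (z r1 y1 r2 y2 : G) : Prop where
  i1 : ∀ g : G, cj g z ∈ S → Commute (cj g z) r1 → Commute (cj g z) y1 → cj g z = z
  i2 : ∀ g : G, cj g z ∈ S → Commute (cj g z) r2 → Commute (cj g z) y2 → cj g z = z

/-- no nonswap conjugate of `z` is of odd type. -/
def NoD (S : Subgroup G) (z r1 y1 r2 y2 : G) : Prop :=
  ∀ g : G, cj g z ∈ S → ∀ u1 j1 u2 j2 : ℤ, Ns r1 y1 r2 y2 (cj g z) u1 j1 u2 j2 → Even j1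

namespace Sp

variable {S P : Subgroup G} {z r1 y1 r2 y2 a a' s x g k k0 w : G} {n : ℕ} {b1 b2 c1 c2 u1 j1 u2 j2 : ℤ}

theorem ns_RR (h : Sp S P z r1 y1 r2 y2 n) (iso : Iso S z r1 y1 r2 y2) (noD : NoD S z r1 y1 r2 y2)
    (hg : cj g z ∈ S) (N : Ns r1 y1 r2 y2 (cj g z) u1 j1 u2 j2) : cj g z ∈ RR r1 y1 r2 y2 := by
  have e1 := noD g hg _ _ _ _ N
  have e2 := h.par _ hg _ _ _ _ N
  rw [Int.even_add] at e2
  exact h.R0 iso.i1 iso.i2 hg N e1 (e2.1 e1)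

theorem RR_t (h : Sp S P z r1 y1 r2 y2 n) (hg : g ∈ RR r1 y1 r2 y2) (hgt : Commute g (te r1 r2 n)) :
    ∃ i j : ℤ, g = r1 ^ i * r2 ^ j ∨ g = r1 ^ i * r2 ^ j * (y1 * y2) := by
  have ht := cj_eq_self' hgt
  have tz : te r1 r2 n * z ≠ te r1 r2 n := fun e => h.q1.z_ne (mul_eq_left.1 e)
  have c1 : ∀ i : ℤ, cj (r1 ^ i) (te r1 r2 n) = te r1 r2 n := fun i =>
    cj_eq_self' (h.ct_r1.zpow_left i)
  have c2 : ∀ i : ℤ, cj (r2 ^ i) (te r1 r2 n) = te r1 r2 n := fun i =>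
    cj_eq_self' (h.ct_r2.zpow_left i)
  have c1' : ∀ i : ℤ, cj (r1 ^ i) z = z := fun i => h.cj_z (zpow_mem h.h1 i)
  have c2' : ∀ i : ℤ, cj (r2 ^ i) z = z := fun i => h.cj_z (zpow_mem h.h3 i)
  obtain ⟨i, j, rfl | rfl | rfl | rfl⟩ := h.mem_R.1 hg
  · exact ⟨i, j, Or.inl rfl⟩
  · exfalso
    rw [cj_mul_left, cj_mul_left, c2, h.cj_t_y1, cj_mul, c1, c1'] at ht
    exact tz ht
  · exfalso
    rw [cj_mul_left, cj_mul_left, h.cj_t_y2, cj_mul, c2, c2', cj_mul, c1, c1'] at ht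
    exact tz ht
  · refine ⟨i, j, Or.inr ?_⟩
    have c : Commute y1 (r2 ^ j) := (show Commute y1 r2 from h.yr).zpow_right j
    calc r1 ^ i * y1 * (r2 ^ j * y2) = r1 ^ i * (y1 * r2 ^ j) * y2 := by group
      _ = _ := by rw [c.eq]; group

/-- swap involutions commute with `t`. -/
theorem sw_t (h : Sp S P z r1 y1 r2 y2 n) (hs : s ∈ S) (hss : s * s = 1)
    (N : Sw r1 y1 r2 y2 s u1 j1 u2 j2) : Commute s (te r1 r2 n) := by
  rcases h.act s hs with ⟨v1, l1, v2, l2, p1, p2, M⟩ | ⟨v1, l1, v2, l2, p1, p2, M⟩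
  · exact (h.ns_not_sw M N).elim
  · have e : v1 = v2 := by
      have h1 := (M.mul M).a1
      rw [hss, cj_one_left] at h1
      rcases p1 with rfl | rfl <;> rcases p2 with rfl | rfl
      · rfl
      · exfalso
        norm_num at h1
        exact h.q1.r_ne_inv h1
      · exfalso
        norm_num at h1
        exact h.q1.r_ne_inv h1
      · rfl
    subst e
    have tt : (te r1 r2 n)⁻¹ = te r1 r2 n := inv_eq_of_mul_eq_one_left h.tt
    apply comm_of_cj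
    have h2 : cj s (te r1 r2 n) = (r2 ^ v1) ^ (2 ^ n) * (r1 ^ v1) ^ (2 ^ n) := by
      unfold te
      rw [cj_mul, cj_pow, cj_pow, M.a1, M.a2]
    rw [h2]
    rcases p1 with rfl | rfl
    · rw [zpow_one, zpow_one, h.t_comm']
    · rw [zpow_neg_one, zpow_neg_one, inv_pow, inv_pow, ← mul_inv_rev]
      exact tt

end Sp

namespace Rf

variable {S P : Subgroup G} {z r1 y1 r2 y2 a a' s x g k ρ w : G} {n : ℕ}
  {b1 b2 c1 c2 u1 j1 u2 j2 : ℤ}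

theorem ns_form (h : Sp S P z r1 y1 r2 y2 n) (f : Rf S P z r1 y1 r2 y2 n k ρ)
    (iso : Iso S z r1 y1 r2 y2) (noD : NoD S z r1 y1 r2 y2) {M : Subgroup G} (m1 : cj k r1 ∈ M)
    (m2 : cj k r2 ∈ M) (m3 : cj k (y1 * y2) ∈ M) (hg : cj g z ∈ S) (hgt : Commute (cj g z) (te r1 r2 n))
    (N : Ns r1 y1 r2 y2 (cj k (cj g z)) u1 j1 u2 j2) : cj g z ∈ M := by
  have h1 := h.al_nor f.al hg hgt
  have h2 : cj k (cj g z) = cj (k * g) z := (cj_mul_left _ _ _).symm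
  have h3 : cj k (cj g z) ∈ RR r1 y1 r2 y2 := by
    rw [h2] at h1 N ⊢
    exact h.ns_RR iso noD h1.1 N
  obtain ⟨i, j, h4 | h4⟩ := h.RR_t h3 h1.2
  · rw [← f.ki h hg hgt, h4, cj_mul, cj_zpow, cj_zpow]
    exact mul_mem (zpow_mem m1 _) (zpow_mem m2 _)
  · rw [← f.ki h hg hgt, h4, cj_mul, cj_mul, cj_zpow, cj_zpow]
    exact mul_mem (mul_mem (zpow_mem m1 _) (zpow_mem m2 _)) m3

/-- (2.2). -/
theorem sw_form (h : Sp S P z r1 y1 r2 y2 n) (hf : FP S P z) (f : Rf S P z r1 y1 r2 y2 n k ρ)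
    (iso : Iso S z r1 y1 r2 y2) (noD : NoD S z r1 y1 r2 y2) {M : Subgroup G} (m0 : y1 ∈ M)
    (m1 : cj k r1 ∈ M) (m2 : cj k r2 ∈ M) (m3 : cj k (y1 * y2) ∈ M) (hg : cj g z ∈ S)
    (N : Sw r1 y1 r2 y2 (cj g z) u1 j1 u2 j2) : cj g z ∈ M := by
  have hgt : Commute (cj g z) (te r1 r2 n) := h.sw_t hg (by rw [← cj_mul, h.zz, cj_one]) N
  have h1 := h.al_nor f.al hg hgt
  rcases h.act _ h1.1 with ⟨v1, l1, v2, l2, p1, p2, K⟩ | ⟨v1, l1, v2, l2, p1, p2, K⟩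
  · exact f.ns_form h iso noD m1 m2 m3 hg hgt K
  · have h2 := h.nor_y1 hg hgt
    have e1 : cj y1 (cj g z) = ((y1 * y2) * z * r2 ^ (-j1)) * cj g z := by
      have e2 : y2⁻¹ = y2 * z := by
        rw [inv_eq_iff_mul_eq_one, ← mul_assoc, h.q2.ys, h.zz]
      calc cj y1 (cj g z) = y1 * (cj (cj g z) y1)⁻¹ * cj g z := by
            rw [cj_def y1, cj_def (cj g z) y1]; group
        _ = _ := by rw [N.b1, mul_inv_rev, e2, zpow_neg]; group
    obtain ⟨i1, i2, T⟩ := f.kv_sw h hf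
    obtain ⟨d1, d2, M2⟩ := h.s2_ns hf f.al
    obtain ⟨w1, q1, w2, q2, K2⟩ : ∃ w1 q1 w2 q2 : ℤ,
        Ns r1 y1 r2 y2 (cj k (cj (y1 * g) z)) w1 q1 w2 q2 := by
      have e3 : cj k (cj (y1 * g) z) =
          (cj k (y1 * y2) * te r1 r2 n * cj k r2 ^ (-j1)) * cj k (cj g z) := by
        rw [cj_mul_left, e1, cj_mul, cj_mul, cj_mul, f.al.hz, cj_zpow]
      rw [e3]
      exact ⟨_, _, _, _, ((T.mul_ns h.ns_t).mul_ns (ns_zpow M2 (-j1))).mul K⟩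
    have h3 : cj (y1 * g) z ∈ S := by rw [cj_mul_left]; exact h2.1
    have h4 : Commute (cj (y1 * g) z) (te r1 r2 n) := by rw [cj_mul_left]; exact h2.2
    have h5 := f.ns_form h iso noD m1 m2 m3 h3 h4 K2
    rw [cj_mul_left, cj_def] at h5
    have h6 := mul_mem (mul_mem (inv_mem m0) h5) m0
    have e4 : y1⁻¹ * (y1 * cj g z * y1⁻¹) * y1 = cj g z := by group
    rwa [e4] at h6

end Rf

end Cfsg.Agent.Cit.TwoSyl
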