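import Cfsg.Agent.Cit.TwoSyl.SgnQ

/-!
# `|Om(S)| = 2`, equal involutions: nobody acts as (outer diagonal, inner)

`par`: the two exponents `j₁`, `j₂` of an element of `S` on `Q₁`, `Q₂` have the same parity.
The family `v ↦` (transfer of the outer sign of `N(K)`, `zz K = v`, to `C(v)`) is trivial by THEOREM GEN.
-/

set_option autoImplicit false
set_option linter.style.haveILetI false
set_option linter.unusedSectionVars false
set_option linter.unusedVariables false

namespace Cfsg.Agent.Cit.TwoSyl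

open Subgroup Cfsg Cit OneBasic TwoFK

variable {G : Type*} [Group G] [Finite G] {Om : Set (Subgroup G)}

/-! ### The norm of a family of characters of the `N(K)` -/

section nm

variable {M : Type*} [CommGroup M]

/-- compatible characters of the `N(K)` -/
structure Loc (Om : Set (Subgroup G)) (f : Subgroup G → G → M) : Prop where
  mul : ∀ K ∈ Om, ∀ g h, g ∈ normalizer (K : Set G) → h ∈ normalizer (K : Set G) → f K (g * h) = f K g * f K h
  cj : ∀ K ∈ Om, ∀ g, g ∈ normalizer (K : Set G) → ∀ a, f (cj a K) (a * g * a⁻¹) = f K g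

open Classical in
/-- the norm -/
noncomputable def nm (b : TwoEq Om) (f : Subgroup G → G → M) (K : Subgroup G) (g : G) : M :=
  if g ∈ normalizer (K : Set G) then f K g * f (mt b K) g else f K (g * g)

variable {f : Subgroup G → G → M}

theorem nm_of_mem (b : TwoEq Om) {K L : Subgroup G} (m : Mate Om K L) {g : G}
    (hg : g ∈ normalizer (K : Set G)) : nm b f K g = f K g * f L g := by
  unfold nm; rw [if_pos hg, mt_eq b m]

theorem nm_of_swap (b : TwoEq Om) {K L : Subgroup G} (m : Mate Om K L) {g : G}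
    (hg : cj g K = L) : nm b f K g = f K (g * g) := by
  unfold nm; rw [if_neg (b.not_norm m hg)]

theorem Loc.swap (l : Loc Om f) {K L : Subgroup G} (m : Mate Om K L) {s a : G}
    (hs : Cit.cj s K = L) (ha : a ∈ normalizer (K : Set G)) : f L (s * a * s⁻¹) = f K a := by
  rw [← hs]
  exact l.cj K m.hK a ha s

theorem nm_mate (b : TwoEq Om) (l : Loc Om f) {K L : Subgroup G} (m : Mate Om K L) {g : G}
    (hg : g * zz K = zz K * g) : nm b f K g = nm b f L g := by
  rcases b.norm_or m hg with h1 | h1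
  · rw [nm_of_mem b m h1, nm_of_mem b m.symm (b.mem_normalizer_mate m h1), mul_comm]
  · rw [nm_of_swap b m h1, nm_of_swap b m.symm (b.cj_symm m h1)]
    rw [← l.swap m h1 (b.swap_mul m h1 h1)]
    congr 1
    group

theorem nm_mul (b : TwoEq Om) (l : Loc Om f) {K L : Subgroup G} (m : Mate Om K L) {g h : G}
    (hg : g * zz K = zz K * g) (hh : h * zz K = zz K * h) :
    nm b f K (g * h) = nm b f K g * nm b f K h := by
  rcases b.norm_or m hg with h1 | h1
  · rcases b.norm_or m hh with h2 | h2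
    · rw [nm_of_mem b m h1, nm_of_mem b m h2, nm_of_mem b m (mul_mem h1 h2), l.mul K m.hK _ _ h1 h2,
        l.mul L m.hL _ _ (b.mem_normalizer_mate m h1) (b.mem_normalizer_mate m h2)]
      exact mul_mul_mul_comm _ _ _ _
    · rw [nm_of_mem b m h1, nm_of_swap b m h2, nm_of_swap b m (b.norm_swap m h1 h2)]
      have h1' := b.mem_normalizer_mate m h1
      have h3 : h * g * h⁻¹ ∈ normalizer (K : Set G) := by
        have h5 := b.swap_norm m h2 h1
        have h6 := b.swap_mul m h5 (b.cj_inv_swap m h2)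
        exact h6
      have h4 : f K (h * g * h⁻¹) = f L g := l.swap m.symm (b.cj_symm m h2) h1'
      have h5 : g * h * (g * h) = g * (h * g * h⁻¹) * (h * h) := by group
      rw [h5, l.mul K m.hK _ _ (mul_mem h1 h3) (b.swap_mul m h2 h2), l.mul K m.hK _ _ h1 h3, h4]
  · rcases b.norm_or m hh with h2 | h2
    · rw [nm_of_mem b m h2, nm_of_swap b m h1, nm_of_swap b m (b.swap_norm m h1 h2)]
      have h2' := b.mem_normalizer_mate m h2
      have h3 : g * h * g⁻¹ ∈ normalizer (K : Set G) := b.swap_mul m (b.swap_norm m h1 h2) (b.cj_inv_swap m h1)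
      have h4 : f K (g * h * g⁻¹) = f L h := l.swap m.symm (b.cj_symm m h1) h2'
      have h5 : g * h * (g * h) = (g * h * g⁻¹) * (g * g) * h := by group
      rw [h5, l.mul K m.hK _ _ (mul_mem h3 (b.swap_mul m h1 h1)) h2, l.mul K m.hK _ _ h3 (b.swap_mul m h1 h1), h4]
      rw [mul_comm (f L h), mul_assoc, mul_comm (f L h)]
    · rw [nm_of_swap b m h1, nm_of_swap b m h2, nm_of_mem b m (b.swap_mul m h1 h2)]
      have h3 : g * h ∈ normalizer (K : Set G) := b.swap_mul m h1 h2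
      have h3' := b.mem_normalizer_mate m h3
      have h4 : f K (g * (g * h) * g⁻¹) = f L (g * h) := l.swap m.symm (b.cj_symm m h1) h3'
      have h5 : g * (g * h) * g⁻¹ ∈ normalizer (K : Set G) := by
        have h6 : g * (g * h) * g⁻¹ = (g * g) * (h * g⁻¹) := by group
        rw [h6]
        exact mul_mem (b.swap_mul m h1 h1) (b.swap_mul m h2 (b.cj_inv_swap m h1))
      rw [← h4, mul_comm, ← l.mul K m.hK _ _ h5 h3, ← l.mul K m.hK _ _ (b.swap_mul m h1 h1) (b.swap_mul m h2 h2)]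
      congr 1
      group

theorem nm_cj (b : TwoEq Om) (l : Loc Om f) {K L : Subgroup G} (m : Mate Om K L) (a : G) {g : G}
    (hg : g * zz K = zz K * g) : nm b f (cj a K) (a * g * a⁻¹) = nm b f K g := by
  have m' := m.cj b.hyp a
  have h1 : ∀ g, g ∈ normalizer (K : Set G) → a * g * a⁻¹ ∈ normalizer (cj a K : Set G) := by
    intro g hg
    rw [mem_normalizer_iff_cj] at hg ⊢
    rw [cj_mul, cj_mul, cj_inv_cj, hg]
  rcases b.norm_or m hg with h2 | h2
  · rw [nm_of_mem b m h2, nm_of_mem b m' (h1 g h2), l.cj K m.hK g h2 a, l.cj L m.hL g (b.mem_normalizer_mate m h2) a]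
  · have h3 : cj (a * g * a⁻¹) (cj a K) = cj a L := by
      rw [cj_mul, cj_mul, cj_inv_cj, h2]
    rw [nm_of_swap b m h2, nm_of_swap b m' h3, ← l.cj K m.hK _ (b.swap_mul m h2 h2) a]
    congr 1
    group

/-- the family of the norms -/
noncomputable def nmFam (b : TwoEq Om) (l : Loc Om f)
    (hK : ∀ K L, Mate Om K L → ∀ h ∈ K, IsPGroup 2 (zpowers h) → f K h * f L h = 1)
    (hZ : ∀ K L, Mate Om K L → ∀ t ∈ Zs Om, t ∈ normalizer (K : Set G) → f K t * f L t = 1) : Fam Om M :=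
  famOf b (nm b f) (fun K L m g hg => nm_mate b l m hg)
    (fun K hK g h hg hh => nm_mul b l (mt_mate b hK) hg hh)
    (fun K hK a g hg => nm_cj b l (mt_mate b hK) a hg)
    (by
      intro K hK' h hh h2
      have m := mt_mate b hK'
      rw [nm_of_mem b m (le_normalizer hh)]
      exact hK K _ m h hh h2)
    (by
      intro K hK' t ht htK
      have m := mt_mate b hK'
      rcases b.norm_or m htK with h2 | h2
      · rw [nm_of_mem b m h2]
        exact hZ K _ m t ht h2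
      · rw [nm_of_swap b m h2, Zs_mul b.hyp ht]
        have h3 := l.mul K hK' 1 1 (one_mem _) (one_mem _)
        rw [mul_one] at h3
        exact mul_eq_left.1 h3.symm)

theorem nm_eq_one (b : TwoEq Om) (hk1 : OneF.K1 Om) (hM : ∃ s, Nat.card M = 2 ^ s)
    (hidx : ∀ H : Subgroup G, H.index ≠ 2) (l : Loc Om f)
    (hK : ∀ K L, Mate Om K L → ∀ h ∈ K, IsPGroup 2 (zpowers h) → f K h * f L h = 1)
    (hZ : ∀ K L, Mate Om K L → ∀ t ∈ Zs Om, t ∈ normalizer (K : Set G) → f K t * f L t = 1)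
    {K L : Subgroup G} (m : Mate Om K L) {g : G} (hg : g ∈ normalizer (K : Set G)) : f K g * f L g = 1 := by
  have hgz := b.hyp.comm_zz m.hK hg
  have h1 := gen_final b hk1 (nmFam b l hK hZ) hM hidx (zz_mem_Zs m.hK) hgz
  rw [← nm_of_mem b m hg, ← pick_zz b (f := nm b f) (fun K L m g hg => nm_mate b l m hg) m.hK hgz]
  exact h1

end nm

/-! ### The outer sign -/

theorem dl_loc : Loc Om (dl : Subgroup G → G → ℤˣ) where
  mul := fun K _ g h hg hh => dl_mul hg hh
  cj := fun K _ g hg a => dl_cj hg a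

/-- 2-elements of `K` have trivial sign on the mate -/
theorem dl_mate (b : TwoEq Om) {K L : Subgroup G} (m : Mate Om K L) {h : G} (hh : h ∈ K)
    (h2 : IsPGroup 2 (zpowers h)) : dl L h = 1 := by
  obtain ⟨Q, hQ, hc⟩ := m.exists_cent b.hyp hh h2
  have hc' : ∀ q ∈ Q, h * q = q * h := fun q hq => hc q hq
  rw [dl_of_normalizer hQ (m.le_normalizer b.hyp hh) (mem_normalizer_of_cent hc'), dq_of_cent hc']

/-- the class is killed -/
theorem dl_zs (b : TwoEq Om) (hk1 : OneF.K1 Om) {K L : Subgroup G} (m : Mate Om K L) {t : G} (ht : t ∈ Zs Om)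
    (htK : t ∈ normalizer (K : Set G)) : dl K t * dl L t = 1 := by
  by_cases hne : t = zz K
  · subst hne
    have h1 : zz K ∈ K := (b.hyp.zz_mem m.hK)
    rw [dl_of_mem h1, dl_mate b m h1 (Zs_isP b.hyp (zz_mem_Zs m.hK)), one_mul]
  obtain ⟨J, hJ, rfl⟩ := ht
  have hnJ : zz K ∈ normalizer (J : Set G) := nsym b hk1 K m.hK J hJ htK
  obtain ⟨K', J', T, R, R', p, -⟩ := b.exists_npair m.hK hJ (fun h => hne h.symm) htK hnJ (A := ⊥) IsPGroup.of_bot
    bot_le
  have hK' : K' = L := b.mate_unique p.m m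
  subst hK'
  obtain ⟨x, y, x2, y2, n, c⟩ := p.exists_co
  have htR : zz J ∈ R := p.TR p.zL_T
  have hnQ : ∀ {K : Subgroup G}, zz J ∈ normalizer (K : Set G) → zz J ∈ normalizer ((K ⊓ R : Subgroup G) : Set G) := by
    intro K hK
    rw [mem_normalizer_iff_cj, cj_inf, mem_normalizer_iff_cj.1 hK, mem_normalizer_iff_cj.1 (le_normalizer htR)]
  have htL := b.mem_normalizer_mate p.m htK
  have e1 := dl_of_normalizer p.hQ htK (hnQ htK)
  have e2 := dl_of_normalizer p.mate.hQ htL (hnQ htL)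
  rw [e1, e2]
  have hz : zz K = x ^ (2 * (2 : ℤ) ^ n) := by
    rw [← c.g.z_eq, ← zpow_natCast]; congr 1; push_cast; ring
  have hz2 : zz K = x2 ^ (2 * (2 : ℤ) ^ n) := by
    rw [← c.g2.z_eq, ← zpow_natCast]; congr 1; push_cast; ring
  have hev : Even (2 * (2 : ℤ) ^ n) := even_two_mul _
  rcases c.kind with ⟨⟨h1, h2, h3, h4⟩, -⟩ | ⟨⟨⟨h1, j, hj, h2⟩, ⟨h3, k, hk, h4⟩⟩, -⟩
  · have a1 : zz J * x * (zz J)⁻¹ ∈ zpowers x := by rw [h1, mul_inv_cancel_right]; exact mem_zpowers x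
    have a3 : zz J * x2 * (zz J)⁻¹ ∈ zpowers x2 := by rw [h3, mul_inv_cancel_right]; exact mem_zpowers x2
    have a2 : zz J * y * (zz J)⁻¹ = x ^ (2 * (2 : ℤ) ^ n) * y := by
      rw [h2, ← hz]
      exact b.hyp.comm_zz m.hK (le_normalizer c.g.v_mem.1)
    have a4 : zz J * y2 * (zz J)⁻¹ = x2 ^ (2 * (2 : ℤ) ^ n) * y2 := by
      rw [h4, ← hz2, p.m.zz]
      exact b.hyp.comm_zz p.m.hL (le_normalizer c.g2.v_mem.1)
    rw [(dq_even c.g (hnQ htK) a1 a2 hev).2, (dq_even c.g2 (hnQ htL) a3 a4 hev).2, one_mul]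
  · have flip : ∀ {Q : Subgroup G} {x y z : G} (g : GQ Q x y z n) (j : ℤ), y * x ^ j = x ^ (-j) * y := by
      intro Q x y z g j
      have h5 : y * x ^ j * y⁻¹ = x ^ (-j) := by
        rw [← conj_zpow, g.conj, inv_zpow, zpow_neg]
      rw [← h5]; group
    have a1 : zz J * x * (zz J)⁻¹ ∈ zpowers x := by rw [h1]; exact inv_mem (mem_zpowers x)
    have a3 : zz J * x2 * (zz J)⁻¹ ∈ zpowers x2 := by rw [h3]; exact inv_mem (mem_zpowers x2)
    rw [flip c.g] at h2
    rw [flip c.g2] at h4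
    rw [dq_odd c.g (hnQ htK) a1 h2 hj.neg, dq_odd c.g2 (hnQ htL) a3 h4 hk.neg]
    decide

/-- the outer signs on `K` and its mate agree -/
theorem dl_eq_mate (b : TwoEq Om) (hk1 : OneF.K1 Om) (hidx : ∀ H : Subgroup G, H.index ≠ 2)
    {K L : Subgroup G} (m : Mate Om K L) {g : G} (hg : g ∈ normalizer (K : Set G)) : dl K g * dl L g = 1 := by
  refine nm_eq_one b hk1 (M := ℤˣ) ⟨1, by simp⟩ hidx dl_loc ?_ (fun K L m t ht htK => dl_zs b hk1 m ht htK) m hg
  intro K L m h hh h2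
  rw [dl_of_mem hh, dl_mate b m hh h2, one_mul]

/-- **parity** -/
theorem par (b : TwoEq Om) (hk1 : OneF.K1 Om) (hidx : ∀ H : Subgroup G, H.index ≠ 2) {K L S : Subgroup G}
    (m : Mate Om K L) (hS : Syl S (centralizer {zz K})) {r1 y1 r2 y2 : G} {n1 n2 : ℕ}
    (g1 : GQ (K ⊓ S) r1 y1 (zz K) n1) (g2 : GQ (L ⊓ S) r2 y2 (zz K) n2) {s : G} (hs : s ∈ S)
    (a1 : s * r1 * s⁻¹ ∈ zpowers r1) (a2 : s * r2 * s⁻¹ ∈ zpowers r2) {j1 j2 : ℤ}
    (b1 : s * y1 * s⁻¹ = r1 ^ j1 * y1) (b2 : s * y2 * s⁻¹ = r2 ^ j2 * y2) : Even (j1 + j2) := by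
  have hsz : s * zz K = zz K * s := mem_centralizer_singleton_iff.1 (hS.1 hs)
  have hsK : s ∈ normalizer (K : Set G) := by
    rcases b.norm_or m hsz with h1 | h1
    · exact h1
    · exfalso
      have h2 : s * r1 * s⁻¹ ∈ L := by rw [← h1]; exact conj_mem_cj g1.c_mem.1
      obtain ⟨u, hu⟩ := a1
      have hu : r1 ^ u = s * r1 * s⁻¹ := hu
      have h3 : s * r1 * s⁻¹ ∈ K ⊓ S := by rw [← hu]; exact zpow_mem g1.c_mem u
      have h5 : y1 * (s * r1 * s⁻¹) = (s * r1 * s⁻¹) * y1 :=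
        m.comm b.hyp hS.2.1 g1.v_mem.1 g1.v_mem.2 h2 h3.2
      have h6 : y1 * (s * r1 * s⁻¹) * y1⁻¹ = (s * r1 * s⁻¹)⁻¹ := by
        rw [← hu, ← conj_zpow, g1.conj, inv_zpow]
      have h7 : s * r1 * s⁻¹ = (s * r1 * s⁻¹)⁻¹ := by rw [← h6, h5, mul_inv_cancel_right]
      have h8 : r1 * r1 = 1 := by
        have h9 : (s * r1 * s⁻¹) * (s * r1 * s⁻¹) = 1 := by nth_rewrite 2 [h7]; exact mul_inv_cancel _
        have h10 : s * (r1 * r1) * s⁻¹ = 1 := by rw [← h9]; group
        rw [mul_inv_eq_iff_eq_mul, one_mul] at h10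
        exact mul_eq_left.1 h10
      exact g1.c_sq_ne h8
  have hsL := b.mem_normalizer_mate m hsK
  have hnQ : ∀ {K : Subgroup G}, s ∈ normalizer (K : Set G) → s ∈ normalizer ((K ⊓ S : Subgroup G) : Set G) := by
    intro K hK
    rw [mem_normalizer_iff_cj, cj_inf, mem_normalizer_iff_cj.1 hK, mem_normalizer_iff_cj.1 (le_normalizer hs)]
  have hQ1 : Syl (K ⊓ S) K := b.syl_inf m.hK hS
  have hQ2 : Syl (L ⊓ S) L := b.syl_inf m.hL (by rw [← m.zz]; exact hS)
  have h := dl_eq_mate b hk1 hidx m hsK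
  rw [dl_of_normalizer hQ1 hsK (hnQ hsK), dl_of_normalizer hQ2 hsL (hnQ hsL)] at h
  rcases Int.even_or_odd j1 with e1 | e1
  · rcases Int.even_or_odd j2 with e2 | e2
    · exact e1.add e2
    · exfalso
      rw [(dq_even g1 (hnQ hsK) a1 b1 e1).2, dq_odd g2 (hnQ hsL) a2 b2 e2] at h
      exact absurd h (by decide)
  · rcases Int.even_or_odd j2 with e2 | e2
    · exfalso
      rw [dq_odd g1 (hnQ hsK) a1 b1 e1, (dq_even g2 (hnQ hsL) a2 b2 e2).2] at h
      exact absurd h (by decide)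
    · exact e1.add_odd e2

end Cfsg.Agent.Cit.TwoSyl
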