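import Cfsg.Agent.Cit.TwoSyl.GlueTwo
import Cfsg.Agent.Cit.TwoSyl.Par
import Cfsg.Agent.Cit.TwoSyl.Inv

/-!
# D5b, case (A), `P = C_S(Q₁Q₂)` cyclic: the data `Sp` and the fusion facts
-/

set_option autoImplicit false
set_option linter.style.haveILetI false
set_option linter.unusedSectionVars false
set_option linter.unusedVariables false

namespace Cfsg.Agent.Cit.TwoSyl.GlueSp

open Subgroup Cfsg Cit OneBasic TwoFK OneFieldHom OneFieldPsi GlueOne SylOne GlueTwo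
open Cfsg.Agent.GH.Q2 (Sd Ns Sw RR Co Qn)
open Cfsg.Agent.Cit.CoreTwoEq (PP CaseA)

variable {G : Type*} [Group G] [Finite G] {Om : Set (Subgroup G)} {K L S : Subgroup G}

/-- a decomposition modulo `P` of the elements of even type -/
theorem exists_dec (b : TwoEq Om) (hF : FK Om) (m : Mate Om K L) (hS : Syl S (centralizer {zz K}))
    {r1 y1 r2 y2 : G} {n1 n2 : ℕ} (g1 : GQ (K ⊓ S) r1 y1 (zz K) n1)
    (g2 : GQ (L ⊓ S) r2 y2 (zz K) n2) {s : G} (hs : s ∈ S) (hsK : s ∈ normalizer (K : Set G)) {u1 j1 u2 j2 : ℤ}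
    (N : Ns r1 y1 r2 y2 s u1 j1 u2 j2) (e1 : Even j1) (e2 : Even j2) :
    ∃ q ∈ (K ⊓ S) ⊔ (L ⊓ S), ∃ p ∈ PP S K L, s = q * p := by
  have a1 : s * r1 * s⁻¹ = r1 ^ u1 := N.a1
  have a2 : s * r2 * s⁻¹ = r2 ^ u2 := N.a2
  have b1 : s * y1 * s⁻¹ = r1 ^ j1 * y1 := N.b1
  have b2 : s * y2 * s⁻¹ = r2 ^ j2 * y2 := N.b2
  have hsL := b.mem_normalizer_mate m hsK
  obtain ⟨q1, hq1, c1, d1⟩ := exists_inner g1 (by
    rw [a1]; exact fk_coord b hF m.hK (syl1 b m hS) g1 hsK a1) b1 e1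
  obtain ⟨q2, hq2, c2, d2⟩ := exists_inner g2 (by
    rw [a2]; exact fk_coord b hF m.hL (syl2 b m hS) (m.zz ▸ g2) hsL a2) b2 e2
  have hc := comm_QQ b m hS
  have hq21 : ∀ w ∈ K ⊓ S, q2⁻¹ * w * q2 = w := by
    intro w hw
    rw [mul_assoc, hc w hw q2 hq2, inv_mul_cancel_left]
  have hq12 : ∀ w ∈ L ⊓ S, q1⁻¹ * w * q1 = w := by
    intro w hw
    rw [mul_assoc, ← hc q1 hq1 w hw, inv_mul_cancel_left]
  have hqq : q1 * q2 = q2 * q1 := hc _ hq1 _ hq2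
  have k1 : ∀ w ∈ K ⊓ S, q1 * w * q1⁻¹ = s * w * s⁻¹ → ((q1 * q2)⁻¹ * s) * w = w * ((q1 * q2)⁻¹ * s) := by
    intro w hw h1
    calc ((q1 * q2)⁻¹ * s) * w = q2⁻¹ * (q1⁻¹ * (s * w * s⁻¹) * q1) * q1⁻¹ * s := by group
      _ = (q2⁻¹ * w * q2) * ((q1 * q2)⁻¹ * s) := by rw [← h1]; group
      _ = w * ((q1 * q2)⁻¹ * s) := by rw [hq21 w hw]
  have k2 : ∀ w ∈ L ⊓ S, q2 * w * q2⁻¹ = s * w * s⁻¹ → ((q1 * q2)⁻¹ * s) * w = w * ((q1 * q2)⁻¹ * s) := by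
    intro w hw h1
    rw [hqq]
    calc ((q2 * q1)⁻¹ * s) * w = q1⁻¹ * (q2⁻¹ * (s * w * s⁻¹) * q2) * q2⁻¹ * s := by group
      _ = (q1⁻¹ * w * q1) * ((q2 * q1)⁻¹ * s) := by rw [← h1]; group
      _ = w * ((q2 * q1)⁻¹ * s) := by rw [hq12 w hw]
  refine ⟨q1 * q2, mul_mem (mem_sup_left hq1) (mem_sup_right hq2), (q1 * q2)⁻¹ * s, ?_, by group⟩
  rw [mem_PP]
  exact ⟨S.mul_mem (S.inv_mem (S.mul_mem hq1.2 hq2.2)) hs,
    comm_of g1 (k1 _ g1.c_mem c1) (k1 _ g1.v_mem d1), comm_of g2 (k2 _ g2.c_mem c2) (k2 _ g2.v_mem d2)⟩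

/-- `K ≤ O²(C(z))` -/
theorem le_res (b : TwoEq Om) (hT : ∀ K ∈ Om, TyTwo K) {M : Subgroup G} (hM : M ∈ Om) (hz : zz M = zz K) :
    M ≤ GH.Q2.InF2.Res (zz K) := by
  refine (hT M hM).trans ?_
  rw [closure_le]
  rintro c ⟨hc, ho⟩
  have hcz : c * zz K = zz K * c := by
    rw [← hz]; exact b.hyp.comm_zz hM (le_normalizer hc)
  refine ⟨⟨c, mem_centralizer_singleton_iff.2 hcz⟩, ?_, rfl⟩
  refine Transfer.Residual.mem_pResidual_of_coprime ?_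
  rw [Subgroup.orderOf_mk]
  exact Nat.coprime_two_right.2 ho

theorem res_le_cent (z : G) : GH.Q2.InF2.Res z ≤ centralizer {z} := map_subtype_le _

/-- `P ∩ O²(C(z)) ≤ K L`, if `P` is cyclic -/
theorem PP_res (b : TwoEq Om) (hT : ∀ K ∈ Om, TyTwo K) (m : Mate Om K L) (hS : Syl S (centralizer {zz K}))
    (hcyc : IsCyclic (PP S K L))
    (hdec : ∀ s ∈ S, s ∈ GH.Q2.InF2.Res (zz K) → ∃ q ∈ (K ⊓ S) ⊔ (L ⊓ S), ∃ p ∈ PP S K L, s = q * p)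
    {p : G} (hp : p ∈ PP S K L) (hpr : p ∈ GH.Q2.InF2.Res (zz K)) : p ∈ K ⊔ L := by
  haveI : Fact (Nat.Prime 2) := ⟨Nat.prime_two⟩
  obtain ⟨H, hH⟩ : ∃ H, H = GH.Q2.InF2.Res (zz K) := ⟨_, rfl⟩
  rw [← hH] at hpr hdec
  have hHC : H ≤ centralizer {zz K} := by rw [hH]; exact res_le_cent _
  have hKH : K ≤ H := by rw [hH]; exact le_res b hT m.hK rfl
  have hLH : L ≤ H := by rw [hH]; exact le_res b hT m.hL m.zz.symm
  have hHK : H ≤ normalizer (K : Set G) := by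
    rw [hH]
    exact GH.Q2.InF2.res_le fun g hgz hgo => odd_normalizer b m hgz hgo
  have hHL : H ≤ normalizer (L : Set G) := fun g hg => b.mem_normalizer_mate m (hHK hg)
  have hNH : K ⊔ L ≤ H := sup_le hKH hLH
  have hn : ((K ⊔ L).subgroupOf H).Normal := by
    rw [normal_subgroupOf_iff_le_normalizer hNH]
    intro g hg
    rw [mem_normalizer_iff_cj, cj_sup, mem_normalizer_iff_cj.1 (hHK hg), mem_normalizer_iff_cj.1 (hHL hg)]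
  obtain ⟨ψ, hψ, hψ'⟩ : ∃ ψ : H →* H ⧸ ((K ⊔ L).subgroupOf H), Function.Surjective ψ ∧
      ∀ x : H, ψ x = 1 ↔ (x : G) ∈ K ⊔ L :=
    ⟨QuotientGroup.mk' _, QuotientGroup.mk'_surjective _, fun x => by
      rw [QuotientGroup.mk'_apply, QuotientGroup.eq_one_iff, mem_subgroupOf]⟩
  -- the Sylow subgroup of `H`
  have hSH : Syl (H ⊓ S) H := by
    have h1 : centralizer {zz K} ≤ normalizer (H : Set G) := by
      intro g hg
      rw [mem_normalizer_iff_cj, hH]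
      have h2 : ∀ g : G, g * zz K = zz K * g → cj g (GH.Q2.InF2.Res (zz K)) ≤ GH.Q2.InF2.Res (zz K) := by
        intro g hg x hx
        obtain ⟨y, hy, hyx⟩ := hx
        rw [← hyx]
        exact GH.Q2.InF2.conj_mem_res hg hy
      have hgz := mem_centralizer_singleton_iff.1 hg
      exact eq_of_le_of_card_ge (h2 g hgz) (by rw [card_cj])
    rw [inf_comm]
    exact LB.syl_inf_normal hS hHC h1
  obtain ⟨T, hTeq⟩ := hSH.exists_sylow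
  let T' : Sylow 2 (H ⧸ ((K ⊔ L).subgroupOf H)) := T.mapSurjective hψ
  have hT' : (T' : Subgroup (H ⧸ ((K ⊔ L).subgroupOf H))) = (T : Subgroup H).map ψ := rfl
  -- it is the image of `P ∩ H`
  have hPH : IsCyclic ↥(PP S K L ⊓ H) :=
    isCyclic_of_injective (inclusion (inf_le_left : PP S K L ⊓ H ≤ PP S K L)) (inclusion_injective _)
  let φ : ↥(PP S K L ⊓ H) →* (H ⧸ ((K ⊔ L).subgroupOf H)) :=
    ψ.comp (inclusion (inf_le_right : PP S K L ⊓ H ≤ H))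
  have hφ : φ.range = (T' : Subgroup (H ⧸ ((K ⊔ L).subgroupOf H))) := by
    rw [hT']
    apply le_antisymm
    · rintro _ ⟨x, rfl⟩
      refine ⟨inclusion (inf_le_right : PP S K L ⊓ H ≤ H) x, ?_, rfl⟩
      rw [SetLike.mem_coe, hTeq]
      exact mem_subgroupOf.2 ⟨x.2.2, (mem_PP.1 x.2.1).1⟩
    · rintro _ ⟨x, hx, rfl⟩
      rw [SetLike.mem_coe, hTeq] at hx
      have hx' := mem_subgroupOf.1 hx
      obtain ⟨q, hq, p, hp, hqp⟩ := hdec x hx'.2 hx'.1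
      have hqN : q ∈ K ⊔ L := (sup_le_sup inf_le_left inf_le_left : (K ⊓ S) ⊔ (L ⊓ S) ≤ K ⊔ L) hq
      have hpH : p ∈ H := by
        have e : p = q⁻¹ * x := by rw [hqp]; group
        rw [e]
        exact H.mul_mem (H.inv_mem (hNH hqN)) x.2
      refine ⟨⟨p, hp, hpH⟩, ?_⟩
      have e : x = (⟨q, hNH hqN⟩ : H) * ⟨p, hpH⟩ := Subtype.ext hqp
      rw [e, map_mul, (hψ' ⟨q, hNH hqN⟩).2 hqN, one_mul]
      rfl
  have hTc : IsCyclic ↥(T' : Subgroup (H ⧸ ((K ⊔ L).subgroupOf H))) := by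
    rw [← hφ]
    exact isCyclic_of_surjective φ.rangeRestrict φ.rangeRestrict_surjective
  obtain ⟨M, hM, -⟩ := GH.Q2.InQuat.exists_odd_core T' hTc
  -- everything has odd order
  have hall : H ≤ (M.comap ψ).map H.subtype := by
    conv_lhs => rw [hH]
    apply GH.Q2.InF2.res_le
    intro g hgz hgo
    have hgH : g ∈ H := by
      rw [hH]
      refine ⟨⟨g, mem_centralizer_singleton_iff.2 hgz⟩, ?_, rfl⟩
      refine Transfer.Residual.mem_pResidual_of_coprime ?_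
      rw [Subgroup.orderOf_mk]
      exact Nat.coprime_two_right.2 hgo
    refine ⟨⟨g, hgH⟩, ?_, rfl⟩
    rw [SetLike.mem_coe, mem_comap, hM]
    refine Odd.of_dvd_nat hgo ?_
    have h1 := orderOf_map_dvd ψ (⟨g, hgH⟩ : H)
    rwa [Subgroup.orderOf_mk] at h1
  obtain ⟨⟨p', hp'⟩, hpM, hpp⟩ := hall hpr
  have hpp' : p' = p := hpp
  subst hpp'
  rw [SetLike.mem_coe, mem_comap, hM] at hpM
  have h2 : ψ ⟨p', hp'⟩ = 1 := by
    obtain ⟨k, hk⟩ := hS.2.1 ⟨p', (mem_PP.1 hp).1⟩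
    have hk' : p' ^ 2 ^ k = 1 := congrArg Subtype.val hk
    have h3 : orderOf (ψ ⟨p', hp'⟩) ∣ 2 ^ k := by
      apply orderOf_dvd_of_pow_eq_one
      rw [← map_pow]
      have : (⟨p', hp'⟩ : H) ^ 2 ^ k = 1 := Subtype.ext hk'
      rw [this, map_one]
    obtain ⟨i, -, hi⟩ := (Nat.dvd_prime_pow Nat.prime_two).1 h3
    rw [hi] at hpM
    have hi0 : i = 0 := by
      by_contra hi0
      have : Even (2 ^ i) := (Nat.even_pow.2 ⟨even_two, hi0⟩)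
      exact (Nat.not_even_iff_odd.2 hpM) this
    rw [hi0, pow_zero] at hi
    exact orderOf_eq_one_iff.1 hi
  exact (hψ' _).1 h2

/-- **`S ∩ O²(C(z)) ≤ Q₁Q₂`** -/
theorem mem_RR (b : TwoEq Om) (hT : ∀ K ∈ Om, TyTwo K) (hF : FK Om) (m : Mate Om K L)
    (hS : Syl S (centralizer {zz K})) (hcyc : IsCyclic (PP S K L)) {r1 y1 r2 y2 : G} {n : ℕ}
    (g1 : GQ (K ⊓ S) r1 y1 (zz K) n) (g2 : GQ (L ⊓ S) r2 y2 (zz K) n)
    (hco : Co (zz K) r1 y1 r2 y2 n n)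
    (hact : ∀ s ∈ S, (∃ u1 j1 u2 j2 : ℤ, Ns r1 y1 r2 y2 s u1 j1 u2 j2) ∨
      (∃ u1 j1 u2 j2 : ℤ, Sw r1 y1 r2 y2 s u1 j1 u2 j2)) {s : G} (hs : s ∈ S)
    (hs' : s ∈ GH.Q2.InF2.Res (zz K)) : s ∈ (K ⊓ S) ⊔ (L ⊓ S) := by
  have k1 := qk b hT m.hK (syl1 b m hS) g1
  have g2' : GQ (L ⊓ S) r2 y2 (zz L) n := m.zz ▸ g2
  have k2 := qk b hT m.hL (syl2 b m hS) g2'
  have hdec : ∀ s ∈ S, s ∈ GH.Q2.InF2.Res (zz K) → ∃ q ∈ (K ⊓ S) ⊔ (L ⊓ S), ∃ p ∈ PP S K L, s = q * p := by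
    intro s hs hs'
    have hs1 := res_le_stab b hT m (syl1 b m hS) g1 hs'
    have hs2 := res_le_stab b hT m.symm (syl2 b m hS) g2' (by rw [← m.zz]; exact hs')
    rcases hact s hs with ⟨u1, j1, u2, j2, N⟩ | ⟨u1, j1, u2, j2, N⟩
    · exact exists_dec b hF m hS g1 g2 hs hs1.1 N
        (GH.Q2.InF2.even_of_stab k1 (N.odd1 hco) N.a1 N.b1 hs1)
        (GH.Q2.InF2.even_of_stab k2 (N.odd2 hco) N.a2 N.b2 hs2)
    · exfalso
      have h3 : s * r1 * s⁻¹ ∈ K ⊓ S :=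
        ⟨(mem_normalizer_iff.1 hs1.1 r1).1 g1.c_mem.1, S.mul_mem (S.mul_mem hs g1.c_mem.2) (S.inv_mem hs)⟩
      have h4 : s * r1 * s⁻¹ ∈ L ⊓ S := by
        have h5 : s * r1 * s⁻¹ = r2 ^ u1 := N.a1
        rw [h5]
        exact zpow_mem g2.c_mem _
      have h5 := inf_eq b m hS h3 h4
      have hsz : s * zz K = zz K * s := mem_centralizer_singleton_iff.1 (hS.1 hs)
      apply hco.q1.odd_ne (i := 1) odd_one
      rw [zpow_one]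
      rcases h5 with h5 | h5
      · left
        have h6 : r1 = s⁻¹ * (s * r1 * s⁻¹) * s := by group
        rw [h6, h5]; group
      · right
        have h6 : r1 = s⁻¹ * (s * r1 * s⁻¹) * s := by group
        rw [h6, h5, mul_assoc, ← hsz, inv_mul_cancel_left]
  obtain ⟨q, hq, p, hp, hqp⟩ := hdec s hs hs'
  have hqN : q ∈ K ⊔ L := (sup_le_sup inf_le_left inf_le_left : (K ⊓ S) ⊔ (L ⊓ S) ≤ K ⊔ L) hq
  have hpr : p ∈ GH.Q2.InF2.Res (zz K) := by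
    have e : p = q⁻¹ * s := by rw [hqp]; group
    rw [e]
    exact mul_mem (inv_mem ((sup_le (le_res b hT m.hK rfl) (le_res b hT m.hL m.zz.symm) :
      K ⊔ L ≤ GH.Q2.InF2.Res (zz K)) hqN)) hs'
  have hpN := PP_res b hT m hS hcyc hdec hp hpr
  rw [hqp]
  exact mul_mem hq (mem_sup b m hS (mem_PP.1 hp).1 hpN)

/-- **(f2)** -/
theorem f2 (b : TwoEq Om) (hT : ∀ K ∈ Om, TyTwo K) (hF : FK Om) (m : Mate Om K L)
    (hS : Syl S (centralizer {zz K})) (hcyc : IsCyclic (PP S K L)) {r1 y1 r2 y2 : G} {n : ℕ}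
    (g1 : GQ (K ⊓ S) r1 y1 (zz K) n) (g2 : GQ (L ⊓ S) r2 y2 (zz K) n)
    (hco : Co (zz K) r1 y1 r2 y2 n n)
    (hact : ∀ s ∈ S, (∃ u1 j1 u2 j2 : ℤ, Ns r1 y1 r2 y2 s u1 j1 u2 j2) ∨
      (∃ u1 j1 u2 j2 : ℤ, Sw r1 y1 r2 y2 s u1 j1 u2 j2)) (c s : G) (hc : GH.Q2.cj c (zz K) = zz K)
    (hs : s ∈ S) (hcs : GH.Q2.cj c s ∈ S) :
    ∃ t ∈ S, GH.Q2.cj c s * (GH.Q2.cj t s)⁻¹ ∈ RR r1 y1 r2 y2 := by
  have hR : RR r1 y1 r2 y2 = (K ⊓ S) ⊔ (L ⊓ S) := by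
    unfold RR
    rw [GH.Q2.Coord.closure_of_gq g1, GH.Q2.Coord.closure_of_gq g2]
  have hcz : c * zz K = zz K * c := GH.Q2.cj_eq_self_iff.1 hc
  obtain ⟨x, hx, t, ht, rfl⟩ := GH.Q2.InF2.exists_mul hS hcz
  have hts : GH.Q2.cj t s ∈ S := S.mul_mem (S.mul_mem ht hs) (S.inv_mem ht)
  have htsz : GH.Q2.cj t s * zz K = zz K * GH.Q2.cj t s := mem_centralizer_singleton_iff.1 (hS.1 hts)
  refine ⟨t, ht, ?_⟩
  rw [hR]
  refine mem_RR b hT hF m hS hcyc g1 g2 hco hact (S.mul_mem hcs (S.inv_mem hts)) ?_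
  have h3 : GH.Q2.cj (x * t) s * (GH.Q2.cj t s)⁻¹ =
      x * (GH.Q2.cj t s * x⁻¹ * (GH.Q2.cj t s)⁻¹) := by
    simp only [GH.Q2.cj]; group
  rw [h3]
  exact mul_mem hx (GH.Q2.InF2.conj_mem_res htsz (inv_mem hx))

/-- case (A): `z` is conjugate to `r1 ^ 2 ^ n * r2 ^ 2 ^ n` -/
theorem tz (b : TwoEq Om) (hT : ∀ K ∈ Om, TyTwo K) (hA : CaseA Om) (m : Mate Om K L)
    (hS : Syl S (centralizer {zz K})) {r1 y1 r2 y2 : G} {n : ℕ}
    (g1 : GQ (K ⊓ S) r1 y1 (zz K) n) (g2 : GQ (L ⊓ S) r2 y2 (zz K) n)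
    (hco : Co (zz K) r1 y1 r2 y2 n n) : ∃ g : G, GH.Q2.cj g (zz K) = r1 ^ 2 ^ n * r2 ^ 2 ^ n := by
  obtain ⟨K₀, L₀, x, y, p, M, hM, hxy⟩ := hA
  -- `x y` is conjugate into `S`
  obtain ⟨g, hg⟩ := b.cls K₀ p.hK K m.hK
  have hgL : cj g L₀ = L := by
    have m0 : Mate Om K₀ L₀ := ⟨p.hK, p.hK', p.ne, p.hz.symm⟩
    have m1 := m0.cj b.hyp g
    rw [hg] at m1
    exact b.mate_unique m1 m
  obtain ⟨R, hR, hxR, hyR⟩ := p.two
  have hx0 : g * x * g⁻¹ ∈ K := by rw [← hg]; exact conj_mem_cj p.hx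
  have hy0 : g * y * g⁻¹ ∈ L := by rw [← hgL]; exact conj_mem_cj p.hy
  obtain ⟨A, hA⟩ : ∃ A, A = closure {g * x * g⁻¹, g * y * g⁻¹} := ⟨_, rfl⟩
  have hAR : A ≤ cj g R := by
    rw [hA, closure_le]
    rintro w (rfl | rfl)
    · exact conj_mem_cj hxR
    · exact conj_mem_cj hyR
  have hAp : IsPGroup 2 A := (isPGroup_cj hR).to_le hAR
  have hAC : A ≤ centralizer {zz K} := by
    rw [hA, closure_le]
    rintro w (rfl | rfl)
    · exact mem_centralizer_singleton_iff.2 (b.hyp.comm_zz m.hK (le_normalizer hx0))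
    · refine mem_centralizer_singleton_iff.2 ?_
      rw [m.zz]
      exact b.hyp.comm_zz m.hL (le_normalizer hy0)
  obtain ⟨S', hS', hAS'⟩ := OneBasic.exists_syl_ge hAp hAC
  obtain ⟨c, hc, hcS⟩ := hS'.exists_conj hS
  have hcz := mem_centralizer_singleton_iff.1 hc
  have hzcz : ∀ w : G, w * zz K = zz K * w → w * zz K * w⁻¹ = zz K := by
    intro w hw; rw [hw, mul_inv_cancel_right]
  have mem1 : c * (g * x * g⁻¹) * c⁻¹ ∈ S := by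
    rw [← hcS]; exact conj_mem_cj (hAS' (by rw [hA]; exact subset_closure (by simp)))
  have mem2 : c * (g * y * g⁻¹) * c⁻¹ ∈ S := by
    rw [← hcS]; exact conj_mem_cj (hAS' (by rw [hA]; exact subset_closure (by simp)))
  have o1 : (g * x * g⁻¹) * (g * x * g⁻¹) = zz K := by
    have h1 := b.hyp.sq_of_orderOf p.hK p.hx p.ox
    have h2 : (g * x * g⁻¹) * (g * x * g⁻¹) = g * (x * x) * g⁻¹ := by group
    rw [h2, h1, ← b.hyp.zz_cj p.hK, hg]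
  have o2 : (g * y * g⁻¹) * (g * y * g⁻¹) = zz K := by
    have h1 := b.hyp.sq_of_orderOf p.hK' p.hy p.oy
    have h2 : (g * y * g⁻¹) * (g * y * g⁻¹) = g * (y * y) * g⁻¹ := by group
    rw [h2, h1, ← b.hyp.zz_cj p.hK', hgL, m.zz]
  obtain ⟨x', hx'⟩ : ∃ x', x' = c * (g * x * g⁻¹) * c⁻¹ := ⟨_, rfl⟩
  obtain ⟨y', hy'⟩ : ∃ y', y' = c * (g * y * g⁻¹) * c⁻¹ := ⟨_, rfl⟩
  rw [← hx'] at mem1
  rw [← hy'] at mem2
  have s1 : x' * x' = zz K := by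
    have : x' * x' = c * ((g * x * g⁻¹) * (g * x * g⁻¹)) * c⁻¹ := by rw [hx']; group
    rw [this, o1, hzcz c hcz]
  have s2 : y' * y' = zz K := by
    have : y' * y' = c * ((g * y * g⁻¹) * (g * y * g⁻¹)) * c⁻¹ := by rw [hy']; group
    rw [this, o2, hzcz c hcz]
  have hxy' : (x' ∈ K ⊓ S ∧ y' ∈ L ⊓ S) ∨ (x' ∈ L ⊓ S ∧ y' ∈ K ⊓ S) := by
    rcases b.cj_or m hcz with ⟨e1, e2⟩ | ⟨e1, e2⟩
    · left
      refine ⟨⟨?_, mem1⟩, ⟨?_, mem2⟩⟩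
      · rw [hx', ← e1]; exact conj_mem_cj hx0
      · rw [hy', ← e2]; exact conj_mem_cj hy0
    · right
      refine ⟨⟨?_, mem1⟩, ⟨?_, mem2⟩⟩
      · rw [hx', ← e1]; exact conj_mem_cj hx0
      · rw [hy', ← e2]; exact conj_mem_cj hy0
  have hcom : x' * y' = y' * x' := by
    rcases hxy' with ⟨h1, h2⟩ | ⟨h1, h2⟩
    · exact comm_QQ b m hS _ h1 _ h2
    · exact (comm_QQ b m hS _ h2 _ h1).symm
  have hzz := b.hyp.zz_mul m.hK
  have hz1 := b.hyp.zz_ne m.hK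
  have hmem : x' * y' ∈ (K ⊓ S) ⊔ (L ⊓ S) := by
    rcases hxy' with ⟨h1, h2⟩ | ⟨h1, h2⟩
    · exact mul_mem (mem_sup_left h1) (mem_sup_right h2)
    · exact mul_mem (mem_sup_right h1) (mem_sup_left h2)
  have hsq : (x' * y') * (x' * y') = 1 := by
    calc (x' * y') * (x' * y') = x' * (y' * x') * y' := by group
      _ = (x' * x') * (y' * y') := by rw [← hcom]; group
      _ = 1 := by rw [s1, s2, hzz]
  have hconj : x' * y' = (c * g) * zz M * (c * g)⁻¹ := by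
    rw [← hxy, hx', hy']; group
  have hne1 : x' * y' ≠ 1 := by
    rw [hconj]
    intro h
    apply b.hyp.zz_ne hM
    have : zz M = (c * g)⁻¹ * ((c * g) * zz M * (c * g)⁻¹) * (c * g) := by group
    rw [this, h]; group
  have hnez : x' * y' ≠ zz K := by
    intro h
    -- `y' = x'⁻¹ z` lies in both
    have h1 : y' = x' := by
      have h2 : x' * y' = x' * x' := by rw [h, s1]
      exact mul_left_cancel h2
    have h3 : x' ∈ K ⊓ S ∧ x' ∈ L ⊓ S := by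
      rcases hxy' with ⟨a1, a2⟩ | ⟨a1, a2⟩
      · exact ⟨a1, h1 ▸ a2⟩
      · exact ⟨h1 ▸ a2, a1⟩
    rcases inf_eq b m hS h3.1 h3.2 with h4 | h4
    · rw [h4, one_mul] at s1; exact hz1 s1.symm
    · rw [h4, hzz] at s1; exact hz1 s1.symm
  have hR : RR r1 y1 r2 y2 = (K ⊓ S) ⊔ (L ⊓ S) := by
    unfold RR
    rw [GH.Q2.Coord.closure_of_gq g1, GH.Q2.Coord.closure_of_gq g2]
  obtain ⟨k, -, hk⟩ := f1 b hT m hS hmem (a' := r1 ^ 2 ^ n * r2 ^ 2 ^ n) (by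
      rw [← hR]
      exact mul_mem (pow_mem hco.m1 _) (pow_mem hco.m3 _)) hsq hne1 hnez (Sd.t_sq hco) (Sd.t_ne_one hco)
    (Sd.t_ne_z hco)
  obtain ⟨l, hl⟩ := b.cls K m.hK M hM
  refine ⟨k * (c * g) * l, ?_⟩
  have h5 : l * zz K * l⁻¹ = zz M := by rw [← b.hyp.zz_cj m.hK, hl]
  calc GH.Q2.cj (k * (c * g) * l) (zz K) = k * ((c * g) * (l * zz K * l⁻¹) * (c * g)⁻¹) * k⁻¹ := by
        simp only [GH.Q2.cj]; group
    _ = k * (x' * y') * k⁻¹ := by rw [h5, hconj]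
    _ = _ := hk

end Cfsg.Agent.Cit.TwoSyl.GlueSp
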