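import Cfsg.Agent.Cit.TwoSyl.SylOne
import Cfsg.Agent.Cit.TwoSyl.Base
import Cfsg.Agent.Cit.TwoP.Setup
import Cfsg.Agent.Lib.ProductSet

/-!
# D5b, case (A), `P = C_S(Q₁Q₂)` cyclic: from `TwoEq` to the data `Sp`

Coordinates, fusion facts `(f1)`, `(f2)`, `(fP)`, `(fQ)`, `Iso`, `tz`.
-/

set_option autoImplicit false
set_option linter.style.haveILetI false
set_option linter.unusedSectionVars false
set_option linter.unusedVariables false

namespace Cfsg.Agent.Cit.TwoSyl.GlueTwo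

open Subgroup Cfsg Cit OneBasic TwoFK OneFieldHom OneFieldPsi GlueOne SylOne
open Cfsg.Agent.GH.Q2 (Sd Ns Sw RR Co Qn)
open Cfsg.Agent.Cit.CoreTwoEq (PP CaseA)
open scoped Pointwise

variable {G : Type*} [Group G] [Finite G] {Om : Set (Subgroup G)} {K L S : Subgroup G}

theorem mem_PP {s : G} : s ∈ PP S K L ↔ s ∈ S ∧ (∀ g ∈ K ⊓ S, s * g = g * s) ∧ ∀ g ∈ L ⊓ S, s * g = g * s := by
  constructor
  · rintro ⟨⟨h1, h2⟩, h3⟩
    exact ⟨h1, fun g hg => (mem_centralizer_iff.1 h2 g hg).symm, fun g hg => (mem_centralizer_iff.1 h3 g hg).symm⟩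
  · rintro ⟨h1, h2, h3⟩
    exact ⟨⟨h1, mem_centralizer_iff.2 fun g hg => (h2 g hg).symm⟩,
      mem_centralizer_iff.2 fun g hg => (h3 g hg).symm⟩

/-! ### Coordinates -/

/-- `S ∩ N(K)` -/
def Ss (S K : Subgroup G) : Subgroup G := S ⊓ normalizer (K : Set G)

theorem Pm.mul {u v : ℤ} (hu : Pm u) (hv : Pm v) : Pm (u * v) := by
  rcases hu with rfl | rfl <;> rcases hv with rfl | rfl
  · exact Or.inl (by norm_num)
  · exact Or.inr (by norm_num)
  · exact Or.inr (by norm_num)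
  · exact Or.inl (by norm_num)

theorem exists_j {Q : Subgroup G} {z x y s : G} {n : ℕ} (g : GQ Q x y z n) (hsQ : s ∈ normalizer (Q : Set G))
    (hx : s * x * s⁻¹ = x ∨ s * x * s⁻¹ = x⁻¹) : ∃ j : ℤ, s * y * s⁻¹ = x ^ j * y := by
  obtain ⟨j, hj⟩ := g.exists_act hsQ (by
    rcases hx with h | h
    · have : s⁻¹ * x * s = x := by
        calc s⁻¹ * x * s = s⁻¹ * (s * x * s⁻¹) * s := by rw [h]
          _ = x := by group
      rw [this]; exact mem_zpowers x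
    · have : s⁻¹ * x * s = x⁻¹ := by
        calc s⁻¹ * x * s = s⁻¹ * (x⁻¹)⁻¹ * s := by rw [inv_inv]
          _ = s⁻¹ * (s * x * s⁻¹)⁻¹ * s := by rw [h]
          _ = x⁻¹ := by group
      rw [this]; exact inv_mem (mem_zpowers x))
  refine ⟨-j, ?_⟩
  have h1 : x ^ (-j) * y = y * x ^ (- -j) := g.zpow_v (-j)
  rw [hj, h1, neg_neg]

theorem exists_co (b : TwoEq Om) (hT : ∀ K ∈ Om, TyTwo K) (hidx : ∀ N : Subgroup G, N.index ≠ 2)
    (m : Mate Om K L) (hS : Syl S (centralizer {zz K})) :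
    ∃ r1 y1 r2 y2 n, GQ (K ⊓ S) r1 y1 (zz K) n ∧ GQ (L ⊓ S) r2 y2 (zz K) n ∧
      ∀ s ∈ S, (∃ u1 j1 u2 j2 : ℤ, Pm u1 ∧ Pm u2 ∧ Ns r1 y1 r2 y2 s u1 j1 u2 j2) ∨
        (∃ u1 j1 u2 j2 : ℤ, Pm u1 ∧ Pm u2 ∧ Sw r1 y1 r2 y2 s u1 j1 u2 j2) := by
  obtain ⟨t, ht, hts⟩ := exists_swap_mem b m hS
  have hSp : IsPGroup 2 ↥(Ss S K) := hS.2.1.to_le inf_le_left
  have hn1 : Ss S K ≤ normalizer ((K ⊓ S : Subgroup G) : Set G) := by
    intro s hs
    rw [mem_normalizer_iff_cj, cj_inf, mem_normalizer_iff_cj.1 hs.2, mem_normalizer_iff_cj.1 (le_normalizer hs.1)]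
  obtain ⟨r, y, n, g1, hr⟩ := TwoFK.exists_coord b (k1 b hT) hidx m.hK (syl1 b m hS) hSp inf_le_right hn1
  -- the conjugate coordinates
  have hcj : cj t (K ⊓ S) = L ⊓ S := by
    rw [cj_inf, hts, mem_normalizer_iff_cj.1 (le_normalizer ht)]
  have htz : t * zz K * t⁻¹ = zz K := by
    rw [mem_centralizer_singleton_iff.1 (hS.1 ht), mul_inv_cancel_right]
  have g2 : GQ (L ⊓ S) (t * r * t⁻¹) (t * y * t⁻¹) (zz K) n := by
    refine GH.Q2.Coord.cj_gq g1 t htz ?_ ?_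
    · intro w hw
      rw [← hcj]; exact conj_mem_cj hw
    · intro w hw
      rw [← hcj] at hw
      obtain ⟨x, hx, hxw⟩ := hw
      exact ⟨x, hx, hxw⟩
  -- `S ∩ N(K)`
  have hns : ∀ s ∈ Ss S K, ∃ u1 j1 u2 j2 : ℤ, Pm u1 ∧ Pm u2 ∧
      Ns r y (t * r * t⁻¹) (t * y * t⁻¹) s u1 j1 u2 j2 := by
    intro s hs
    have hs' : t⁻¹ * s * t ∈ Ss S K := by
      refine ⟨S.mul_mem (S.mul_mem (S.inv_mem ht) hs.1) ht, mem_normalizer_iff_cj.2 ?_⟩
      have hts' := b.cj_inv_swap m hts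
      rw [cj_mul, cj_mul, hts, mem_normalizer_iff_cj.1 (b.mem_normalizer_mate m hs.2)]
      exact b.cj_symm m hts'
    have key : ∀ s ∈ Ss S K, ∃ u j : ℤ, Pm u ∧ s * r * s⁻¹ = r ^ u ∧ s * y * s⁻¹ = r ^ j * y := by
      intro s hs
      obtain ⟨j, hj⟩ := exists_j g1 (hn1 hs) (hr s hs)
      rcases hr s hs with h | h
      · exact ⟨1, j, Or.inl rfl, by rw [h, zpow_one], hj⟩
      · exact ⟨-1, j, Or.inr rfl, by rw [h, zpow_neg_one], hj⟩
    obtain ⟨u, j, hu, e1, e2⟩ := key s hs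
    obtain ⟨v, k, hv, e3, e4⟩ := key _ hs'
    refine ⟨u, j, v, k, hu, hv, e1, e2, ?_, ?_⟩
    · change s * (t * r * t⁻¹) * s⁻¹ = (t * r * t⁻¹) ^ v
      rw [conj_zpow, ← e3]; group
    · change s * (t * y * t⁻¹) * s⁻¹ = (t * r * t⁻¹) ^ k * (t * y * t⁻¹)
      have e5 : s * (t * y * t⁻¹) * s⁻¹ = t * (t⁻¹ * s * t * y * (t⁻¹ * s * t)⁻¹) * t⁻¹ := by group
      rw [e5, e4, conj_zpow]; group
  refine ⟨r, y, t * r * t⁻¹, t * y * t⁻¹, n, g1, g2, ?_⟩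
  intro s hs
  have hsz := mem_centralizer_singleton_iff.1 (hS.1 hs)
  have htz' := mem_centralizer_singleton_iff.1 (hS.1 ht)
  rcases b.norm_or m hsz with h1 | h1
  · exact Or.inl (hns s ⟨hs, h1⟩)
  · right
    -- `t` itself
    have htt : t * t ∈ Ss S K := ⟨S.mul_mem ht ht, b.swap_mul m hts hts⟩
    obtain ⟨u, j, v, k, hu, hv, N⟩ := hns _ htt
    have Nt : Sw r y (t * r * t⁻¹) (t * y * t⁻¹) t 1 0 u j := by
      refine ⟨?_, ?_, ?_, ?_⟩
      · change t * r * t⁻¹ = (t * r * t⁻¹) ^ (1 : ℤ)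
        rw [zpow_one]
      · change t * y * t⁻¹ = (t * r * t⁻¹) ^ (0 : ℤ) * (t * y * t⁻¹)
        rw [zpow_zero, one_mul]
      · have e : (t * t) * r * (t * t)⁻¹ = r ^ u := N.a1
        change t * (t * r * t⁻¹) * t⁻¹ = r ^ u
        rw [← e]; group
      · have e : (t * t) * y * (t * t)⁻¹ = r ^ j * y := N.b1
        change t * (t * y * t⁻¹) * t⁻¹ = r ^ j * y
        rw [← e]; group
    have hst : s * t⁻¹ ∈ Ss S K := by
      refine ⟨S.mul_mem hs (S.inv_mem ht), b.swap_mul m h1 (b.cj_inv_swap m hts)⟩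
    obtain ⟨u', j', v', k', hu', hv', N'⟩ := hns _ hst
    have h2 := N'.mul_sw Nt
    rw [inv_mul_cancel_right] at h2
    exact ⟨_, _, _, _, Pm.mul hv' (Or.inl rfl), Pm.mul hu' hu, h2⟩

/-! ### `P` -/

/-- an element of `S` commuting with `Q₁` normalises `K` -/
theorem norm_of_cent (b : TwoEq Om) (m : Mate Om K L) (hS : Syl S (centralizer {zz K})) {s : G} (hs : s ∈ S)
    (h : ∀ g ∈ K ⊓ S, s * g = g * s) : s ∈ normalizer (K : Set G) := by
  rcases b.norm_or m (mem_centralizer_singleton_iff.1 (hS.1 hs)) with h1 | h1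
  · exact h1
  · exfalso
    obtain ⟨c, v, n, g⟩ := b.hyp.exists_gq m.hK (syl1 b m hS)
    have h2 : c ∈ L ⊓ S := by
      refine ⟨?_, g.c_mem.2⟩
      rw [← h1]
      have h3 : s * c * s⁻¹ = c := by rw [h c g.c_mem, mul_inv_cancel_right]
      rw [← h3]
      exact conj_mem_cj g.c_mem.1
    have h4 : 2 ^ 1 < 2 ^ (n + 2) := Nat.pow_lt_pow_right (by norm_num) (by omega)
    have h5 := g.ord
    rcases inf_eq b m hS g.c_mem h2 with h3 | h3
    · rw [h3, orderOf_one] at h5; omega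
    · rw [h3, b.hyp.orderOf_zz m.hK] at h5; omega

theorem syl1' (b : TwoEq Om) (m : Mate Om K L) (hS : Syl S (centralizer {zz K})) : Syl (L ⊓ S) L := syl2 b m hS

/-- **(fP)** -/
theorem fP (b : TwoEq Om) (m : Mate Om K L) (hS : Syl S (centralizer {zz K})) {c x : G}
    (hc : c * zz K * c⁻¹ = zz K) (hx : x ∈ PP S K L) (hcx : c * x * c⁻¹ ∈ S) : c * x * c⁻¹ ∈ PP S K L := by
  obtain ⟨hxS, hxK, hxL⟩ := mem_PP.1 hx
  have hcz : c * zz K = zz K * c := by rw [mul_inv_eq_iff_eq_mul] at hc; exact hc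
  have hxn := norm_of_cent b m hS hxS hxK
  have hxn' := b.mem_normalizer_mate m hxn
  obtain ⟨y, hy⟩ : ∃ y, y = c * x * c⁻¹ := ⟨_, rfl⟩
  rw [← hy] at hcx ⊢
  have hyS := mem_normalizer_iff_cj.1 (le_normalizer hcx)
  have hy2 : IsPGroup 2 (zpowers y) := hS.2.1.to_le (zpowers_le.2 hcx)
  have hcomm : ∀ A : Subgroup G, (∀ g ∈ A ⊓ S, x * g = g * x) → ∀ g ∈ cj c (A ⊓ S), y * g = g * y := by
    intro A hA g hg
    rw [mem_cj] at hg
    have h1 := hA _ hg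
    calc y * g = c * (x * (c⁻¹ * g * c)) * c⁻¹ := by rw [hy]; group
      _ = c * ((c⁻¹ * g * c) * x) * c⁻¹ := by rw [h1]
      _ = g * y := by rw [hy]; group
  have hnorm : ∀ A : Subgroup G, x ∈ normalizer (A : Set G) → y ∈ normalizer ((cj c A : Subgroup G) : Set G) := by
    intro A hA
    rw [mem_normalizer_iff_cj] at hA ⊢
    rw [hy, cj_mul, cj_mul, cj_inv_cj, hA]
  have main : ∀ (A B : Subgroup G), B ∈ Om → Syl (B ⊓ S) B → cj c A = B → x ∈ normalizer (A : Set G) →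
      Syl (A ⊓ S) A → (∀ g ∈ A ⊓ S, x * g = g * x) → ∀ g ∈ B ⊓ S, y * g = g * y := by
    intro A B hB hBS hAB hxA hAS hA
    have h1 : Syl (cj c (A ⊓ S)) B := by rw [← hAB]; exact hAS.cj c
    have h2 : y ∈ normalizer (B : Set G) := by rw [← hAB]; exact hnorm A hxA
    refine b.hyp.rigid hB h1 hBS h2 hy2 (hcomm A hA) ?_
    rw [mem_normalizer_iff_cj, cj_inf, mem_normalizer_iff_cj.1 h2, hyS]
  rw [mem_PP]
  refine ⟨hcx, ?_⟩
  rcases b.cj_or m hcz with ⟨e1, e2⟩ | ⟨e1, e2⟩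
  · exact ⟨main K K m.hK (syl1 b m hS) e1 hxn (syl1 b m hS) hxK,
      main L L m.hL (syl2 b m hS) e2 hxn' (syl2 b m hS) hxL⟩
  · exact ⟨main L K m.hK (syl1 b m hS) e2 hxn' (syl2 b m hS) hxL,
      main K L m.hL (syl2 b m hS) e1 hxn (syl1 b m hS) hxK⟩

/-- **(fQ)** -/
theorem fQ (b : TwoEq Om) (m : Mate Om K L) {c x : G} (hc : c * zz K * c⁻¹ = zz K) (hx : x ∈ K ⊓ S)
    (hcx : c * x * c⁻¹ ∈ S) : c * x * c⁻¹ ∈ K ⊓ S ∨ c * x * c⁻¹ ∈ L ⊓ S := by
  have hcz : c * zz K = zz K * c := by rw [mul_inv_eq_iff_eq_mul] at hc; exact hc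
  have h1 : c * x * c⁻¹ ∈ cj c K := conj_mem_cj hx.1
  rcases b.cj_or m hcz with ⟨e1, e2⟩ | ⟨e1, e2⟩
  · left; rw [e1] at h1; exact ⟨h1, hcx⟩
  · right; rw [e1] at h1; exact ⟨h1, hcx⟩

/-- **Iso** -/
theorem iso1 (b : TwoEq Om) (m : Mate Om K L) (hS : Syl S (centralizer {zz K})) {Q : Subgroup G} {r y : G}
    {M : Subgroup G} (hM : M ∈ Om) (hzM : zz M = zz K) (hQ : Syl Q M) {n : ℕ} (g : GQ Q r y (zz K) n) {c : G}
    (h1 : Commute (c * zz K * c⁻¹) r) (h2 : Commute (c * zz K * c⁻¹) y) : c * zz K * c⁻¹ = zz K := by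
  rw [← hzM]
  rw [← hzM] at h1 h2
  refine b.eq_of_cent hM (Zs_cj b.hyp (zz_mem_Zs hM) c) hQ ?_
  exact comm_of g h1.eq h2.eq

/-- the Sylow 2-subgroup of `K ⊔ L` -/
theorem mem_sup (b : TwoEq Om) (m : Mate Om K L) (hS : Syl S (centralizer {zz K})) {x : G} (hx : x ∈ S)
    (hxK : x ∈ K ⊔ L) : x ∈ (K ⊓ S) ⊔ (L ⊓ S) := by
  have hn := m.le_normalizer b.hyp
  have hn' := m.symm.le_normalizer b.hyp
  obtain ⟨Q, hQ⟩ : ∃ Q, Q = K ⊓ S := ⟨_, rfl⟩
  have hsyl := syl1 b m hS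
  rw [← hQ] at hsyl
  have hQn : Q ≤ normalizer (L : Set G) := hsyl.1.trans hn
  have hodd : ¬ 2 ∣ (Q ⊔ L).relIndex (K ⊔ L) := by
    have key : ∀ {A B : Subgroup G}, A ≤ normalizer (B : Set G) → B.relIndex (A ⊔ B) = B.relIndex A := by
      intro A B hAB
      have e1 := Lib.ProductSet.card_mul_card_inf A B
      have e2 : Nat.card ((A : Set G) * (B : Set G) : Set G) = Nat.card (A ⊔ B : Subgroup G) := by
        rw [← coe_mul_of_left_le_normalizer_right A B hAB]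
        rfl
      rw [e2] at e1
      have e3 := relIndex_mul_relIndex (⊥ : Subgroup G) B (A ⊔ B) bot_le le_sup_right
      have e4 := relIndex_mul_relIndex (⊥ : Subgroup G) (A ⊓ B) A bot_le inf_le_left
      rw [relIndex_bot_left, relIndex_bot_left] at e3 e4
      rw [inf_comm, inf_relIndex_right] at e4
      rw [← e3, ← e4, inf_comm] at e1
      have h7 : 0 < Nat.card B := Nat.card_pos
      have h8 : 0 < Nat.card (B ⊓ A : Subgroup G) := Nat.card_pos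
      have h9 : (Nat.card B * Nat.card (B ⊓ A : Subgroup G)) * B.relIndex (A ⊔ B) =
          (Nat.card B * Nat.card (B ⊓ A : Subgroup G)) * B.relIndex A := by
        linarith
      exact Nat.eq_of_mul_eq_mul_left (Nat.mul_pos h7 h8) h9
    have e1 := key hn
    have e2 := key hQn
    have e3 := relIndex_mul_relIndex L (Q ⊔ L) (K ⊔ L) le_sup_right (sup_le_sup_right hsyl.1 _)
    have e4 := relIndex_mul_relIndex (Q ⊓ L) Q K inf_le_left hsyl.1
    have e5 := relIndex_mul_relIndex (Q ⊓ L) (K ⊓ L) K (inf_le_inf_right _ hsyl.1) inf_le_left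
    rw [inf_relIndex_left] at e4
    rw [inf_relIndex_left] at e5
    rw [e1, e2] at e3
    intro h2
    apply hsyl.2.2
    have h3 : L.relIndex Q ≠ 0 := (L.subgroupOf Q).index_ne_zero_of_finite
    have h4 : Q.relIndex K = (Q ⊔ L).relIndex (K ⊔ L) * (Q ⊓ L).relIndex (K ⊓ L) := by
      apply Nat.eq_of_mul_eq_mul_left (Nat.pos_of_ne_zero h3)
      rw [e4, ← e5, ← e3]
      ring
    rw [h4]
    exact h2.mul_right _
  have hxn : Cit.cj x K = K ∧ Cit.cj x L = L := by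
    constructor
    · rw [← mem_normalizer_iff_cj]
      exact (sup_le le_normalizer hn' : K ⊔ L ≤ normalizer (K : Set G)) hxK
    · rw [← mem_normalizer_iff_cj]
      exact (sup_le hn le_normalizer : K ⊔ L ≤ normalizer (L : Set G)) hxK
  have hxW : x ∈ Q ⊔ L := by
    refine TwoP.mem_of_norm_odd (sup_le_sup_right hsyl.1 _) hodd (hS.2.1.to_le (zpowers_le.2 hx)) hxK ?_
    rw [mem_normalizer_iff_cj, cj_sup, hxn.2, hQ, cj_inf, hxn.1, mem_normalizer_iff_cj.1 (le_normalizer hx)]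
  obtain ⟨a, ha, c, hc, rfl⟩ := exists_mul_of_mem_sup hQn hxW
  rw [hQ] at ha
  refine mul_mem (mem_sup_left ha) (mem_sup_right ⟨hc, ?_⟩)
  have h1 : c = a⁻¹ * (a * c) := by group
  rw [h1]
  exact S.mul_mem (S.inv_mem ha.2) hx

end Cfsg.Agent.Cit.TwoSyl.GlueTwo
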