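import Cfsg.Agent.Cit.TwoSyl.Base

/-!
# R18, D5b, section 1: the element `k : z ↔ t`, `P₂ = k P k⁻¹ ≤ C_S(r1, r2)`
-/

set_option autoImplicit false

namespace Cfsg.Agent.Cit.TwoSyl

open Subgroup Cfsg.Agent.GH.Q2

variable {G : Type*} [Group G]

/-- `C_S(t)` is a maximal 2-subgroup of `C(z) ∩ C(t)` (version with involutions only of `GH.Q2.max0`). -/
theorem max0i [Finite G] (S : Sylow 2 G) {z t : G} (hSz : ∀ s ∈ (S : Subgroup G), s * z = z * s)
    (hZ : ∀ s ∈ (S : Subgroup G), s * s = 1 → (∀ w ∈ (S : Subgroup G), w * s = s * w) → s = 1 ∨ s = z)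
    (ht : t ∈ (S : Subgroup G)) (htt : t * t = 1) (ht1 : t ≠ 1) (htz : t ≠ z)
    (hS : ∀ s ∈ (S : Subgroup G), cj s t = t ∨ cj s t = t * z) :
    ∀ X : Subgroup G, IsPGroup 2 X → X ≤ centralizer {z} ⊓ centralizer {t} →
      (S : Subgroup G) ⊓ centralizer {t} ≤ X → X = (S : Subgroup G) ⊓ centralizer {t} := by
  classical
  intro X hX hXD hle
  have hSP : IsPGroup 2 (S : Subgroup G) := S.2
  have hSC : (S : Subgroup G) ≤ centralizer {z} := fun s hs => mem_cz.2 (hSz s hs)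
  have h1 : Nat.card (S : Subgroup G) = 2 * Nat.card ↥((S : Subgroup G) ⊓ centralizer {t}) := by
    have h2 : ∃ y ∈ (S : Subgroup G), cj y t ≠ t := by
      by_contra hcon
      push Not at hcon
      rcases hZ t ht htt (fun w hw => cj_eq_self_iff.1 (hcon w hw)) with h | h
      · exact ht1 h
      · exact htz h
    obtain ⟨y, hy, hyt⟩ := h2
    have hyt' : cj y t = t * z := (hS y hy).resolve_left hyt
    have h3 : ((S : Subgroup G) ⊓ centralizer {t}).relIndex (S : Subgroup G) = 2 := by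
      rw [relIndex, index_eq_two_iff']
      refine ⟨⟨y, hy⟩⁻¹, fun b => ?_⟩
      have hb : ∀ u : (S : Subgroup G), u ∈ ((S : Subgroup G) ⊓ centralizer {t}).subgroupOf
          (S : Subgroup G) ↔ cj (u : G) t = t := by
        intro u
        rw [mem_subgroupOf, mem_inf, cj_eq_self_iff]
        exact ⟨fun h => mem_cz.1 h.2, fun h => ⟨u.2, mem_cz.2 h⟩⟩
      rw [hb, hb]
      have e : cj (((⟨y, hy⟩ : (S : Subgroup G))⁻¹ * b : (S : Subgroup G)) : G) t = t ↔
          cj (b : G) t = t * z := by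
        rw [← hyt']
        change cj (y⁻¹ * (b : G)) t = t ↔ _
        rw [cj_mul_left]
        constructor
        · intro h
          rw [← h, cj_cj_inv]
          rw [h]
        · intro h
          rw [h, cj_inv_cj]
      rw [e]
      have htz' : t * z ≠ t := by
        intro h
        rw [mul_eq_left] at h
        apply hyt; rw [hyt', h, mul_one]
      rcases hS b b.2 with h | h
      · right
        exact ⟨h, fun h' => htz' (h'.symm.trans h)⟩
      · left
        exact ⟨h, fun h' => htz' (h.symm.trans h')⟩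
    have h4 := card_mul_rel (W := (S : Subgroup G) ⊓ centralizer {t})
      (S := (S : Subgroup G)) inf_le_left
    rw [h3] at h4
    omega
  obtain ⟨d, hd, hdX⟩ := conj_into hSP hSC (sylow_max S _) hX (hXD.trans inf_le_left)
  have hdz : cj d z = z := cj_eq_self (mem_cz.1 hd)
  have htM : t ∈ (S : Subgroup G) ⊓ centralizer {t} := ⟨ht, mem_cz.2 rfl⟩
  have htd : cj d t ∈ (S : Subgroup G) := hdX t (hle htM)
  have h2 : X.map (MulAut.conj d).toMonoidHom ≤ (S : Subgroup G) ⊓ centralizer {cj d t} := by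
    rintro _ ⟨x, hx, rfl⟩
    refine ⟨hdX x hx, mem_cz.2 ?_⟩
    change cj d x * cj d t = cj d t * cj d x
    rw [← cj_mul, ← cj_mul, mem_cz.1 (hXD hx).2]
  have h3 : (S : Subgroup G) ⊓ centralizer {cj d t} ≠ (S : Subgroup G) := by
    intro h
    have h4 : ∀ w ∈ (S : Subgroup G), w * cj d t = cj d t * w := by
      intro w hw
      rw [← h] at hw
      exact mem_cz.1 hw.2
    rcases hZ _ htd (by rw [← cj_mul, htt, cj_one]) h4 with h5 | h5
    · exact cj_ne_one ht1 h5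
    · apply htz
      exact cj_inj (h5.trans hdz.symm)
  have h4 := card_mul_rel (W := (S : Subgroup G) ⊓ centralizer {cj d t})
      (S := (S : Subgroup G)) inf_le_left
  have h5 : 2 ≤ ((S : Subgroup G) ⊓ centralizer {cj d t}).relIndex (S : Subgroup G) := by
    have h6 : ((S : Subgroup G) ⊓ centralizer {cj d t}).relIndex (S : Subgroup G) ≠ 0 := by
      intro h; rw [h] at h4; have := Nat.card_pos (α := (S : Subgroup G)); omega
    have h7 : ((S : Subgroup G) ⊓ centralizer {cj d t}).relIndex (S : Subgroup G) ≠ 1 := by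
      intro h
      rw [relIndex_eq_one] at h
      exact h3 (le_antisymm inf_le_left h)
    omega
  have h6 := card_le_of_le h2
  rw [card_map_cj] at h6
  refine (eq_of_le_of_card_ge hle ?_).symm
  nlinarith

namespace Sp

variable {S P : Subgroup G} {z r1 y1 r2 y2 a a' s x g k : G} {n : ℕ} {b1 b2 c1 c2 u1 j1 u2 j2 : ℤ}

theorem cj_t (h : Sp S P z r1 y1 r2 y2 n) (hs : s ∈ S) :
    cj s (te r1 r2 n) = te r1 r2 n ∨ cj s (te r1 r2 n) = te r1 r2 n * z := by
  have zr2 : ∀ k : ℕ, z * r2 ^ k = r2 ^ k * z := fun k =>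
    (Commute.pow_right (show Commute z r2 from h.q2.zr) k)
  have key : ∀ {a b : G}, (a = r1 ^ (2 ^ n) ∨ a = r1 ^ (2 ^ n) * z) →
      (b = r2 ^ (2 ^ n) ∨ b = r2 ^ (2 ^ n) * z) →
      a * b = r1 ^ (2 ^ n) * r2 ^ (2 ^ n) ∨ a * b = r1 ^ (2 ^ n) * r2 ^ (2 ^ n) * z := by
    intro a b ha hb
    have hz : r1 ^ (2 ^ n) * z * r2 ^ (2 ^ n) = r1 ^ (2 ^ n) * r2 ^ (2 ^ n) * z := by
      rw [mul_assoc, zr2, mul_assoc]
    rcases ha with rfl | rfl <;> rcases hb with rfl | rfl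
    · left; rfl
    · right; rw [mul_assoc]
    · right; rw [hz]
    · left; rw [← mul_assoc, hz, mul_assoc, h.q1.z_sq, mul_one]
  unfold te
  rcases h.act s hs with ⟨u1, j1, u2, j2, p1, p2, N⟩ | ⟨u1, j1, u2, j2, p1, p2, N⟩
  · rw [cj_mul, cj_pow, cj_pow, N.a1, N.a2]
    exact key (h.q1.a_odd p1.odd) (h.q2.a_odd p2.odd)
  · rw [cj_mul, cj_pow, cj_pow, N.a1, N.a2]
    have h1 := h.q2.a_odd p1.odd
    have h2 := h.q1.a_odd p2.odd
    have e : ∀ i j : ℤ, (r2 ^ i) ^ (2 ^ n) * (r1 ^ j) ^ (2 ^ n) =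
        (r1 ^ j) ^ (2 ^ n) * (r2 ^ i) ^ (2 ^ n) := by
      intro i j
      exact (((show Commute r2 r1 from h.rr.symm).zpow_zpow i j).pow_pow _ _)
    rw [e]
    exact key h2 h1

theorem cj_t_y1 (h : Sp S P z r1 y1 r2 y2 n) : cj y1 (te r1 r2 n) = te r1 r2 n * z := by
  have e1 : cj y1 (r1 ^ (2 ^ n)) = r1 ^ (2 ^ n) * z := by
    rw [cj_pow, h.q1.inv, inv_pow, h.q1.a_inv]
  have e2 : cj y1 (r2 ^ (2 ^ n)) = r2 ^ (2 ^ n) := by
    rw [cj_pow, cj_eq_self h.yr]
  have zr2 : z * r2 ^ (2 ^ n) = r2 ^ (2 ^ n) * z :=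
    (Commute.pow_right (show Commute z r2 from h.q2.zr) _)
  unfold te
  rw [cj_mul, e1, e2, mul_assoc, zr2, mul_assoc]

theorem cj_t_y2 (h : Sp S P z r1 y1 r2 y2 n) : cj y2 (te r1 r2 n) = te r1 r2 n * z := by
  rw [h.t_comm']
  exact h.symm.cj_t_y1

theorem cj_tz_y1 (h : Sp S P z r1 y1 r2 y2 n) : cj y1 (te r1 r2 n * z) = te r1 r2 n := by
  rw [cj_mul, h.cj_t_y1, h.cj_z h.h2, mul_assoc, h.zz, mul_one]

theorem ct_r1 (h : Sp S P z r1 y1 r2 y2 n) : Commute r1 (te r1 r2 n) :=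
  ((Commute.refl r1).pow_right _).mul_right ((show Commute r1 r2 from h.rr).pow_right _)

theorem ct_r2 (h : Sp S P z r1 y1 r2 y2 n) : Commute r2 (te r1 r2 n) := by
  rw [h.t_comm']; exact h.symm.ct_r1

theorem ct_v (h : Sp S P z r1 y1 r2 y2 n) : Commute (y1 * y2) (te r1 r2 n) := by
  apply comm_of_cj
  rw [cj_mul_left, h.cj_t_y2, h.cj_tz_y1]

theorem ct_z (h : Sp S P z r1 y1 r2 y2 n) : Commute z (te r1 r2 n) := h.tz.symm

theorem ct_P (h : Sp S P z r1 y1 r2 y2 n) (hx : x ∈ P) : Commute x (te r1 r2 n) :=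
  ((comm_of_cj (h.cP1 hx)).pow_right _).mul_right ((comm_of_cj (h.cP3 hx)).pow_right _)

theorem ct_ns (h : Sp S P z r1 y1 r2 y2 n) (N : Ns r1 y1 r2 y2 s 1 b1 1 b2) :
    Commute s (te r1 r2 n) := by
  have e1 := N.a1
  have e2 := N.a2
  rw [zpow_one] at e1 e2
  exact ((comm_of_cj e1).pow_right _).mul_right ((comm_of_cj e2).pow_right _)

/-- elements commuting with `r1`, `r2`, `y1 y2` and of square one. -/
theorem cen_u (h : Sp S P z r1 y1 r2 y2 n) (hs : s ∈ S) (hss : s * s = 1) (c1 : cj s r1 = r1)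
    (c2 : cj s r2 = r2) (c3 : cj s (y1 * y2) = y1 * y2) :
    s = 1 ∨ s = z ∨ s = te r1 r2 n ∨ s = te r1 r2 n * z := by
  rcases h.act s hs with ⟨u1, j1, u2, j2, p1, p2, N⟩ | ⟨u1, j1, u2, j2, p1, p2, N⟩
  · have key : r1 ^ j1 * r2 ^ j2 = 1 := by
      rw [cj_mul, N.b1, N.b2] at c3
      have e : y1 * r2 ^ j2 = r2 ^ j2 * y1 := (Commute.zpow_right (show Commute y1 r2 from h.yr) j2)
      have e2 : r1 ^ j1 * y1 * (r2 ^ j2 * y2) = r1 ^ j1 * r2 ^ j2 * (y1 * y2) := by
        calc r1 ^ j1 * y1 * (r2 ^ j2 * y2) = r1 ^ j1 * (y1 * r2 ^ j2) * y2 := by group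
          _ = _ := by rw [e]; group
      rw [e2] at c3
      exact mul_eq_right.1 c3
    have hu1 : u1 = 1 := by
      rcases p1 with rfl | rfl
      · rfl
      · exfalso
        have h3 := N.a1.symm.trans c1
        rw [zpow_neg_one] at h3
        exact h.q1.r_ne_inv h3.symm
    have hu2 : u2 = 1 := by
      rcases p2 with rfl | rfl
      · rfl
      · exfalso
        have h3 := N.a2.symm.trans c2
        rw [zpow_neg_one] at h3
        exact h.q2.r_ne_inv h3.symm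
    subst hu1 hu2
    rcases Sd.A0_one h.toCo key with ⟨e1, e2⟩ | ⟨e1, e2⟩
    · have h1 : s ∈ P := (h.mP s).2 ⟨hs, ns_congr N (by rw [e1, zpow_zero]) (by rw [e2, zpow_zero])⟩
      rcases h.P_invol h1 hss with h2 | h2
      · exact Or.inl h2
      · exact Or.inr (Or.inl h2)
    · have h1 : s * te r1 r2 n ∈ P := by
        refine (h.mP _).2 ⟨mul_mem hs h.t_mem, ?_⟩
        refine ns_congr (ns_mul N h.ns_t) ?_ ?_
        · rw [zpow_add, e1, h.q1.rzp, h.zz, zpow_zero]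
        · rw [zpow_add, e2, h.q2.rzp, h.zz, zpow_zero]
      have h2 : Commute s (te r1 r2 n) := h.ct_ns N
      have h3 : (s * te r1 r2 n) * (s * te r1 r2 n) = 1 := by
        calc (s * te r1 r2 n) * (s * te r1 r2 n) = s * (te r1 r2 n * s) * te r1 r2 n := by group
          _ = (s * s) * (te r1 r2 n * te r1 r2 n) := by rw [← h2.eq]; group
          _ = 1 := by rw [hss, h.tt, mul_one]
      rcases h.P_invol h1 h3 with h4 | h4
      · right; right; left
        rw [mul_eq_one_iff_eq_inv] at h4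
        rw [h4]; exact inv_eq_of_mul_eq_one_left h.tt
      · right; right; right
        have : s = z * te r1 r2 n := by
          rw [← h4, mul_assoc, h.tt, mul_one]
        rw [this, h.tz]
  · exfalso
    have h1 := N.a1.symm.trans c1
    have h2 := h.ind_zpow (i := 1) (j := u1) (by rw [zpow_one]; exact h1.symm)
    exact h.q1.odd_ne odd_one h2

theorem cen_z (h : Sp S P z r1 y1 r2 y2 n) (hs : s ∈ S) (hss : s * s = 1)
    (hc : ∀ w ∈ S, w * s = s * w) : s = 1 ∨ s = z := by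
  have h1 : s ∈ P := h.memP hs (cj_eq_self (hc _ h.h1).symm) (cj_eq_self (hc _ h.h2).symm)
    (cj_eq_self (hc _ h.h3).symm) (cj_eq_self (hc _ h.h4).symm)
  exact h.P_invol h1 hss

/-- conjugation by `y1` preserves `C_S(t)`. -/
theorem nor_y1 (h : Sp S P z r1 y1 r2 y2 n) {w : G} (hw : w ∈ S) (hwt : Commute w (te r1 r2 n)) :
    cj y1 w ∈ S ∧ Commute (cj y1 w) (te r1 r2 n) := by
  refine ⟨cj_mem h.h2 hw, ?_⟩
  have h1 : Commute (cj y1 w) (te r1 r2 n * z) := by
    rw [← h.cj_t_y1]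
    change cj y1 w * cj y1 _ = cj y1 _ * cj y1 w
    rw [← cj_mul, ← cj_mul, hwt.eq]
  have h2 : Commute (cj y1 w) z := h.zc (cj_mem h.h2 hw)
  have h3 := h1.mul_right h2
  rwa [mul_assoc, h.zz, mul_one] at h3

theorem nor_y1' (h : Sp S P z r1 y1 r2 y2 n) {w : G} (hw : w ∈ S) (hwt : Commute w (te r1 r2 n)) :
    cj y1⁻¹ w ∈ S ∧ Commute (cj y1⁻¹ w) (te r1 r2 n) := by
  have e : cj y1⁻¹ w = cj y1 (cj z w) := by
    rw [← cj_mul_left]
    congr 1
    rw [eq_comm, ← mul_eq_one_iff_eq_inv, mul_assoc, h.q1.zy, ← mul_assoc, h.q1.ys, h.zz]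
  have hz : cj z w = w := cj_eq_self (h.zc hw).symm
  rw [e, hz]
  exact h.nor_y1 hw hwt

end Sp

/-- (1.1). -/
theorem exists_al [Finite G] (S : Sylow 2 G) {P : Subgroup G} {z r1 y1 r2 y2 : G} {n : ℕ}
    (h : Sp (S : Subgroup G) P z r1 y1 r2 y2 n) {g : G} (hg : cj g z = te r1 r2 n) :
    ∃ k : G, Al (S : Subgroup G) z (te r1 r2 n) k := by
  have hmax := max0i S (fun s hs => h.zc hs) (fun s hs hss hc => h.cen_z hs hss hc) h.t_mem h.tt
    h.t_ne_one h.t_ne_z (fun s hs => h.cj_t hs)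
  have t1 := h.t_ne_one
  have tz := h.t_ne_z
  have tt := h.tt
  have tS := h.t_mem
  have ty := h.cj_t_y1
  have cenu := fun {s : G} => h.cen_u (s := s)
  have cenz := fun {s : G} => h.cen_z (s := s)
  have tr1 := cj_eq_self' h.ct_r1.symm
  have tr2 := cj_eq_self' h.ct_r2.symm
  have tv := cj_eq_self' h.ct_v.symm
  set t := te r1 r2 n with ht
  clear_value t
  have zz := h.q1.z_sq
  have zy1 : cj y1 z = z := h.q1.cj_y_z
  have tzc : t * z = z * t := h.zc tS
  set M : Subgroup G := (S : Subgroup G) ⊓ centralizer {t} with hM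
  have hMP : IsPGroup 2 M := isPGroup_inf S.2
  have mM : ∀ {s : G}, s ∈ (S : Subgroup G) → cj t s = s → s ∈ M := by
    intro s hs hc
    exact ⟨hs, mem_cz.2 (cj_eq_self_iff.1 hc).symm⟩
  have m1 : r1 ∈ M := mM h.h1 tr1
  have m2 : r2 ∈ M := mM h.h3 tr2
  have m3 : y1 * y2 ∈ M := mM (mul_mem h.h2 h.h4) tv
  have mz : z ∈ M := mM h.hz (cj_eq_self tzc)
  have mt : t ∈ M := mM tS (cj_self t)
  have hSP : IsPGroup 2 (S : Subgroup G) := S.2
  have hconj : (S : Subgroup G).map (MulAut.conj g).toMonoidHom ≤ centralizer {t} := by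
    rintro _ ⟨x, hx, rfl⟩
    refine mem_cz.2 ?_
    change cj g x * t = t * cj g x
    rw [← hg, ← cj_mul, ← cj_mul, h.zc hx]
  have hconjP := isPGroup_cj hSP g
  have hconjmax : ∀ X : Subgroup G, IsPGroup 2 X → X ≤ centralizer {t} →
      (S : Subgroup G).map (MulAut.conj g).toMonoidHom ≤ X →
      X = (S : Subgroup G).map (MulAut.conj g).toMonoidHom := by
    intro X hX _ hle
    exact (eq_of_card S hX hle (card_map_cj _ _)).symm
  obtain ⟨d, hd, hdW⟩ := conj_into hconjP hconj hconjmax hMP inf_le_right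
  set Q : Subgroup G := ((S : Subgroup G).map (MulAut.conj g).toMonoidHom).map
    (MulAut.conj d⁻¹).toMonoidHom with hPdef
  have hPP : IsPGroup 2 Q := isPGroup_cj hconjP _
  have hPc : Nat.card Q = Nat.card (S : Subgroup G) := by
    rw [hPdef, card_map_cj, card_map_cj]
  have hPs : ∀ x ∈ Q, x * t = t * x := by
    rintro _ ⟨x, hx, rfl⟩
    change cj d⁻¹ x * t = t * cj d⁻¹ x
    have e : cj d⁻¹ t = t := cj_inv_z (cj_eq_self (mem_cz.1 hd))
    have h1 := mem_cz.1 (hconj hx)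
    have h2 := congrArg (cj d⁻¹) h1
    rwa [cj_mul, cj_mul, e] at h2
  have hWP' : M ≤ Q := by
    intro w hw
    exact ⟨cj d w, hdW w hw, cj_inv_cj d w⟩
  have hne : M ≠ Q := by
    intro h1
    have h2 : M = (S : Subgroup G) := by
      have h0 : Nat.card M = Nat.card (S : Subgroup G) := by rw [h1, hPc]
      exact eq_of_le_of_card_ge inf_le_left h0.ge
    rcases cenz tS tt (fun w hw => by rw [← h2] at hw; exact mem_cz.1 hw.2) with h3 | h3
    · exact t1 h3
    · exact tz h3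
  obtain ⟨k, hk, hkM, hkn⟩ := exists_normalizing' hPP hWP' hne
  have kt : cj k t = t := cj_eq_self (hPs k hk)
  have hPM : ∀ x ∈ Q, cj x z = z → x ∈ M := by
    intro x hx hxz
    have h1 := hmax (M ⊔ zpowers x) ?_ ?_ le_sup_left
    · rw [← h1]
      exact mem_sup_right (mem_zpowers x)
    · exact hPP.to_le (sup_le hWP' (by rw [zpowers_le]; exact hx))
    · refine sup_le ?_ ?_
      · intro w hw
        exact ⟨mem_cz.2 (h.zc hw.1), hw.2⟩
      · rw [zpowers_le]
        exact ⟨mem_cz.2 (cj_eq_self_iff.1 hxz), mem_cz.2 (hPs x hx)⟩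
  have kz : cj k z ≠ z := fun e => hkM (hPM k hk e)
  have hfix : ∀ m ∈ M, cj (cj k z) m = m := by
    intro m hm
    have h1 : cj k (cj k⁻¹ m) = m := cj_cj_inv k m
    have h2 : cj k⁻¹ m ∈ M := by
      have h3 : cj k⁻¹ m ∈ Q := mul_mem (mul_mem (inv_mem hk) (hWP' hm)) (inv_mem (inv_mem hk))
      rw [hkn _ h3, h1]; exact hm
    conv_lhs => rw [← h1]
    rw [cj_cj, cj_eq_self (h.zc h2.1).symm, h1]
  have kzM : cj k z ∈ M := (hkn _ (hWP' mz)).1 mz
  have kz' : cj k z = t * z := by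
    rcases cenu kzM.1 (by rw [← cj_mul, zz, cj_one]) (hfix _ m1) (hfix _ m2) (hfix _ m3) with
      h1 | h1 | h1 | h1
    · exact absurd h1 (cj_ne_one h.q1.z_ne)
    · exact absurd h1 kz
    · exact absurd (cj_inj (h1.trans kt.symm)) tz.symm
    · exact h1
  have ktz : cj k (t * z) = z := by
    rw [cj_mul, kt, kz', ← mul_assoc, tt, one_mul]
  have kk : k * k ∈ M := by
    apply hPM _ (mul_mem hk hk)
    rw [cj_mul_left, kz', ktz]
  have ty' : cj y1 (t * z) = t := by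
    rw [cj_mul, ty, zy1, mul_assoc, zz, mul_one]
  refine ⟨cj y1 k, ?_, ?_, ?_, ?_⟩
  · conv_lhs => rw [← zy1]
    rw [cj_cj, kz', ty']
  · conv_lhs => rw [← ty']
    rw [cj_cj, ktz, zy1]
  · rw [← cj_mul]
    exact mul_mem (mul_mem h.h2 kk.1) (inv_mem h.h2)
  · intro w hw hwt
    have h1 : cj y1 (cj y1⁻¹ w) = w := cj_cj_inv y1 w
    have h2 : cj y1⁻¹ w ∈ (S : Subgroup G) :=
      mul_mem (mul_mem (inv_mem h.h2) hw) (inv_mem (inv_mem h.h2))
    have h3 : cj y1⁻¹ w ∈ M := by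
      refine ⟨h2, mem_cz.2 ?_⟩
      have h4 : cj y1⁻¹ w * (t * z) = (t * z) * cj y1⁻¹ w := by
        have h5 : cj y1⁻¹ t = t * z := by
          conv_lhs => rw [← ty']
          rw [cj_inv_cj]
        have h6 := congrArg (cj y1⁻¹) hwt
        rwa [cj_mul, cj_mul, h5] at h6
      have h5 := h.zc h2
      have h6 : cj y1⁻¹ w * t * z = t * cj y1⁻¹ w * z := by
        rw [mul_assoc, h4, mul_assoc, ← h5, mul_assoc]
      exact mul_right_cancel h6
    have h4 := ((hkn _ (hWP' h3)).1 h3).1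
    rw [← h1, cj_cj]
    exact mul_mem (mul_mem h.h2 h4) (inv_mem h.h2)

end Cfsg.Agent.Cit.TwoSyl
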