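import Cfsg.Agent.Cit.TwoSyl.Inv
import Cfsg.Agent.GH.Q2.Rel

/-!
# R18, D5b: generation of `S`, the subgroup of index two when `p = s1 s2` is a square in `P`
-/

set_option autoImplicit false

namespace Cfsg.Agent.Cit.TwoSyl

open Subgroup Cfsg.Agent.GH.Q2

variable {G : Type*} [Group G]

/-! ### generalities -/

theorem mem_sup2 {Δ : Subgroup G} {σ g : G} (hn : ∀ d ∈ Δ, cj σ d ∈ Δ) (hσ : σ * σ ∈ Δ)
    (hg : g ∈ Δ ⊔ closure {σ}) : g ∈ Δ ∨ ∃ d ∈ Δ, g = d * σ := by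
  have hn' : ∀ d ∈ Δ, σ⁻¹ * d * σ ∈ Δ := by
    intro d hd
    have e : σ⁻¹ * d * σ = (σ * σ)⁻¹ * cj σ d * (σ * σ) := by rw [cj_def]; group
    rw [e]
    exact mul_mem (mul_mem (inv_mem hσ) (hn d hd)) hσ
  obtain ⟨d, hd, i, rfl⟩ := Rel.mem_sup (fun d hd => hn d hd) hn' hg
  rcases Int.even_or_odd' i with ⟨j, rfl | rfl⟩
  · left
    rw [zpow_mul, zpow_two]
    exact mul_mem hd (zpow_mem hσ j)
  · right
    refine ⟨d * (σ * σ) ^ j, mul_mem hd (zpow_mem hσ j), ?_⟩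
    rw [zpow_add, zpow_mul, zpow_two, zpow_one, mul_assoc]

/-- the abelian group generated by four commuting elements. -/
def A4 (a b c d : G) : Subgroup G := ((closure {a} ⊔ closure {b}) ⊔ closure {c}) ⊔ closure {d}

section A4

variable {a b c d g : G}

theorem A4.a_mem : a ∈ A4 a b c d :=
  mem_sup_left (mem_sup_left (mem_sup_left (subset_closure rfl)))
theorem A4.b_mem : b ∈ A4 a b c d :=
  mem_sup_left (mem_sup_left (mem_sup_right (subset_closure rfl)))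
theorem A4.c_mem : c ∈ A4 a b c d := mem_sup_left (mem_sup_right (subset_closure rfl))
theorem A4.d_mem : d ∈ A4 a b c d := mem_sup_right (subset_closure rfl)

theorem A4.mem (ab : Commute a b) (ac : Commute a c) (ad : Commute a d) (bc : Commute b c)
    (bd : Commute b d) (cd : Commute c d) (hg : g ∈ A4 a b c d) :
    ∃ i j l m : ℤ, g = a ^ i * b ^ j * c ^ l * d ^ m := by
  have key : ∀ {Δ : Subgroup G} {σ : G}, Δ ≤ centralizer {σ} → ∀ {g}, g ∈ Δ ⊔ closure {σ} →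
      ∃ d ∈ Δ, ∃ i : ℤ, g = d * σ ^ i := by
    intro Δ σ h g hg
    refine Rel.mem_sup ?_ ?_ hg
    · intro d hd
      have h1 := mem_cz.1 (h hd)
      rw [← h1, mul_inv_cancel_right]; exact hd
    · intro d hd
      have h1 := mem_cz.1 (h hd)
      rw [mul_assoc, h1, inv_mul_cancel_left]; exact hd
  have cl : ∀ {x y : G}, Commute x y → closure {x} ≤ centralizer {y} := by
    intro x y h
    rw [closure_le]
    rintro _ rfl
    exact mem_cz.2 h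
  obtain ⟨x, hx, m, e⟩ := key (sup_le (sup_le (cl ad) (cl bd)) (cl cd)) hg
  obtain ⟨x', hx', l, e'⟩ := key (sup_le (cl ac) (cl bc)) hx
  obtain ⟨x'', hx'', j, e''⟩ := key (cl ab) hx'
  obtain ⟨i, hi⟩ := mem_closure_singleton.1 hx''
  exact ⟨i, j, l, m, by rw [e, e', e'', hi]⟩

end A4

namespace Rf

variable {S P : Subgroup G} {z r1 y1 r2 y2 a a' s x g k ρ w p0 : G} {n : ℕ}
  {b1 b2 c1 c2 u1 j1 u2 j2 : ℤ}

/-- `S = P N`. -/
theorem dec (h : Sp S P z r1 y1 r2 y2 n) (hf : FP S P z) (f : Rf S P z r1 y1 r2 y2 n k ρ)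
    {N : Subgroup G} (n1 : r1 ∈ N) (n2 : y1 ∈ N) (n3 : r2 ∈ N) (n4 : y2 ∈ N) (n5 : cj k r1 ∈ N)
    (n6 : cj k (y1 * y2) ∈ N) (hs : s ∈ S) : ∃ π ∈ P, ∃ m ∈ N, s = π * m := by
  have red : ∀ {s : G} (w : G), w ∈ N → (∃ π ∈ P, ∃ m ∈ N, s * w = π * m) →
      ∃ π ∈ P, ∃ m ∈ N, s = π * m := by
    rintro s w hw ⟨π, hπ, m, hm, e⟩
    refine ⟨π, hπ, m * w⁻¹, mul_mem hm (inv_mem hw), ?_⟩
    rw [← mul_assoc, ← e, mul_inv_cancel_right]
  have step : ∀ {s : G} {b1 b2 : ℤ}, s ∈ S → Ns r1 y1 r2 y2 s 1 b1 1 b2 →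
      ∃ π ∈ P, ∃ m ∈ N, s = π * m := by
    intro s b1 b2 hs N1
    have ev : ∀ {s : G} {b1 b2 : ℤ}, s ∈ S → Ns r1 y1 r2 y2 s 1 b1 1 b2 → Even b1 →
        ∃ π ∈ P, ∃ m ∈ N, s = π * m := by
      intro s b1 b2 hs N1 e1
      have e2 : Even b2 := by
        have := h.par s hs _ _ _ _ N1
        rw [Int.even_add] at this
        tauto
      obtain ⟨i, hi⟩ := e1.two_dvd
      obtain ⟨j, hj⟩ := e2.two_dvd
      rw [hi, hj] at N1
      obtain ⟨π, hπ, rfl⟩ := h.even_dec hs N1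
      refine ⟨π, hπ, r1 ^ i * r2 ^ j, mul_mem (zpow_mem n1 _) (zpow_mem n3 _), ?_⟩
      exact (((comm_of_cj (h.cP1 hπ)).zpow_right i).mul_right
        ((comm_of_cj (h.cP3 hπ)).zpow_right j)).eq.symm
    by_cases e1 : Even b1
    · exact ev hs N1 e1
    · obtain ⟨d1, d2, M⟩ := h.s1_ns hf f.al
      obtain ⟨o1, _⟩ := h.s1_odd f.al M
      rw [Int.not_even_iff_odd] at e1
      exact red _ n5 (ev (mul_mem hs (h.s1_mem f.al).1) (ns_mul N1 M) (e1.add_odd o1))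
  have step2 : ∀ {s : G} {u1 j1 u2 j2 : ℤ}, s ∈ S → Ns r1 y1 r2 y2 s u1 j1 u2 j2 →
      ∃ π ∈ P, ∃ m ∈ N, s = π * m := by
    intro s u1 j1 u2 j2 hs N
    rcases h.act s hs with ⟨u1, j1, u2, j2, p1, p2, N⟩ | ⟨u1, j1, u2, j2, p1, p2, N'⟩
    · rcases p1 with rfl | rfl <;> rcases p2 with rfl | rfl
      · exact step hs N
      · have := N.mul h.ns_y2
        exact red _ n4 (step (b1 := j1) (b2 := j2) (mul_mem hs h.h4)
          (by convert this using 1 <;> norm_num))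
      · have := N.mul h.ns_y1
        exact red _ n2 (step (b1 := j1) (b2 := j2) (mul_mem hs h.h2)
          (by convert this using 1 <;> norm_num))
      · have := N.mul h.ns_v
        exact red _ (mul_mem n2 n4) (step (b1 := j1) (b2 := j2) (mul_mem hs h.v_mem)
          (by convert this using 1 <;> norm_num))
    · exact (h.ns_not_sw N N').elim
  rcases h.act s hs with ⟨u1, j1, u2, j2, p1, p2, N⟩ | ⟨u1, j1, u2, j2, p1, p2, N⟩
  · exact step2 hs N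
  · obtain ⟨i1, i2, T⟩ := f.kv_sw h hf
    exact red _ n6 (step2 (mul_mem hs (f.kv_mem h).1) (N.mul T))

/-- generation when `P = ⟨s1 s2⟩`. -/
theorem gen (h : Sp S P z r1 y1 r2 y2 n) (hf : FP S P z) (f : Rf S P z r1 y1 r2 y2 n k ρ)
    (hP : ∀ x ∈ P, ∃ i : ℤ, x = (cj k r1 * cj k r2) ^ i) :
    S = closure {r1, r2, cj k r1, y1, cj k (y1 * y2)} := by
  apply le_antisymm
  · intro s hs
    set N : Subgroup G := closure {r1, r2, cj k r1, y1, cj k (y1 * y2)} with hN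
    have n1 : r1 ∈ N := subset_closure (by simp)
    have n3 : r2 ∈ N := subset_closure (by simp)
    have n2 : y1 ∈ N := subset_closure (by simp)
    have n5 : cj k r1 ∈ N := subset_closure (by simp)
    have n6 : cj k (y1 * y2) ∈ N := subset_closure (by simp)
    have n4 : y2 ∈ N := by
      obtain ⟨i1, i2, T⟩ := f.kv_sw h hf
      have e : y2 = r2 ^ (-i1) * cj (cj k (y1 * y2)) y1 := by
        rw [T.b1, ← mul_assoc, ← zpow_add, neg_add_cancel, zpow_zero, one_mul]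
      rw [e, cj_def]
      exact mul_mem (zpow_mem n3 _) (mul_mem (mul_mem n6 n2) (inv_mem n6))
    obtain ⟨π, hπ, m, hm, rfl⟩ := f.dec h hf n1 n2 n3 n4 n5 n6 hs
    obtain ⟨i, rfl⟩ := hP π hπ
    have n7 : cj k r2 ∈ N := by
      rw [← h.v_s1 hf f.al, cj_def]
      exact mul_mem (mul_mem (mul_mem n2 n4) n5) (inv_mem (mul_mem n2 n4))
    exact mul_mem (zpow_mem (mul_mem n5 n7) i) hm
  · rw [closure_le]
    rintro w (rfl | rfl | rfl | rfl | rfl)
    exacts [h.h1, h.h3, (h.s1_mem f.al).1, h.h2, (f.kv_mem h).1]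

/-! ### the subgroup of index two -/

/-- `⟨r1, r2, s1, q⟩ ⟨y1⟩ ⟨y2⟩ ⟨τ⟩`. -/
def M3 (r1 r2 s1 q y1 y2 τ : G) : Subgroup G :=
  ((A4 r1 r2 s1 q ⊔ closure {y1}) ⊔ closure {y2}) ⊔ closure {τ}

theorem s1_y1 (_ : Sp S P z r1 y1 r2 y2 n) (N : Ns r1 y1 r2 y2 (cj k r1) 1 b1 1 b2) :
    Commute r1 (cj k r1) ∧ Commute r2 (cj k r1) := by
  have e1 := N.a1
  have e2 := N.a2
  rw [zpow_one] at e1 e2
  exact ⟨(comm_of_cj e1).symm, (comm_of_cj e2).symm⟩

theorem half (h : Sp S P z r1 y1 r2 y2 n) (hf : FP S P z) (f : Rf S P z r1 y1 r2 y2 n k ρ)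
    (hp0 : p0 ∈ P) (hgen : ∀ x ∈ P, ∃ i : ℤ, x = p0 ^ i) {e : ℤ}
    (he : cj k r1 * cj k r2 = p0 ^ (2 * e)) :
    ∃ M : Subgroup G, M ≤ S ∧ M.relIndex S = 2 ∧ RR r1 y1 r2 y2 ≤ M ∧ cj k r1 ∈ M ∧ cj k r2 ∈ M ∧
      cj k (y1 * y2) ∈ M ∧ ρ ∈ M ∧ p0 ∉ M := by
  obtain ⟨d1, d2, N1⟩ := h.s1_ns hf f.al
  obtain ⟨o1, _⟩ := h.s1_odd f.al N1
  obtain ⟨i1, i2, T⟩ := f.kv_sw h hf
  obtain ⟨hτS, hτt⟩ := f.kv_mem h
  have hs1S := (h.s1_mem f.al).1
  have hs1P := h.s1_P hf f.al hp0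
  have hlam : cj k r1 * cj k r1 = cj k r1 * cj k r2 * r1 ^ d1 * r2 ^ d2 := by
    rw [← h.v_s1 hf f.al, h.cj_v_of N1]
    obtain ⟨c1, c2⟩ := s1_y1 h N1
    have c12 : Commute r1 r2 := h.rr
    have a1 := (c1.zpow_left (-d1)).eq
    calc cj k r1 * cj k r1 = cj k r1 * (cj k r1 * r1 ^ (-d1) * (r2 ^ (-d2) * r2 ^ d2) * r1 ^ d1) := by
          rw [← zpow_add, neg_add_cancel, zpow_zero]; group
      _ = cj k r1 * (cj k r1 * r1 ^ (-d1) * r2 ^ (-d2)) * (r2 ^ d2 * r1 ^ d1) := by group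
      _ = _ := by rw [((c12.symm).zpow_zpow d2 d1).eq]; group
  have hs1 := h.s1_mem f.al
  have hs2 := h.al_nor f.al h.h3 h.ct_r2
  have hkv1 := f.kv_s1 h
  have hkv2 := f.kv_r1 h hf
  have hkv3 := f.kv_r2 h hf
  have hkvv := f.kv_kv h
  have hppow := h.p_pow f.al
  have hρ1 : ∃ c1 : ℤ, Odd c1 ∧ cj k r1 = r1 * ρ ^ (-c1) := by
    obtain ⟨c1, h1, h2, _⟩ := f.k1
    exact ⟨c1, h1, h2⟩
  have hρS := f.ρS
  have hdec := fun {N : Subgroup G} (n1 : r1 ∈ N) (n2 : y1 ∈ N) (n3 : r2 ∈ N) (n4 : y2 ∈ N)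
    (n5 : cj k r1 ∈ N) (n6 : cj k (y1 * y2) ∈ N) {s : G} (hs : s ∈ S) => f.dec h hf n1 n2 n3 n4 n5 n6 hs
  obtain ⟨c1, c2⟩ := s1_y1 h N1
  set s1 := cj k r1 with hs1def
  set s2 := cj k r2 with hs2def
  set τ := cj k (y1 * y2) with hτdef
  clear_value s1 s2 τ
  have c12 : Commute r1 r2 := h.rr
  set q := p0 * p0 with hq
  have hqP : q ∈ P := mul_mem hp0 hp0
  have cq1 : Commute r1 q := (comm_of_cj (h.cP1 hqP)).symm
  have cq2 : Commute r2 q := (comm_of_cj (h.cP3 hqP)).symm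
  have cqs : Commute s1 q := hs1P.mul_right hs1P
  have qpow : ∀ i : ℤ, p0 ^ (2 * i) = q ^ i := fun i => by rw [zpow_mul, zpow_two]
  have ma := A4.a_mem (a := r1) (b := r2) (c := s1) (d := q)
  have mb := A4.b_mem (a := r1) (b := r2) (c := s1) (d := q)
  have mc := A4.c_mem (a := r1) (b := r2) (c := s1) (d := q)
  have md := A4.d_mem (a := r1) (b := r2) (c := s1) (d := q)
  set A := A4 r1 r2 s1 q with hA
  have memA : ∀ {g : G}, g ∈ A → ∃ i j l m : ℤ, g = r1 ^ i * r2 ^ j * s1 ^ l * q ^ m := fun hg =>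
    A4.mem c12 c1 cq1 c2 cq2 cqs hg
  have mz : z ∈ A := by rw [← h.q1.rp]; exact pow_mem ma _
  -- `y1`, `y2` normalize `A`
  have ny1 : ∀ d ∈ A, cj y1 d ∈ A := by
    intro d hd
    obtain ⟨i, j, l, m, rfl⟩ := memA hd
    rw [cj_mul, cj_mul, cj_mul, cj_zpow, cj_zpow, cj_zpow, cj_zpow, h.q1.inv, cj_eq_self h.yr,
      cj_y1_of N1, cj_eq_self' (comm_of_cj (h.cP2 hqP)).symm]
    exact mul_mem (mul_mem (mul_mem (zpow_mem (inv_mem ma) _) (zpow_mem mb _))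
      (zpow_mem (mul_mem mc (zpow_mem ma _)) _)) (zpow_mem md _)
  have ny2 : ∀ d ∈ A, cj y2 d ∈ A := by
    intro d hd
    obtain ⟨i, j, l, m, rfl⟩ := memA hd
    rw [cj_mul, cj_mul, cj_mul, cj_zpow, cj_zpow, cj_zpow, cj_zpow, h.q2.inv, cj_eq_self h.ry.symm,
      cj_y2_of N1, cj_eq_self' (comm_of_cj (h.cP4 hqP)).symm]
    exact mul_mem (mul_mem (mul_mem (zpow_mem ma _) (zpow_mem (inv_mem mb) _))
      (zpow_mem (mul_mem mc (zpow_mem mb _)) _)) (zpow_mem md _)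
  have nτ : ∀ d ∈ A, cj τ d ∈ A := by
    intro d hd
    obtain ⟨i, j, l, m, rfl⟩ := memA hd
    obtain ⟨o, ho⟩ := hgen _ (h.P_nor hτS hp0)
    have e1 : cj τ q = q ^ o := by
      rw [hq, cj_mul, ho, (Commute.refl p0).mul_zpow]
    rw [cj_mul, cj_mul, cj_mul, cj_zpow, cj_zpow, cj_zpow, cj_zpow, hkv1, hkv2, hkv3, e1]
    exact mul_mem (mul_mem (mul_mem (zpow_mem mb _) (zpow_mem ma _))
      (zpow_mem (inv_mem mc) _)) (zpow_mem (zpow_mem md _) _)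
  -- the chain
  have my1 : y1 ∈ A ⊔ closure {y1} := mem_sup_right (subset_closure rfl)
  have my2 : y2 ∈ (A ⊔ closure {y1}) ⊔ closure {y2} := mem_sup_right (subset_closure rfl)
  have g1 : ∀ {g : G}, g ∈ A ⊔ closure {y1} → g ∈ A ∨ ∃ d ∈ A, g = d * y1 := fun hg =>
    mem_sup2 ny1 (by rw [h.q1.ys]; exact mz) hg
  have ny2' : ∀ d ∈ A ⊔ closure {y1}, cj y2 d ∈ A ⊔ closure {y1} := by
    intro d hd
    rcases g1 hd with h1 | ⟨d', h1, rfl⟩
    · exact mem_sup_left (ny2 _ h1)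
    · rw [cj_mul, cj_eq_self h.yy.symm]
      exact mul_mem (mem_sup_left (ny2 _ h1)) my1
  have g2 : ∀ {g : G}, g ∈ (A ⊔ closure {y1}) ⊔ closure {y2} → g ∈ A ⊔ closure {y1} ∨
      ∃ d ∈ A ⊔ closure {y1}, g = d * y2 := fun hg =>
    mem_sup2 ny2' (by rw [h.q2.ys]; exact mem_sup_left mz) hg
  have le2 : A ≤ (A ⊔ closure {y1}) ⊔ closure {y2} := le_sup_left.trans le_sup_left
  have nτ1 : ∀ d ∈ A ⊔ closure {y1}, cj τ d ∈ (A ⊔ closure {y1}) ⊔ closure {y2} := by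
    intro d hd
    rcases g1 hd with h1 | ⟨d', h1, rfl⟩
    · exact le2 (nτ _ h1)
    · rw [cj_mul, T.b1]
      exact mul_mem (le2 (nτ _ h1)) (mul_mem (le2 (zpow_mem mb _)) my2)
  have nτ2 : ∀ d ∈ (A ⊔ closure {y1}) ⊔ closure {y2}, cj τ d ∈ (A ⊔ closure {y1}) ⊔ closure {y2} := by
    intro d hd
    rcases g2 hd with h1 | ⟨d', h1, rfl⟩
    · exact nτ1 _ h1
    · rw [cj_mul, T.b2]
      exact mul_mem (nτ1 _ h1) (mul_mem (le2 (zpow_mem ma _)) (mem_sup_left my1))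
  have g3 : ∀ {g : G}, g ∈ ((A ⊔ closure {y1}) ⊔ closure {y2}) ⊔ closure {τ} →
      g ∈ (A ⊔ closure {y1}) ⊔ closure {y2} ∨ ∃ d ∈ (A ⊔ closure {y1}) ⊔ closure {y2}, g = d * τ :=
    fun hg => mem_sup2 nτ2 (by rw [hkvv]; exact one_mem _) hg
  -- types
  have t0 : ∀ {g : G}, g ∈ A → ∃ j1 j2 : ℤ, Ns r1 y1 r2 y2 g 1 j1 1 j2 := by
    intro g hg
    obtain ⟨i, j, l, m, rfl⟩ := memA hg
    exact ⟨_, _, ns_mul (ns_mul (ns_mul (h.ns_r1 i) (h.ns_r2 j)) (ns_zpow N1 l)) (ns_zpow (h.nsP hqP) m)⟩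
  have t1 : ∀ {g : G}, g ∈ A ⊔ closure {y1} → ∃ u1 j1 j2 : ℤ, Ns r1 y1 r2 y2 g u1 j1 1 j2 := by
    intro g hg
    rcases g1 hg with h1 | ⟨d, h1, rfl⟩
    · obtain ⟨j1, j2, N⟩ := t0 h1
      exact ⟨_, _, _, N⟩
    · obtain ⟨j1, j2, N⟩ := t0 h1
      have := N.mul h.ns_y1
      rw [one_mul] at this
      exact ⟨_, _, _, by simpa using this⟩
  have t2 : ∀ {g : G}, g ∈ (A ⊔ closure {y1}) ⊔ closure {y2} →
      ∃ u1 j1 u2 j2 : ℤ, Ns r1 y1 r2 y2 g u1 j1 u2 j2 := by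
    intro g hg
    rcases g2 hg with h1 | ⟨d, h1, rfl⟩
    · obtain ⟨u1, j1, j2, N⟩ := t1 h1
      exact ⟨_, _, _, _, N⟩
    · obtain ⟨u1, j1, j2, N⟩ := t1 h1
      exact ⟨_, _, _, _, N.mul h.ns_y2⟩
  have hp0N := h.nsP hp0
  -- `p0 ∉ M`
  have hnot : p0 ∉ ((A ⊔ closure {y1}) ⊔ closure {y2}) ⊔ closure {τ} := by
    intro hmem
    rcases g3 hmem with h3 | ⟨d, h3, e3⟩
    swap
    · obtain ⟨u1, j1, u2, j2, N⟩ := t2 h3
      have := N.mul_sw T
      rw [← e3] at this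
      exact h.ns_not_sw hp0N this
    rcases g2 h3 with h2 | ⟨d, h2, e2⟩
    swap
    · obtain ⟨u1, j1, j2, N⟩ := t1 h2
      have := N.mul h.ns_y2
      rw [← e2, one_mul] at this
      exact h.symm.ns_u1 this.symm hp0N.symm
    rcases g1 h2 with h1 | ⟨d, h1, e1⟩
    swap
    · obtain ⟨j1, j2, N⟩ := t0 h1
      have := N.mul h.ns_y1
      rw [← e1, one_mul] at this
      exact h.ns_u1 this hp0N
    obtain ⟨i, j, l, m, e0⟩ := memA h1
    have N0 := ns_mul (ns_mul (ns_mul (h.ns_r1 i) (h.ns_r2 j)) (ns_zpow N1 l)) (ns_zpow (h.nsP hqP) m)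
    rw [← e0] at N0
    have h4 := ns_exp1 N0 hp0N
    have h5 := (h.q1.parity h4).2 ⟨0, by norm_num⟩
    have h6 : Even l := by
      have h7 : Even (l * d1) := by
        have : (2 * i + 0 + l * d1 + m * 0) = 2 * i + l * d1 := by ring
        rw [this, Int.even_add] at h5
        exact h5.1 ⟨i, by ring⟩
      rcases Int.even_mul.1 h7 with h8 | h8
      · exact h8
      · exact absurd h8 (Int.not_even_iff_odd.2 o1)
    obtain ⟨l', hl'⟩ := h6.two_dvd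
    -- `s1 ^ (2 l') = p ^ l' r1 ^ (d1 l') r2 ^ (d2 l')`
    have e5 : s1 ^ l = (s1 * s2) ^ l' * r1 ^ (d1 * l') * r2 ^ (d2 * l') := by
      have hpP : s1 * s2 ∈ P := by rw [he]; exact zpow_mem hp0 _
      have cp1 : Commute (s1 * s2) r1 := comm_of_cj (h.cP1 hpP)
      have cp2 : Commute (s1 * s2) r2 := comm_of_cj (h.cP3 hpP)
      rw [hl', zpow_mul, zpow_two, hlam, Commute.mul_zpow, Commute.mul_zpow, ← zpow_mul, ← zpow_mul]
      · exact cp1.zpow_right _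
      · exact (cp2.mul_left (c12.zpow_left _)).zpow_right _
    have e6 : r1 ^ (i + d1 * l') * r2 ^ (j + d2 * l') = p0 * q ^ (-m) * (s1 * s2) ^ (-l') := by
      have hpP : s1 * s2 ∈ P := by rw [he]; exact zpow_mem hp0 _
      have cp1 : Commute ((s1 * s2) ^ l') (r1 ^ (i + d1 * l') * r2 ^ (j + d2 * l')) :=
        (((comm_of_cj (h.cP1 hpP)).zpow_right _).mul_right
          ((comm_of_cj (h.cP3 hpP)).zpow_right _)).zpow_left _
      have e7 : p0 = r1 ^ (i + d1 * l') * r2 ^ (j + d2 * l') * (s1 * s2) ^ l' * q ^ m := by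
        conv_lhs => rw [e0, e5]
        have cp2 : Commute (r2 ^ j) ((s1 * s2) ^ l' * r1 ^ (d1 * l')) :=
          (((comm_of_cj (h.cP3 hpP)).zpow_right _).zpow_left _).symm.mul_right
            (c12.symm.zpow_zpow _ _)
        have cp3 : Commute (r1 ^ i) ((s1 * s2) ^ l') :=
          ((comm_of_cj (h.cP1 hpP)).zpow_right _).zpow_left _ |>.symm
        calc r1 ^ i * r2 ^ j * ((s1 * s2) ^ l' * r1 ^ (d1 * l') * r2 ^ (d2 * l')) * q ^ m
            = r1 ^ i * (r2 ^ j * ((s1 * s2) ^ l' * r1 ^ (d1 * l'))) * r2 ^ (d2 * l') * q ^ m := by group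
          _ = (r1 ^ i * (s1 * s2) ^ l') * (r1 ^ (d1 * l') * (r2 ^ j * r2 ^ (d2 * l'))) * q ^ m := by
              rw [cp2.eq]; group
          _ = (s1 * s2) ^ l' * (r1 ^ (i + d1 * l') * r2 ^ (j + d2 * l')) * q ^ m := by
              rw [cp3.eq, zpow_add r1, zpow_add r2]; group
          _ = _ := by rw [cp1.eq]
      conv_rhs => rw [e7]
      have cqp : Commute (q ^ m) ((s1 * s2) ^ l') :=
        ((h.P_comm hqP hpP).zpow_zpow m l')
      calc r1 ^ (i + d1 * l') * r2 ^ (j + d2 * l') =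
          r1 ^ (i + d1 * l') * r2 ^ (j + d2 * l') * ((s1 * s2) ^ l' * (s1 * s2) ^ (-l')) := by
            rw [← zpow_add, add_neg_cancel, zpow_zero, mul_one]
        _ = r1 ^ (i + d1 * l') * r2 ^ (j + d2 * l') * (s1 * s2) ^ l' * (q ^ m * q ^ (-m)) *
            (s1 * s2) ^ (-l') := by
            rw [← zpow_add q, add_neg_cancel, zpow_zero, mul_one]; group
        _ = _ := by group
    have hpP : s1 * s2 ∈ P := by rw [he]; exact zpow_mem hp0 _
    have h7 : r1 ^ (i + d1 * l') * r2 ^ (j + d2 * l') ∈ P := by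
      rw [e6]; exact mul_mem (mul_mem hp0 (zpow_mem hqP _)) (zpow_mem hpP _)
    have hzq : z ∈ zpowers q := by
      rw [← hppow, he, qpow, ← zpow_natCast, ← zpow_mul]
      exact zpow_mem (mem_zpowers q) _
    have hpq : s1 * s2 ∈ zpowers q := by
      rw [he, qpow]
      exact zpow_mem (mem_zpowers q) _
    have h8 : r1 ^ (i + d1 * l') * r2 ^ (j + d2 * l') ∈ zpowers q := by
      apply mul_mem
      · rcases h.P_rr h7 with h9 | h9 <;> rw [h9]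
        exacts [one_mem _, hzq]
      · rcases h.P_rr' h7 with h9 | h9 <;> rw [h9]
        exacts [one_mem _, hzq]
    have h9 : p0 ∈ zpowers q := by
      have e8 : p0 = r1 ^ (i + d1 * l') * r2 ^ (j + d2 * l') * (s1 * s2) ^ l' * q ^ m := by
        rw [e6]
        have cqp : Commute (q ^ (-m)) ((s1 * s2) ^ (-l')) := (h.P_comm hqP hpP).zpow_zpow _ _
        calc p0 = p0 * (q ^ (-m) * q ^ m) := by rw [← zpow_add, neg_add_cancel, zpow_zero, mul_one]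
          _ = p0 * q ^ (-m) * ((s1 * s2) ^ (-l') * (s1 * s2) ^ l') * q ^ m := by
              rw [← zpow_add (s1 * s2), neg_add_cancel, zpow_zero]; group
          _ = _ := by group
      rw [e8]
      exact mul_mem (mul_mem h8 (zpow_mem hpq _)) (zpow_mem (mem_zpowers q) _)
    obtain ⟨m', hm'⟩ := mem_zpowers_iff.1 h9
    rw [← qpow] at hm'
    have h10 : p0 ^ (2 * m' - 1) = 1 := by
      rw [zpow_sub, hm', zpow_one, mul_inv_cancel]
    obtain ⟨K, hK⟩ := h.two ⟨p0, h.P_le hp0⟩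
    have hK' : p0 ^ (2 ^ K) = 1 := by
      have := congrArg Subtype.val hK
      simpa using this
    have h11 : (orderOf p0 : ℤ) ∣ 2 * m' - 1 := orderOf_dvd_iff_zpow_eq_one.2 h10
    have h12 : orderOf p0 ∣ 2 ^ K := orderOf_dvd_of_pow_eq_one hK'
    have h13 : p0 = 1 := by
      obtain ⟨a, _, ha⟩ := (Nat.dvd_prime_pow Nat.prime_two).1 h12
      rcases Nat.eq_zero_or_pos a with ha0 | ha0
      · rw [← orderOf_eq_one_iff, ha, ha0, pow_zero]
      · exfalso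
        have h14 : (2 : ℤ) ∣ 2 * m' - 1 := by
          refine Dvd.dvd.trans ?_ h11
          rw [ha]
          exact_mod_cast dvd_pow_self 2 (by omega)
        omega
    obtain ⟨i', hi'⟩ := hgen z h.zP
    rw [h13, one_zpow] at hi'
    exact h.q1.z_ne hi'
  set M := ((A ⊔ closure {y1}) ⊔ closure {y2}) ⊔ closure {τ} with hM
  have leA : A ≤ M := le2.trans le_sup_left
  have m1 : y1 ∈ M := mem_sup_left (mem_sup_left my1)
  have m2 : y2 ∈ M := mem_sup_left my2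
  have mτ : τ ∈ M := mem_sup_right (subset_closure rfl)
  have hMS : M ≤ S := by
    refine sup_le (sup_le (sup_le ?_ ?_) ?_) ?_
    · intro g hg
      obtain ⟨i, j, l, m, rfl⟩ := memA hg
      exact mul_mem (mul_mem (mul_mem (zpow_mem h.h1 _) (zpow_mem h.h3 _)) (zpow_mem hs1S _))
        (zpow_mem (h.P_le hqP) _)
    · rw [closure_le]; rintro _ rfl; exact h.h2
    · rw [closure_le]; rintro _ rfl; exact h.h4
    · rw [closure_le]; rintro _ rfl; exact hτS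
  have hdec' : ∀ {b : G}, b ∈ S → (b ∈ M ∨ p0⁻¹ * b ∈ M) := by
    intro b hb
    obtain ⟨π, hπ, m, hm, rfl⟩ := hdec (leA ma) m1 (leA mb) m2 (leA mc) mτ hb
    obtain ⟨i, rfl⟩ := hgen π hπ
    rcases Int.even_or_odd' i with ⟨j, rfl | rfl⟩
    · left
      rw [qpow]
      exact mul_mem (zpow_mem (leA md) _) hm
    · right
      rw [← mul_assoc, add_comm, zpow_add, zpow_one, inv_mul_cancel_left, qpow]
      exact mul_mem (zpow_mem (leA md) _) hm
  refine ⟨M, hMS, ?_, ?_, leA mc, ?_, mτ, ?_, hnot⟩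
  · rw [relIndex, index_eq_two_iff']
    refine ⟨⟨p0, h.P_le hp0⟩⁻¹, fun b => ?_⟩
    rw [mem_subgroupOf, mem_subgroupOf]
    change Xor (p0⁻¹ * (b : G) ∈ M) ((b : G) ∈ M)
    rcases hdec' b.2 with h1 | h1
    · right
      refine ⟨h1, fun h2 => hnot ?_⟩
      have := mul_mem h1 (inv_mem h2)
      rwa [mul_inv_rev, inv_inv, mul_inv_cancel_left] at this
    · left
      refine ⟨h1, fun h2 => hnot ?_⟩
      have := mul_mem h2 (inv_mem h1)
      rwa [mul_inv_rev, inv_inv, mul_inv_cancel_left] at this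
  · unfold RR
    refine sup_le ?_ ?_ <;> rw [closure_le] <;> rintro w (rfl | rfl)
    exacts [leA ma, m1, leA mb, m2]
  · have e1 : s2 = s1⁻¹ * p0 ^ (2 * e) := by rw [← he]; group
    rw [e1, qpow]
    exact mul_mem (inv_mem (leA mc)) (zpow_mem (leA md) _)
  · -- `ρ ∈ M`
    obtain ⟨c, hc, e1⟩ := hρ1
    have h1 : ρ ^ c ∈ M := by
      have e2 : ρ ^ c = s1⁻¹ * r1 := by rw [e1, mul_inv_rev, zpow_neg, inv_inv]; group
      rw [e2]
      exact mul_mem (inv_mem (leA mc)) (leA ma)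
    obtain ⟨K, hK⟩ := h.two ⟨ρ, hρS⟩
    have hK' : ρ ^ ((2 : ℤ) ^ K) = 1 := by
      have := congrArg Subtype.val hK
      have h2 : ρ ^ (2 ^ K) = 1 := by simpa using this
      rw [← zpow_natCast] at h2
      simpa using h2
    have hcop : IsCoprime ((2 : ℤ) ^ K) c := by
      obtain ⟨c', rfl⟩ := hc
      exact isCoprime_two_pow K c'
    obtain ⟨u, v, huv⟩ := hcop
    have e3 : ρ = (ρ ^ c) ^ v := by
      have : ρ ^ (u * 2 ^ K + v * c) = ρ := by rw [huv, zpow_one]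
      rw [zpow_add, mul_comm u, zpow_mul, hK', one_zpow, one_mul, mul_comm v, zpow_mul] at this
      exact this.symm
    rw [e3]
    exact zpow_mem h1 _

end Rf

end Cfsg.Agent.Cit.TwoSyl
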