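import Cfsg.Agent.Cit.TwoSyl.Hh

/-!
# R18, D5b, section 1 continued: `P₂ ≤ C_S(r1, r2)`, `s_i = k r_i k⁻¹`
-/

set_option autoImplicit false

namespace Cfsg.Agent.Cit.TwoSyl

open Subgroup Cfsg.Agent.GH.Q2

variable {G : Type*} [Group G]

theorem commute_cj {k a b : G} (h : Commute a b) : Commute (cj k a) (cj k b) := by
  change cj k a * cj k b = cj k b * cj k a
  rw [← cj_mul, ← cj_mul, h.eq]

theorem commute_cj_iff {k a b : G} : Commute (cj k a) (cj k b) ↔ Commute a b := by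
  refine ⟨fun h => ?_, commute_cj⟩
  have := commute_cj (k := k⁻¹) h
  rwa [cj_inv_cj, cj_inv_cj] at this

/-- the hypothesis (fP): `C(z)` controls `P`. -/
def FP (S P : Subgroup G) (z : G) : Prop :=
  ∀ c x : G, cj c z = z → x ∈ P → cj c x ∈ S → cj c x ∈ P

namespace Sp

variable {S P : Subgroup G} {z r1 y1 r2 y2 a a' s x g k : G} {n : ℕ} {b1 b2 c1 c2 u1 j1 u2 j2 : ℤ}

/-! ### basic facts on `k` -/

theorem al_z (_ : Sp S P z r1 y1 r2 y2 n) (al : Al S z (te r1 r2 n) k) : cj k z = te r1 r2 n := al.hz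

theorem al_t (_ : Sp S P z r1 y1 r2 y2 n) (al : Al S z (te r1 r2 n) k) : cj k (te r1 r2 n) = z := al.ht

theorem al_tz (h : Sp S P z r1 y1 r2 y2 n) (al : Al S z (te r1 r2 n) k) :
    cj k (te r1 r2 n * z) = te r1 r2 n * z := by
  rw [cj_mul, al.ht, al.hz, h.tz]

theorem al_nor (h : Sp S P z r1 y1 r2 y2 n) (al : Al S z (te r1 r2 n) k) {w : G} (hw : w ∈ S)
    (hwt : Commute w (te r1 r2 n)) : cj k w ∈ S ∧ Commute (cj k w) (te r1 r2 n) :=
  ⟨al.nor w hw hwt, al.comm (h.zc hw)⟩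

/-- `P₂ = k P k⁻¹` as a predicate. -/
theorem p2_pow {g : G} {P : Subgroup G} {k : G} (hg : cj k⁻¹ g ∈ P) (i : ℤ) : cj k⁻¹ (g ^ i) ∈ P := by
  rw [cj_zpow]; exact zpow_mem hg i

theorem p2_mul {g g' : G} {P : Subgroup G} {k : G} (hg : cj k⁻¹ g ∈ P) (hg' : cj k⁻¹ g' ∈ P) :
    cj k⁻¹ (g * g') ∈ P := by
  rw [cj_mul]; exact mul_mem hg hg'

theorem p2_inv {g : G} {P : Subgroup G} {k : G} (hg : cj k⁻¹ g ∈ P) : cj k⁻¹ g⁻¹ ∈ P := by
  rw [cj_inv]; exact inv_mem hg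

theorem p2_of {x : G} {P : Subgroup G} {k : G} (hx : x ∈ P) : cj k⁻¹ (cj k x) ∈ P := by
  rw [cj_inv_cj]; exact hx

theorem p2_z (h : Sp S P z r1 y1 r2 y2 n) (al : Al S z (te r1 r2 n) k) : cj k⁻¹ z ∉ P := by
  rw [al.inv.hz]; exact h.t_notP

theorem p2_tz (h : Sp S P z r1 y1 r2 y2 n) (al : Al S z (te r1 r2 n) k) :
    cj k⁻¹ (te r1 r2 n * z) ∉ P := by
  rw [cj_mul, al.inv.ht, al.inv.hz, ← h.tz]; exact h.tz_notP

theorem p2_mem (h : Sp S P z r1 y1 r2 y2 n) (al : Al S z (te r1 r2 n) k) (hg : cj k⁻¹ g ∈ P) :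
    g ∈ S ∧ Commute g (te r1 r2 n) := by
  have := h.al_nor al (h.P_le hg) (h.ct_P hg)
  rwa [cj_cj_inv] at this

/-- `P ∩ P₂ = 1`. -/
theorem p2_inf (h : Sp S P z r1 y1 r2 y2 n) (al : Al S z (te r1 r2 n) k) (hg : g ∈ P)
    (hg' : cj k⁻¹ g ∈ P) : g = 1 := by
  by_contra h1
  obtain ⟨i, hi⟩ := h.P_zpow hg h1
  apply h.p2_z al
  rw [← hi]
  exact p2_pow hg' i

theorem p2_swap (h : Sp S P z r1 y1 r2 y2 n) (al : Al S z (te r1 r2 n) k) (hg : cj k⁻¹ g ∈ P) :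
    cj k g ∈ P := by
  have e : cj k g = cj (k * k) (cj k⁻¹ g) := by rw [cj_mul_left, cj_cj_inv]
  rw [e]
  exact h.P_nor al.hh hg

theorem p2_swap' (h : Sp S P z r1 y1 r2 y2 n) (al : Al S z (te r1 r2 n) k) (hg : cj k g ∈ P) :
    cj k⁻¹ g ∈ P := by
  have := h.p2_swap al.inv (g := g) (by rwa [inv_inv])
  exact this

/-- `P₂` is normal in `C_S(t)`. -/
theorem p2_nor (h : Sp S P z r1 y1 r2 y2 n) (al : Al S z (te r1 r2 n) k) {w : G} (hw : w ∈ S)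
    (hwt : Commute w (te r1 r2 n)) (hg : cj k⁻¹ g ∈ P) : cj k⁻¹ (cj w g) ∈ P := by
  rw [← cj_cj]
  exact h.P_nor (h.al_nor al.inv hw hwt).1 hg

/-- `[P, P₂] = 1`. -/
theorem comm12 (h : Sp S P z r1 y1 r2 y2 n) (al : Al S z (te r1 r2 n) k) (hx : x ∈ P)
    (hg : cj k⁻¹ g ∈ P) : Commute x g := by
  have hgS := h.p2_mem al hg
  have e1 : cj x g * g⁻¹ = x * cj g x⁻¹ := by simp [cj, mul_assoc]
  have h1 : cj x g * g⁻¹ ∈ P := by
    rw [e1]
    exact mul_mem hx (h.P_nor hgS.1 (inv_mem hx))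
  have h2 : cj k⁻¹ (cj x g * g⁻¹) ∈ P :=
    p2_mul (h.p2_nor al (h.P_le hx) (h.ct_P hx) hg) (p2_inv hg)
  have h3 := h.p2_inf al h1 h2
  rw [mul_inv_eq_one] at h3
  exact comm_of_cj h3

/-- elements of `C(z)` normalizing `C_S(t)` normalize `P`. -/
theorem p_canon (h : Sp S P z r1 y1 r2 y2 n) (hf : FP S P z) {c : G} (hc : cj c z = z)
    (hn : ∀ w ∈ S, Commute w (te r1 r2 n) → cj c w ∈ S) (hx : x ∈ P) : cj c x ∈ P :=
  hf c x hc hx (hn x (h.P_le hx) (h.ct_P hx))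

theorem p3_inv (h : Sp S P z r1 y1 r2 y2 n) (hf : FP S P z) (al : Al S z (te r1 r2 n) k)
    (hg : cj (y1 * k)⁻¹ g ∈ P) : cj (y1 * k)⁻¹ (cj k⁻¹ g) ∈ P := by
  have e : cj (y1 * k)⁻¹ (cj k⁻¹ g) = cj ((y1 * k)⁻¹ * (k⁻¹ * (y1 * k))) (cj (y1 * k)⁻¹ g) := by
    rw [cj_mul_left, cj_mul_left, cj_cj_inv]
  have e1 : cj (y1 * k) z = te r1 r2 n * z := by rw [cj_mul_left, al.hz, h.cj_t_y1]
  have e2 : cj k⁻¹ (te r1 r2 n * z) = te r1 r2 n * z := h.al_tz al.inv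
  rw [e]
  refine h.p_canon hf ?_ ?_ hg
  · rw [cj_mul_left, cj_mul_left, e1, e2, ← e1, cj_inv_cj]
  · intro w hw hwt
    have h1 := h.al_nor al hw hwt
    have h2 := h.nor_y1 h1.1 h1.2
    have h3 := h.al_nor al.inv h2.1 h2.2
    have h4 := h.nor_y1' h3.1 h3.2
    have h5 := h.al_nor al.inv h4.1 h4.2
    have e3 : cj ((y1 * k)⁻¹ * (k⁻¹ * (y1 * k))) w = cj k⁻¹ (cj y1⁻¹ (cj k⁻¹ (cj y1 (cj k w)))) := by
      simp only [← cj_mul_left]
      congr 1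
      group
    rw [e3]
    exact h5.1

/-- `[P₂, P₃] = 1`. -/
theorem comm23 (h : Sp S P z r1 y1 r2 y2 n) (hf : FP S P z) (al : Al S z (te r1 r2 n) k) {g' : G}
    (hg : cj k⁻¹ g ∈ P) (hg' : cj (y1 * k)⁻¹ g' ∈ P) : Commute g g' := by
  rw [← commute_cj_iff (k := k⁻¹)]
  have h1 := h.p3_inv hf al hg'
  rw [← commute_cj_iff (k := y1⁻¹)]
  have h2 : cj y1⁻¹ (cj k⁻¹ g) = cj k⁻¹ g := by
    rw [eq_comm, ← cj_eq_iff]
    exact cj_eq_self' (comm_of_cj (h.cP2 hg)).symm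
  rw [h2]
  apply h.comm12 al hg
  rw [← cj_mul_left, ← mul_inv_rev]
  exact h1

/-- `P₂ ∩ P₃ = 1`. -/
theorem inf23 (h : Sp S P z r1 y1 r2 y2 n) (al : Al S z (te r1 r2 n) k)
    (hg : cj k⁻¹ g ∈ P) (hg' : cj (y1 * k)⁻¹ g ∈ P) : g = 1 := by
  by_contra h1
  obtain ⟨i, hi⟩ := h.P_zpow hg' (cj_ne_one h1)
  rw [← cj_zpow] at hi
  have h2 : g ^ i = te r1 r2 n * z := by
    have := congrArg (cj (y1 * k)) hi
    rw [cj_cj_inv, cj_mul_left, al.hz, h.cj_t_y1] at this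
    exact this
  apply h.p2_tz al
  rw [← h2]
  exact p2_pow hg i

theorem pm_eq_ns (h : Sp S P z r1 y1 r2 y2 n) (N : Ns r1 y1 r2 y2 s u1 j1 u2 j2) (p1 : Pm u1)
    (p2 : Pm u2) (ht : Commute s (te r1 r2 n)) : u1 = u2 := by
  have h1 := cj_eq_self' ht
  unfold te at h1
  rw [cj_mul, cj_pow, cj_pow, N.a1, N.a2] at h1
  have zr2 : z * r2 ^ (2 ^ n) = r2 ^ (2 ^ n) * z :=
    (Commute.pow_right (show Commute z r2 from h.q2.zr) _)
  rcases p1 with rfl | rfl <;> rcases p2 with rfl | rfl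
  · rfl
  · exfalso
    rw [zpow_one, zpow_neg_one, inv_pow, h.q2.a_inv, ← mul_assoc, mul_eq_left] at h1
    exact h.q1.z_ne h1
  · exfalso
    rw [zpow_one, zpow_neg_one, inv_pow, h.q1.a_inv, mul_assoc, zr2, ← mul_assoc, mul_eq_left] at h1
    exact h.q1.z_ne h1
  · rfl

theorem pm_eq_sw (h : Sp S P z r1 y1 r2 y2 n) (N : Sw r1 y1 r2 y2 s u1 j1 u2 j2) (p1 : Pm u1)
    (p2 : Pm u2) (ht : Commute s (te r1 r2 n)) : u1 = u2 := by
  have h1 := cj_eq_self' ht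
  unfold te at h1
  have zr1 : z * r1 ^ (2 ^ n) = r1 ^ (2 ^ n) * z :=
    (Commute.pow_right (show Commute z r1 from h.q1.zr) _)
  have hcomm : r1 ^ (2 ^ n) * r2 ^ (2 ^ n) = r2 ^ (2 ^ n) * r1 ^ (2 ^ n) := Sd.t_comm h.toCo
  rw [cj_mul, cj_pow, cj_pow, N.a1, N.a2, hcomm] at h1
  rcases p1 with rfl | rfl <;> rcases p2 with rfl | rfl
  · rfl
  · exfalso
    rw [zpow_one, zpow_neg_one, inv_pow, h.q1.a_inv, ← mul_assoc, mul_eq_left] at h1
    exact h.q1.z_ne h1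
  · exfalso
    rw [zpow_one, zpow_neg_one, inv_pow, h.q2.a_inv, mul_assoc, zr1, ← mul_assoc, mul_eq_left] at h1
    exact h.q1.z_ne h1
  · rfl

theorem ns_not_sw (h : Sp S P z r1 y1 r2 y2 n) (N : Ns r1 y1 r2 y2 s u1 j1 u2 j2) {v1 k1 v2 k2 : ℤ}
    (N' : Sw r1 y1 r2 y2 s v1 k1 v2 k2) : False := N.not_sw N' h.toCo

theorem ns_u1 (h : Sp S P z r1 y1 r2 y2 n) {k1 v2 k2 : ℤ} (N : Ns r1 y1 r2 y2 s (-1) j1 u2 j2)
    (N' : Ns r1 y1 r2 y2 s 1 k1 v2 k2) : False := by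
  have := N.a1.symm.trans N'.a1
  rw [zpow_one, zpow_neg_one] at this
  exact h.q1.r_ne_inv this.symm

/-- an element of `P₂` (or `P`) of square one is `1` or `t`. -/
theorem p2_invol (h : Sp S P z r1 y1 r2 y2 n) (al : Al S z (te r1 r2 n) k) (hg : cj k⁻¹ g ∈ P)
    (hgg : g * g = 1) : g = 1 ∨ g = te r1 r2 n := by
  rcases h.P_invol hg (by rw [← cj_mul, hgg, cj_one]) with h1 | h1
  · left
    by_contra h2
    exact cj_ne_one h2 h1
  · right
    have := congrArg (cj k) h1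
    rwa [cj_cj_inv, al.hz] at this

/-- (1.3) `P₂ ≤ C_S(r1, r2)`. -/
theorem p2_ns (h : Sp S P z r1 y1 r2 y2 n) (hf : FP S P z) (al : Al S z (te r1 r2 n) k)
    (hg : cj k⁻¹ g ∈ P) : ∃ b1 b2 : ℤ, Ns r1 y1 r2 y2 g 1 b1 1 b2 := by
  obtain ⟨hgS, hgt⟩ := h.p2_mem al hg
  have hsq : g * g = 1 → ∃ b1 b2 : ℤ, Ns r1 y1 r2 y2 g 1 b1 1 b2 := by
    intro hgg
    rcases h.p2_invol al hg hgg with h1 | h1
    · rw [h1]; exact ⟨0, 0, Ns.one⟩
    · rw [h1]; exact ⟨_, _, h.ns_t⟩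
  rcases h.act g hgS with ⟨u1, j1, u2, j2, p1, p2, N⟩ | ⟨u1, j1, u2, j2, p1, p2, N⟩
  · have e := h.pm_eq_ns N p1 p2 hgt
    subst e
    rcases p1 with rfl | rfl
    · exact ⟨_, _, N⟩
    · exact hsq (h.p2_inf al (h.sq_mem hgS N) (p2_mul hg hg))
  · -- swap
    apply hsq
    have hg3 : cj (y1 * k)⁻¹ (cj y1 g) ∈ P := by
      rw [mul_inv_rev, cj_mul_left, cj_inv_cj]
      exact hg
    have hc := h.comm23 hf al hg hg3
    -- `cj g⁻¹ y1 = r2 ^ i * y2`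
    have e1 : cj g⁻¹ r1 = r2 ^ u2 := by
      rw [eq_comm, ← cj_eq_iff, cj_zpow, N.a2, ← zpow_mul]
      rcases p2 with rfl | rfl <;> norm_num
    have e2 : cj g⁻¹ y1 = r2 ^ (-(u2 * j2)) * y2 := by
      have h1 : y1 = r1 ^ (-j2) * cj g y2 := by
        rw [N.b2, ← mul_assoc, ← zpow_add, neg_add_cancel, zpow_zero, one_mul]
      rw [h1, cj_mul, cj_inv_cj, cj_zpow, e1, ← zpow_mul]
      congr 2
      ring
    set q := r2 ^ (-(u2 * j2)) * y2 with hq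
    have hqq : q * q = z := h.q2.ry_sq _
    have hqy : Commute q y1 :=
      (((show Commute y1 r2 from h.yr).zpow_right _).mul_right (show Commute y1 y2 from h.yy)).symm
    have hw : g⁻¹ * cj y1 g = q * y1⁻¹ := by
      rw [← e2]; simp [cj, mul_assoc]
    have h2 : (g⁻¹ * cj y1 g) * (g⁻¹ * cj y1 g) = 1 := by
      rw [hw]
      calc (q * y1⁻¹) * (q * y1⁻¹) = q * (y1⁻¹ * q) * y1⁻¹ := by group
        _ = (q * q) * (y1⁻¹ * y1⁻¹) := by rw [(hqy.inv_right).symm.eq]; group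
        _ = 1 := by rw [hqq, ← mul_inv_rev, h.q1.ys, mul_inv_cancel]
    have h3 : g * g = cj y1 g * cj y1 g := by
      have h4 : (g⁻¹ * cj y1 g) * (g⁻¹ * cj y1 g) = (g * g)⁻¹ * (cj y1 g * cj y1 g) := by
        calc (g⁻¹ * cj y1 g) * (g⁻¹ * cj y1 g) = g⁻¹ * (cj y1 g * g⁻¹) * cj y1 g := by group
          _ = (g * g)⁻¹ * (cj y1 g * cj y1 g) := by rw [(hc.inv_left).symm.eq]; group
      rw [h4, inv_mul_eq_one] at h2
      exact h2
    refine h.inf23 al (p2_mul hg hg) ?_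
    rw [h3, cj_mul]
    exact mul_mem hg3 hg3

/-- (1.4): `v1` inverts the elements of `P₂` of square `t`. -/
theorem v_inverts (h : Sp S P z r1 y1 r2 y2 n) (hf : FP S P z) (al : Al S z (te r1 r2 n) k)
    (hg : cj k⁻¹ g ∈ P) (hgg : g * g = te r1 r2 n) : cj (y1 * y2) g = g⁻¹ := by
  obtain ⟨b1, b2, N⟩ := h.p2_ns hf al hg
  have h1 := ns_mul N N
  rw [hgg] at h1
  have e1 := ns_exp1 h1 h.ns_t
  have e2 := ns_exp2 h1 h.ns_t
  rw [h.q1.rzp, ← two_mul] at e1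
  rw [h.q2.rzp, ← two_mul] at e2
  have hv := h.cj_v_of N
  have hq : cj k⁻¹ (r1 ^ (-b1) * r2 ^ (-b2)) ∈ P := by
    have h2 : r1 ^ (-b1) * r2 ^ (-b2) = g⁻¹ * cj (y1 * y2) g := by rw [hv]; group
    rw [h2]
    exact p2_mul (p2_inv hg) (h.p2_nor al h.v_mem h.ct_v hg)
  have f1 : r1 ^ (-b1) = r1 ^ (2 ^ n) ∨ r1 ^ (-b1) = r1 ^ (2 ^ n) * z := by
    apply h.q1.sqrtz
    rw [mul_neg, zpow_neg, e1, h.q1.zz]
  have f2 : r2 ^ (-b2) = r2 ^ (2 ^ n) ∨ r2 ^ (-b2) = r2 ^ (2 ^ n) * z := by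
    apply h.q2.sqrtz
    rw [mul_neg, zpow_neg, e2, h.q2.zz]
  have zr2 : z * r2 ^ (2 ^ n) = r2 ^ (2 ^ n) * z :=
    (Commute.pow_right (show Commute z r2 from h.q2.zr) _)
  have hq' : r1 ^ (-b1) * r2 ^ (-b2) = te r1 r2 n := by
    have : r1 ^ (-b1) * r2 ^ (-b2) = te r1 r2 n ∨ r1 ^ (-b1) * r2 ^ (-b2) = te r1 r2 n * z := by
      unfold te
      rcases f1 with f1 | f1 <;> rcases f2 with f2 | f2 <;> rw [f1, f2]
      · left; rfl
      · right; rw [mul_assoc]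
      · right; rw [mul_assoc, zr2, mul_assoc]
      · left; rw [mul_assoc, ← mul_assoc z, zr2, mul_assoc, h.zz, mul_one]
    rcases this with h3 | h3
    · exact h3
    · exfalso
      rw [h3] at hq
      exact h.p2_tz al hq
  rw [hv, mul_assoc, hq', eq_inv_iff_mul_eq_one, mul_assoc, (h.p2_mem al hg).2.symm.eq, ← mul_assoc,
    hgg, h.tt]

/-! ### `s1 = k r1 k⁻¹` -/

theorem s1_mem (h : Sp S P z r1 y1 r2 y2 n) (al : Al S z (te r1 r2 n) k) :
    cj k r1 ∈ S ∧ Commute (cj k r1) (te r1 r2 n) := h.al_nor al h.h1 h.ct_r1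

theorem s1_P (h : Sp S P z r1 y1 r2 y2 n) (hf : FP S P z) (al : Al S z (te r1 r2 n) k) (hx : x ∈ P) :
    Commute (cj k r1) x := by
  have hx' : cj k⁻¹ (cj k⁻¹ x) ∈ P := h.p2_swap' al (by rwa [cj_cj_inv])
  obtain ⟨b1, b2, N⟩ := h.p2_ns hf al hx'
  have h1 := N.a1
  rw [zpow_one] at h1
  have h2 := commute_cj (k := k) (comm_of_cj h1)
  rw [cj_cj_inv] at h2
  exact h2.symm

/-- `C_S(t)` permutes `s1^{±1}, s2^{±1}`. -/
theorem act_s (h : Sp S P z r1 y1 r2 y2 n) (al : Al S z (te r1 r2 n) k) {w : G} (hw : w ∈ S)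
    (hwt : Commute w (te r1 r2 n)) : cj w (cj k r1) = cj k r1 ∨ cj w (cj k r1) = (cj k r1)⁻¹ ∨
      cj w (cj k r1) = cj k r2 ∨ cj w (cj k r1) = (cj k r2)⁻¹ := by
  have h1 := (h.al_nor al.inv hw hwt).1
  have e : cj w (cj k r1) = cj k (cj (cj k⁻¹ w) r1) := by
    rw [← cj_cj k (cj k⁻¹ w) r1, cj_cj_inv]
  rcases h.act _ h1 with ⟨u1, j1, u2, j2, p1, p2, N⟩ | ⟨u1, j1, u2, j2, p1, p2, N⟩
  · rw [e, N.a1]
    rcases p1 with rfl | rfl
    · left; rw [zpow_one]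
    · right; left; rw [zpow_neg_one, cj_inv]
  · rw [e, N.a1]
    rcases p1 with rfl | rfl
    · right; right; left; rw [zpow_one]
    · right; right; right; rw [zpow_neg_one, cj_inv]

theorem s_comm (h : Sp S P z r1 y1 r2 y2 n) : Commute (cj k r1) (cj k r2) :=
  commute_cj (show Commute r1 r2 from h.rr)

theorem s1_ns (h : Sp S P z r1 y1 r2 y2 n) (hf : FP S P z) (al : Al S z (te r1 r2 n) k) :
    ∃ b1 b2 : ℤ, Ns r1 y1 r2 y2 (cj k r1) 1 b1 1 b2 := by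
  obtain ⟨hs, hst⟩ := h.s1_mem al
  rcases h.act _ hs with ⟨u1, j1, u2, j2, p1, p2, N⟩ | ⟨u1, j1, u2, j2, p1, p2, N⟩
  · have e := h.pm_eq_ns N p1 p2 hst
    subst e
    rcases p1 with rfl | rfl
    · exact ⟨_, _, N⟩
    · exfalso
      have h1 := h.sq_mem hs N
      apply h.t_notP
      have h2 : (cj k r1 * cj k r1) ^ (2 ^ n) = te r1 r2 n := by
        rw [← cj_mul, ← cj_pow, ← pow_two, ← pow_mul, ← pow_succ', h.q1.rp, al.hz]
      rw [← h2]
      exact pow_mem h1 _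
  · exfalso
    have e := h.pm_eq_sw N p1 p2 hst
    subst e
    have hu : u1 * u1 = 1 := by rcases p1 with rfl | rfl <;> norm_num
    rcases Nat.eq_zero_or_pos n with hn | hn
    · -- n = 0
      subst hn
      obtain ⟨p, hp, hpp⟩ := h.four
      set x4 := cj k p with hx4
      have hx4P : cj k⁻¹ x4 ∈ P := p2_of hp
      have hx44 : x4 * x4 = te r1 r2 0 := by rw [hx4, ← cj_mul, hpp, al.hz]
      obtain ⟨β1, β2, Nx⟩ := h.p2_ns hf al hx4P
      have hxS := h.p2_mem al hx4P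
      have hβ : Odd β1 := by
        have h1 := ns_mul Nx Nx
        rw [hx44] at h1
        have e1 := ns_exp1 h1 h.ns_t
        rw [h.q1.rzp, ← two_mul, zpow_mul] at e1
        have e2 : r1 ^ (2 : ℤ) = z := by have := h.q1.rzp; simpa using this
        rw [e2] at e1
        rcases h.q1.z_cases β1 with ⟨h3, _⟩ | ⟨_, h4⟩
        · rw [h3] at e1; exact absurd e1.symm h.q1.z_ne
        · exact h4
      -- `v2 = cj k (y1 * y2)` inverts `p' = cj k x4 ∈ P`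
      have hvx := h.v_inverts hf al hx4P hx44
      set v2 := cj k (y1 * y2) with hv2
      set p' := cj k x4 with hp'
      have hp'P : p' ∈ P := h.p2_swap al hx4P
      have hv2p : cj v2 p' = p'⁻¹ := by
        rw [hv2, hp', cj_cj, hvx, cj_inv]
      have hp'p : p' * p' = z := by rw [hp', ← cj_mul, hx44, al.ht]
      have hp'ne : p' ≠ p'⁻¹ := by
        intro e
        rw [eq_inv_iff_mul_eq_one, hp'p] at e
        exact h.q1.z_ne e
      obtain ⟨hv2S, hv2t⟩ := h.al_nor al h.v_mem h.ct_v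
      have hs1P := h.s1_P hf al hp'P
      -- a nonswap element inverting `p'`
      have hw : ∃ w ∈ S, Commute w (te r1 r2 0) ∧ cj w p' = p'⁻¹ ∧
          ∃ u b1 b2 : ℤ, Pm u ∧ Ns r1 y1 r2 y2 w u b1 u b2 := by
        rcases h.act _ hv2S with ⟨v1, l1, v2', l2, q1, q2, M⟩ | ⟨v1, l1, v2', l2, q1, q2, M⟩
        · have e := h.pm_eq_ns M q1 q2 hv2t
          subst e
          exact ⟨v2, hv2S, hv2t, hv2p, _, _, _, q1, M⟩
        · have hS' : v2 * cj k r1 ∈ S := mul_mem hv2S hs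
          have ht' : Commute (v2 * cj k r1) (te r1 r2 0) := hv2t.mul_left hst
          have hi : cj (v2 * cj k r1) p' = p'⁻¹ := by
            rw [cj_mul_left, cj_eq_self' hs1P, hv2p]
          rcases h.act _ hS' with ⟨w1, m1, w2, m2, t1, t2, K⟩ | ⟨w1, m1, w2, m2, t1, t2, K⟩
          · have e := h.pm_eq_ns K t1 t2 ht'
            subst e
            exact ⟨_, hS', ht', hi, _, _, _, t1, K⟩
          · exact (h.ns_not_sw (M.mul N) K).elim
      obtain ⟨w, hwS, _, hwp, u, w1, w2, pu, M⟩ := hw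
      have he : ∃ e ∈ S, cj e p' = p'⁻¹ ∧ ∃ b1 b2 : ℤ, Ns r1 y1 r2 y2 e 1 b1 1 b2 := by
        rcases pu with rfl | rfl
        · exact ⟨w, hwS, hwp, _, _, M⟩
        · refine ⟨w * (y1 * y2), mul_mem hwS h.v_mem, ?_, ?_⟩
          · rw [cj_mul_left]
            have : cj (y1 * y2) p' = p' := by
              apply cj_eq_self'
              exact ((comm_of_cj (h.cP2 hp'P)).mul_right (comm_of_cj (h.cP4 hp'P))).symm
            rw [this, hwp]
          · have := M.mul h.ns_v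
            exact ⟨_, _, by convert this using 1 <;> norm_num⟩
      obtain ⟨e, heS, hep, c1, c2, Ne⟩ := he
      have hcen : ∀ i j : ℤ, ∀ π ∈ P, cj (r1 ^ i * r2 ^ j * π) p' = p' := by
        intro i j π hπ
        apply cj_eq_self'
        exact ((((comm_of_cj (h.cP1 hp'P)).zpow_right i).mul_right
          ((comm_of_cj (h.cP3 hp'P)).zpow_right j)).mul_right (h.P_comm hp'P hπ)).symm
      have hev : ∀ {f : G} {d1 d2 : ℤ}, f ∈ S → Ns r1 y1 r2 y2 f 1 d1 1 d2 → Even d1 → Even d2 →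
          cj f p' = p' := by
        intro f d1 d2 hf' Nf e1 e2
        obtain ⟨i, hi⟩ := e1.two_dvd
        obtain ⟨j, hj⟩ := e2.two_dvd
        rw [hi, hj] at Nf
        obtain ⟨π, hπ, rfl⟩ := h.even_dec hf' Nf
        exact hcen i j π hπ
      have hpar := h.par e heS _ _ _ _ Ne
      have hparx := h.par x4 hxS.1 _ _ _ _ Nx
      have hβ2 : Odd β2 := by
        rw [Int.even_add] at hparx
        rw [← Int.not_even_iff_odd] at hβ ⊢
        tauto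
      have hxp : cj x4 p' = p' := cj_eq_self' (h.comm12 al hp'P hx4P).symm
      by_cases hc1 : Even c1
      · have hc2 : Even c2 := by rw [Int.even_add] at hpar; tauto
        exact hp'ne ((hev heS Ne hc1 hc2).symm.trans hep)
      · have hc2 : ¬ Even c2 := by rw [Int.even_add] at hpar; tauto
        rw [Int.not_even_iff_odd] at hc1 hc2
        have h5 := hev (mul_mem heS hxS.1) (ns_mul Ne Nx) (hc1.add_odd hβ) (hc2.add_odd hβ2)
        rw [cj_mul_left, hxp] at h5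
        exact hp'ne (h5.symm.trans hep)
    · -- n ≥ 1
      set s1 := cj k r1 with hs1
      have hc0 : Commute s1 (cj r1 s1) := by
        rcases h.act_s al h.h1 h.ct_r1 with h1 | h1 | h1 | h1 <;> rw [← hs1] at h1 <;> rw [h1]
        · exact (Commute.refl _).inv_right
        · exact h.s_comm
        · exact h.s_comm.inv_right
      have e1 : cj s1 r1 * r1⁻¹ = s1 * (cj r1 s1)⁻¹ := by simp [cj, mul_assoc]
      have hc : Commute s1 (cj s1 r1 * r1⁻¹) := by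
        rw [e1]
        exact (Commute.refl s1).mul_right hc0.inv_right
      have e2 : cj s1 r1 * r1⁻¹ = r2 ^ u1 * r1⁻¹ := by rw [N.a1]
      rw [e2] at hc
      have e3 := cj_eq_self' hc
      rw [cj_mul, cj_zpow, N.a2, cj_inv, N.a1, ← zpow_mul, hu, zpow_one] at e3
      -- `r1 * (r2 ^ u1)⁻¹ = r2 ^ u1 * r1⁻¹`
      have e4 : r1 ^ (2 : ℤ) = r2 ^ (2 * u1) := by
        have hcm : Commute r1 (r2 ^ u1) := (show Commute r1 r2 from h.rr).zpow_right u1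
        have h6 : r1 * (r2 ^ u1)⁻¹ = r1⁻¹ * r2 ^ u1 := by rw [e3, (hcm.inv_left).eq]
        have h7 : r1 * r1 = r2 ^ u1 * r2 ^ u1 := by
          calc r1 * r1 = r1 * (r1 * (r2 ^ u1)⁻¹) * r2 ^ u1 := by group
            _ = r1 * (r1⁻¹ * r2 ^ u1) * r2 ^ u1 := by rw [h6]
            _ = _ := by group
        rw [zpow_two, h7, two_mul, zpow_add]
      have h8 := h.ind_zpow e4
      rw [h.q1.zpow_mem] at h8
      have h9 : (4 : ℤ) ∣ 2 := by
        refine Dvd.dvd.trans ?_ h8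
        rw [show (4 : ℤ) = 2 ^ 2 by norm_num]
        exact pow_dvd_pow _ (by omega)
      norm_num at h9

theorem al_symm (h : Sp S P z r1 y1 r2 y2 n) (al : Al S z (te r1 r2 n) k) :
    Al S z (te r2 r1 n) k := by rw [← h.t_comm']; exact al

theorem s2_ns (h : Sp S P z r1 y1 r2 y2 n) (hf : FP S P z) (al : Al S z (te r1 r2 n) k) :
    ∃ b1 b2 : ℤ, Ns r1 y1 r2 y2 (cj k r2) 1 b1 1 b2 := by
  obtain ⟨b1, b2, N⟩ := h.symm.s1_ns hf (h.al_symm al)
  exact ⟨b2, b1, N.symm⟩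

theorem s1_odd (h : Sp S P z r1 y1 r2 y2 n) (al : Al S z (te r1 r2 n) k)
    (N : Ns r1 y1 r2 y2 (cj k r1) 1 b1 1 b2) : Odd b1 ∧ Odd b2 := by
  have h1 := ns_pow N (2 ^ (n + 1))
  rw [← cj_pow, h.q1.rp, al.hz] at h1
  have e1 := ns_exp1 h1 h.ns_t
  have e2 := ns_exp2 h1 h.ns_t
  push_cast at e1 e2
  rw [zpow_mul, h.q1.rzp] at e1
  rw [zpow_mul, h.q2.rzp] at e2
  constructor
  · rcases h.q1.z_cases b1 with ⟨h3, _⟩ | ⟨_, h4⟩
    · rw [h3] at e1; exact absurd e1.symm h.q1.z_ne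
    · exact h4
  · rcases h.q1.z_cases b2 with ⟨h3, _⟩ | ⟨_, h4⟩
    · rw [h3] at e2; exact absurd e2.symm h.q1.z_ne
    · exact h4

/-- (1.6) `v1 s1 v1⁻¹ = s2`. -/
theorem v_s1 (h : Sp S P z r1 y1 r2 y2 n) (hf : FP S P z) (al : Al S z (te r1 r2 n) k) :
    cj (y1 * y2) (cj k r1) = cj k r2 := by
  obtain ⟨b1, b2, N⟩ := h.s1_ns hf al
  obtain ⟨o1, o2⟩ := h.s1_odd al N
  have hs := h.s1_mem al
  have hv := h.cj_v_of N
  rcases h.act_s al h.v_mem h.ct_v with h1 | h1 | h1 | h1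
  · exfalso
    rw [h1, mul_assoc] at hv
    have h2 := mul_eq_left.1 hv.symm
    rcases Sd.A0_one h.toCo h2 with ⟨h3, _⟩ | ⟨h3, _⟩
    · exact h.q1.odd_ne o1.neg (Or.inl h3)
    · exact h.q1.odd_ne o1.neg (Or.inr h3)
  · exfalso
    obtain ⟨p, hp, hpp⟩ := h.four
    set x4 := cj k p with hx4
    have hx4P : cj k⁻¹ x4 ∈ P := p2_of hp
    have hx44 : x4 * x4 = te r1 r2 n := by rw [hx4, ← cj_mul, hpp, al.hz]
    have hvx := h.v_inverts hf al hx4P hx44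
    set v' := cj k⁻¹ (y1 * y2) with hv'
    obtain ⟨hv'S, hv't⟩ := h.al_nor al.inv h.v_mem h.ct_v
    have hr : cj v' r1 = r1⁻¹ := by
      have := congrArg (cj k⁻¹) h1
      rw [← cj_cj, cj_inv_cj, cj_inv, cj_inv_cj] at this
      exact this
    -- `v'` commutes with `x4`
    have hvx' : cj v' x4 = x4 := by
      have hq : cj k⁻¹ (cj k⁻¹ (cj k x4)) ∈ P := by rw [cj_inv_cj]; exact hx4P
      have hq2 : cj k x4 ∈ P := h.p2_swap al hx4P
      have e : x4 = cj k⁻¹ (cj k x4) := (cj_inv_cj k x4).symm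
      have hc : Commute (y1 * y2) (cj k x4) :=
        ((comm_of_cj (h.cP2 hq2)).mul_right (comm_of_cj (h.cP4 hq2))).symm
      have := commute_cj (k := k⁻¹) hc
      rw [cj_inv_cj] at this
      exact cj_eq_self' this
    rcases h.act _ hv'S with ⟨u1, j1, u2, j2, p1, p2, M⟩ | ⟨u1, j1, u2, j2, p1, p2, M⟩
    · have e := h.pm_eq_ns M p1 p2 hv't
      subst e
      rcases p1 with rfl | rfl
      · have := M.a1.symm.trans hr
        rw [zpow_one] at this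
        exact h.q1.r_ne_inv this
      · have Na : Ns r1 y1 r2 y2 (v' * (y1 * y2)) 1 j1 1 j2 := by
          have := M.mul h.ns_v
          convert this using 1 <;> norm_num
        have haS : v' * (y1 * y2) ∈ S := mul_mem hv'S h.v_mem
        have hat : Commute (v' * (y1 * y2)) (te r1 r2 n) := hv't.mul_left h.ct_v
        obtain ⟨c1, c2, Nx⟩ := h.p2_ns hf al hx4P
        have hxS := h.p2_mem al hx4P
        have h3 := h.comm_mem haS hxS.1 Na Nx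
        have h4 : cj k⁻¹ (cj (v' * (y1 * y2)) x4 * x4⁻¹) ∈ P :=
          p2_mul (h.p2_nor al haS hat hx4P) (p2_inv hx4P)
        have h5 := h.p2_inf al h3 h4
        rw [mul_inv_eq_one, cj_mul_left, hvx, cj_inv, hvx'] at h5
        apply h.t_ne_one
        rw [← hx44]
        exact (mul_eq_one_iff_eq_inv).2 h5.symm
    · have h6 := M.a1.symm.trans hr
      have h7 := h.ind_zpow (i := -1) (j := u1) (by rw [zpow_neg_one]; exact h6.symm)
      exact h.q1.odd_ne (by exact ⟨-1, by norm_num⟩) h7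
  · exact h1
  · exfalso
    have h2 := h.lam_mem hs.1 N
    have e1 : cj k r1 * cj k r1 * r1 ^ (-b1) * r2 ^ (-b2) = cj k (r1 * r2⁻¹) := by
      rw [mul_assoc, mul_assoc, ← mul_assoc (cj k r1) (r1 ^ (-b1)), ← hv, h1, cj_mul, cj_inv]
    rw [e1] at h2
    have h3 : (cj k (r1 * r2⁻¹)) ^ (2 ^ n) = te r1 r2 n * z := by
      rw [← cj_pow, ((show Commute r1 r2 from h.rr).inv_right).mul_pow, inv_pow, h.q2.a_inv,
        ← mul_assoc]
      exact h.al_tz al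
    apply h.tz_notP
    rw [← h3]
    exact pow_mem h2 _

/-- `p = s1 s2 ∈ P` has order `2 ^ (n + 1)`. -/
theorem p_mem (h : Sp S P z r1 y1 r2 y2 n) (hf : FP S P z) (al : Al S z (te r1 r2 n) k) :
    cj k r1 * cj k r2 ∈ P := by
  obtain ⟨b1, b2, N⟩ := h.s1_ns hf al
  have h2 := h.lam_mem (h.s1_mem al).1 N
  rwa [mul_assoc, mul_assoc, ← mul_assoc (cj k r1) (r1 ^ (-b1)), ← h.cj_v_of N, h.v_s1 hf al] at h2

theorem p_pow (h : Sp S P z r1 y1 r2 y2 n) (al : Al S z (te r1 r2 n) k) :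
    (cj k r1 * cj k r2) ^ (2 ^ n) = z := by
  rw [← cj_mul, ← cj_pow, (show Commute r1 r2 from h.rr).mul_pow]
  exact al.ht

end Sp

end Cfsg.Agent.Cit.TwoSyl
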