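import Cfsg.Agent.Cit.TwoFK.Inv
import Cfsg.Agent.Cit.TwoPF.Cheap

/-!
# The outer sign of a quaternion group

`dq Q g`, `g ∈ N(Q)`: the sign of the permutation of the subgroups of index 2 of `Q` induced by `g`.
For `Q = ⟨x, y⟩` generalised quaternion and `s x s⁻¹ ∈ ⟨x⟩`, `s y s⁻¹ = x ^ j y` it is `(-1) ^ j`.
`dl K g`, `g ∈ N(K)`: `dq Q (k g)` for `Q` a Sylow 2-subgroup of `K` and `k ∈ K`, `k g ∈ N(Q)`.
-/

set_option autoImplicit false
set_option linter.style.haveILetI false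
set_option linter.unusedSectionVars false
set_option linter.unusedVariables false

namespace Cfsg.Agent.Cit.TwoSyl

open Subgroup Cfsg Cit OneBasic TwoFK

variable {G : Type*} [Group G]

/-- subgroups of index 2 of `Q` -/
def IsMX (Q P : Subgroup G) : Prop := P ≤ Q ∧ P.relIndex Q = 2

theorem IsMX.cj {Q P : Subgroup G} (h : IsMX Q P) (g : G) : IsMX (cj g Q) (cj g P) :=
  ⟨cj_mono g h.1, by rw [relIndex_cj]; exact h.2⟩

theorem IsMX.mul_iff {Q P : Subgroup G} (h : IsMX Q P) {a b : G} (ha : a ∈ Q) (hb : b ∈ Q) :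
    a * b ∈ P ↔ (a ∈ P ↔ b ∈ P) := by
  have h3 := Subgroup.mul_mem_iff_of_index_two (H := P.subgroupOf Q) h.2 (a := ⟨a, ha⟩) (b := ⟨b, hb⟩)
  simpa only [mem_subgroupOf, Subgroup.coe_mul] using h3

theorem IsMX.sq_mem {Q P : Subgroup G} (h : IsMX Q P) {a : G} (ha : a ∈ Q) : a * a ∈ P :=
  (h.mul_iff ha ha).2 Iff.rfl

theorem IsMX.zpow_even {Q P : Subgroup G} (h : IsMX Q P) {a : G} (ha : a ∈ Q) {i : ℤ} (hi : Even i) :
    a ^ i ∈ P := by
  obtain ⟨k, rfl⟩ := hi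
  rw [zpow_add]
  exact h.sq_mem (Q.zpow_mem ha k)

theorem IsMX.zpow_odd {Q P : Subgroup G} (h : IsMX Q P) {a : G} (ha : a ∈ Q) {i : ℤ} (hi : Odd i) :
    a ^ i ∈ P ↔ a ∈ P := by
  obtain ⟨k, rfl⟩ := hi
  rw [zpow_add_one, h.mul_iff (Q.zpow_mem ha _) ha]
  have h1 : a ^ (2 * k) ∈ P := h.zpow_even ha ⟨k, by ring⟩
  simp [h1]

/-- subgroups of index 2 are normal -/
theorem IsMX.conj_iff {Q P : Subgroup G} (h : IsMX Q P) {a b : G} (ha : a ∈ Q) (hb : b ∈ Q) :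
    a * b * a⁻¹ ∈ P ↔ b ∈ P := by
  rw [h.mul_iff (Q.mul_mem ha hb) (Q.inv_mem ha), h.mul_iff ha hb, inv_mem_iff]
  tauto

/-- elements acting trivially modulo `P` -/
theorem IsMX.cj_eq {Q P : Subgroup G} (h : IsMX Q P) {g : G} (hg : ∀ q ∈ Q, g * q * g⁻¹ ∈ P ↔ q ∈ P) [Finite G] :
    Cit.cj g P = P := by
  refine eq_of_le_of_card_ge ?_ (by rw [card_cj])
  rintro _ ⟨x, hx, rfl⟩
  exact (hg x (h.1 hx)).2 hx

theorem IsMX.cj_of_mem {Q P : Subgroup G} (h : IsMX Q P) {g : G} (hg : g ∈ Q) [Finite G] :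
    Cit.cj g P = P := h.cj_eq fun q hq => h.conj_iff hg hq

theorem IsMX.ext {Q P R : Subgroup G} {x y z : G} {n : ℕ} (g : GQ Q x y z n) (hP : IsMX Q P) (hR : IsMX Q R)
    (hx : x ∈ P ↔ x ∈ R) (hy : y ∈ P ↔ y ∈ R) : P = R := by
  have key : ∀ {P R : Subgroup G}, IsMX Q P → IsMX Q R → (x ∈ P ↔ x ∈ R) → (y ∈ P ↔ y ∈ R) → P ≤ R := by
    intro P R hP hR hx hy
    -- the elements which are in both or in none
    let D : Subgroup G :=
      { carrier := {q | q ∈ Q ∧ (q ∈ P ↔ q ∈ R)}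
        one_mem' := ⟨Q.one_mem, iff_of_true P.one_mem R.one_mem⟩
        mul_mem' := by
          rintro a b ⟨ha, ha'⟩ ⟨hb, hb'⟩
          refine ⟨Q.mul_mem ha hb, ?_⟩
          rw [hP.mul_iff ha hb, hR.mul_iff ha hb, ha', hb']
        inv_mem' := by
          rintro a ⟨ha, ha'⟩
          exact ⟨Q.inv_mem ha, by rw [inv_mem_iff, inv_mem_iff]; exact ha'⟩ }
    have h1 : Q ≤ D := g.le_of_mem (H := D) ⟨g.c_mem, hx⟩ g.v_mem g.v_not_mem ⟨g.v_mem, hy⟩
    intro p hp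
    exact (h1 (hP.1 hp)).2.1 hp
  exact le_antisymm (key hP hR hx hy) (key hR hP hx.symm hy.symm)

/-- conjugation of the subgroups of index 2 -/
def mxEquiv (g : G) (Q : Subgroup G) : {P // IsMX Q P} ≃ {P // IsMX (cj g Q) P} where
  toFun P := ⟨cj g P.1, P.2.cj g⟩
  invFun P := ⟨cj g⁻¹ P.1, by have := P.2.cj g⁻¹; rwa [cj_inv_cj] at this⟩
  left_inv P := Subtype.ext (cj_inv_cj g P.1)
  right_inv P := Subtype.ext (cj_cj_inv g P.1)

/-- the permutation of the subgroups of index 2 -/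
def mxPerm {Q : Subgroup G} {g : G} (hg : g ∈ normalizer (Q : Set G)) : Equiv.Perm {P // IsMX Q P} where
  toFun P := ⟨cj g P.1, by have := P.2.cj g; rwa [mem_normalizer_iff_cj.1 hg] at this⟩
  invFun P := ⟨cj g⁻¹ P.1, by have := P.2.cj g⁻¹; rwa [mem_normalizer_iff_cj.1 (inv_mem hg)] at this⟩
  left_inv P := Subtype.ext (cj_inv_cj g P.1)
  right_inv P := Subtype.ext (cj_cj_inv g P.1)

section dq

variable [Finite G]

open Classical in
/-- the sign of the permutation of the subgroups of index 2 -/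
noncomputable def dq (Q : Subgroup G) (g : G) : ℤˣ :=
  if hg : g ∈ normalizer (Q : Set G) then
    haveI := Fintype.ofFinite {P // IsMX Q P}
    Equiv.Perm.sign (mxPerm hg)
  else 1

open Classical in
theorem dq_def {Q : Subgroup G} {g : G} (hg : g ∈ normalizer (Q : Set G)) [Fintype {P // IsMX Q P}] :
    dq Q g = Equiv.Perm.sign (mxPerm hg) := by
  unfold dq
  rw [dif_pos hg]
  congr!

theorem dq_mul {Q : Subgroup G} {g h : G} (hg : g ∈ normalizer (Q : Set G)) (hh : h ∈ normalizer (Q : Set G)) :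
    dq Q (g * h) = dq Q g * dq Q h := by
  classical
  haveI := Fintype.ofFinite {P // IsMX Q P}
  rw [dq_def hg, dq_def hh, dq_def (mul_mem hg hh), ← Equiv.Perm.sign_mul]
  congr 1
  ext1 P
  exact Subtype.ext (cj_mul g h P.1)

theorem dq_one (Q : Subgroup G) : dq Q 1 = 1 := by
  have h := dq_mul (one_mem (normalizer (Q : Set G))) (one_mem (normalizer (Q : Set G)))
  rw [mul_one] at h
  exact (mul_eq_left.1 h.symm)

theorem dq_pow {Q : Subgroup G} {g : G} (hg : g ∈ normalizer (Q : Set G)) (m : ℕ) : dq Q (g ^ m) = dq Q g ^ m := by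
  induction m with
  | zero => rw [pow_zero, pow_zero, dq_one]
  | succ m ih => rw [pow_succ, pow_succ, dq_mul (pow_mem hg m) hg, ih]

theorem dq_inv {Q : Subgroup G} {g : G} (hg : g ∈ normalizer (Q : Set G)) : dq Q g⁻¹ = dq Q g := by
  have h := dq_mul (inv_mem hg) hg
  rw [inv_mul_cancel, dq_one] at h
  have h1 := eq_inv_of_mul_eq_one_left h.symm
  rw [h1, Int.units_inv_eq_self]

theorem dq_of_fix {Q : Subgroup G} {g : G} (h : ∀ P, IsMX Q P → cj g P = P) : dq Q g = 1 := by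
  classical
  by_cases hg : g ∈ normalizer (Q : Set G)
  · haveI := Fintype.ofFinite {P // IsMX Q P}
    rw [dq_def hg]
    have h1 : mxPerm hg = 1 := by
      ext1 P
      exact Subtype.ext (h P.1 P.2)
    rw [h1, Equiv.Perm.sign_one]
  · unfold dq; rw [dif_neg hg]

theorem dq_of_mem {Q : Subgroup G} {g : G} (h : g ∈ Q) : dq Q g = 1 :=
  dq_of_fix fun _ hP => hP.cj_of_mem h

theorem dq_of_cent {Q : Subgroup G} {g : G} (h : ∀ q ∈ Q, g * q = q * g) : dq Q g = 1 := by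
  refine dq_of_fix fun P hP => hP.cj_eq fun q hq => ?_
  rw [h q hq, mul_inv_cancel_right]

theorem dq_cj {Q : Subgroup G} {g : G} (hg : g ∈ normalizer (Q : Set G)) (a : G) :
    dq (cj a Q) (a * g * a⁻¹) = dq Q g := by
  classical
  have hg' : a * g * a⁻¹ ∈ normalizer (cj a Q : Set G) := by
    rw [mem_normalizer_iff_cj] at hg ⊢
    rw [cj_mul, cj_mul, cj_inv_cj, hg]
  haveI := Fintype.ofFinite {P // IsMX Q P}
  haveI := Fintype.ofFinite {P // IsMX (cj a Q) P}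
  rw [dq_def hg, dq_def hg', ← Equiv.Perm.sign_permCongr (mxEquiv a Q) (mxPerm hg)]
  congr 1
  ext1 P
  refine Subtype.ext ?_
  change cj (a * g * a⁻¹) P.1 = cj a (cj g (cj a⁻¹ P.1))
  rw [cj_mul, cj_mul]

end dq

/-! ### The value in coordinates -/

section coord

variable [Finite G]

/-- the exponent is odd -/
theorem _root_.Cfsg.Agent.Cit.GQ.odd_exp {Q : Subgroup G} {x y z : G} {n : ℕ} (g : GQ Q x y z n) {s : G} {r : ℤ}
    (hr : s * x * s⁻¹ = x ^ r) : Odd r := by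
  by_contra h
  rw [Int.not_odd_iff_even] at h
  obtain ⟨m, rfl⟩ := h
  have hx1 : x ^ 2 ^ (n + 2) = 1 := by rw [← g.ord]; exact pow_orderOf_eq_one x
  have h1 : (s * x * s⁻¹) ^ 2 ^ (n + 1) = 1 := by
    rw [hr, ← zpow_natCast, ← zpow_mul]
    have h2 : (m + m) * ((2 ^ (n + 1) : ℕ) : ℤ) = ((2 ^ (n + 2) : ℕ) : ℤ) * m := by push_cast; ring
    rw [h2, zpow_mul, zpow_natCast, hx1, one_zpow]
  rw [_root_.conj_pow] at h1
  have h3 : x ^ 2 ^ (n + 1) = 1 := by
    rw [mul_inv_eq_iff_eq_mul, one_mul] at h1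
    exact mul_eq_left.1 h1
  exact g.z_ne (by rw [← g.z_eq, h3])

theorem dq_even {Q : Subgroup G} {x y z : G} {n : ℕ} (g : GQ Q x y z n) {s : G} (hs : s ∈ normalizer (Q : Set G))
    (hx : s * x * s⁻¹ ∈ zpowers x) {j : ℤ} (hy : s * y * s⁻¹ = x ^ j * y) (hj : Even j) :
    (∀ P, IsMX Q P → cj s P = P) ∧ dq Q s = 1 := by
  have key : ∀ P, IsMX Q P → cj s P = P := by
    intro P hP
    have hsQ : ∀ {a}, a ∈ Q → s * a * s⁻¹ ∈ Q := fun {a} ha => (mem_normalizer_iff.1 hs a).1 ha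
    let D : Subgroup G :=
      { carrier := {q | q ∈ Q ∧ (s * q * s⁻¹ ∈ P ↔ q ∈ P)}
        one_mem' := ⟨Q.one_mem, by rw [mul_one, mul_inv_cancel]⟩
        mul_mem' := by
          rintro a b ⟨ha, ha'⟩ ⟨hb, hb'⟩
          refine ⟨Q.mul_mem ha hb, ?_⟩
          rw [show s * (a * b) * s⁻¹ = (s * a * s⁻¹) * (s * b * s⁻¹) by group, hP.mul_iff (hsQ ha) (hsQ hb),
            hP.mul_iff ha hb, ha', hb']
        inv_mem' := by
          rintro a ⟨ha, ha'⟩
          refine ⟨Q.inv_mem ha, ?_⟩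
          rw [show s * a⁻¹ * s⁻¹ = (s * a * s⁻¹)⁻¹ by group, inv_mem_iff, inv_mem_iff]
          exact ha' }
    have h1 : Q ≤ D := by
      refine g.le_of_mem (H := D) ⟨g.c_mem, ?_⟩ g.v_mem g.v_not_mem ⟨g.v_mem, ?_⟩
      · obtain ⟨r, hr⟩ := hx
        have hr' : s * x * s⁻¹ = x ^ r := hr.symm
        rw [hr']
        exact hP.zpow_odd g.c_mem (g.odd_exp hr')
      · rw [hy, hP.mul_iff (Q.zpow_mem g.c_mem j) g.v_mem]
        have := hP.zpow_even g.c_mem hj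
        simp [this]
    exact hP.cj_eq fun q hq => (h1 hq).2
  exact ⟨key, dq_of_fix key⟩

/-- a subgroup of index 2 containing `y`, but not `x` -/
theorem exists_mx {Q : Subgroup G} {x y z : G} {n : ℕ} (g : GQ Q x y z n) :
    ∃ P, IsMX Q P ∧ y ∈ P ∧ x ∉ P := by
  have hyx : ∀ i : ℤ, x ^ i * y = y * x ^ (-i) := by
    intro i
    have h1 : y * x ^ (-i) * y⁻¹ = x ^ i := by
      rw [← conj_zpow, g.conj, inv_zpow, zpow_neg, inv_inv]
    rw [← h1]; group
  have hz : z = x ^ (2 * (2 : ℤ) ^ n) := by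
    rw [← g.z_eq, ← zpow_natCast]
    congr 1
    push_cast
    ring
  let P : Subgroup G :=
    { carrier := {q | ∃ i : ℤ, q = x ^ (2 * i) ∨ q = y * x ^ (2 * i)}
      one_mem' := ⟨0, Or.inl (by simp)⟩
      mul_mem' := by
        rintro a b ⟨i, rfl | rfl⟩ ⟨k, rfl | rfl⟩
        · exact ⟨i + k, Or.inl (by rw [← zpow_add]; congr 1; ring)⟩
        · refine ⟨-i + k, Or.inr ?_⟩
          rw [← mul_assoc, hyx, mul_assoc, ← zpow_add]
          congr 2; ring
        · refine ⟨i + k, Or.inr ?_⟩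
          rw [mul_assoc, ← zpow_add]
          congr 2; ring
        · refine ⟨2 ^ n - i + k, Or.inl ?_⟩
          calc y * x ^ (2 * i) * (y * x ^ (2 * k)) = y * (x ^ (2 * i) * y) * x ^ (2 * k) := by group
            _ = y * y * (x ^ (-(2 * i)) * x ^ (2 * k)) := by rw [hyx]; group
            _ = x ^ (2 * (2 ^ n - i + k)) := by
              rw [g.v_sq, hz, ← zpow_add, ← zpow_add]
              congr 1; ring
      inv_mem' := by
        rintro a ⟨i, rfl | rfl⟩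
        · exact ⟨-i, Or.inl (by rw [← zpow_neg]; congr 1; ring)⟩
        · refine ⟨i + 2 ^ n, Or.inr ?_⟩
          have h1 : y⁻¹ = y * z := by
            rw [inv_eq_iff_mul_eq_one, ← mul_assoc, g.v_sq, g.z_mul]
          rw [mul_inv_rev, h1, ← zpow_neg, ← mul_assoc, hyx, mul_assoc, hz, ← zpow_add]
          congr 2; ring }
  have hP : ∀ q, q ∈ P ↔ ∃ i : ℤ, q = x ^ (2 * i) ∨ q = y * x ^ (2 * i) := fun _ => Iff.rfl
  have hxP : x ∉ P := by
    rw [hP]
    rintro ⟨i, h | h⟩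
    · have hx1 : x ^ 2 ^ (n + 2) = 1 := by rw [← g.ord]; exact pow_orderOf_eq_one x
      have h2 : x ^ 2 ^ (n + 1) = 1 := by
        have h3 : (x ^ (2 * i)) ^ 2 ^ (n + 1) = 1 := by
          rw [← zpow_natCast, ← zpow_mul]
          have h2 : 2 * i * ((2 ^ (n + 1) : ℕ) : ℤ) = ((2 ^ (n + 2) : ℕ) : ℤ) * i := by push_cast; ring
          rw [h2, zpow_mul, zpow_natCast, hx1, one_zpow]
        rwa [← h] at h3
      exact g.z_ne (by rw [← g.z_eq, h2])
    · apply g.v_not_mem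
      have h1 : y = x * x ^ (-(2 * i)) := by
        rw [zpow_neg, eq_mul_inv_iff_mul_eq]; exact h.symm
      rw [h1]
      exact mul_mem (mem_zpowers x) (zpow_mem (mem_zpowers x) _)
  have hle : P ≤ Q := by
    intro q hq
    rw [hP] at hq
    obtain ⟨i, rfl | rfl⟩ := hq
    · exact Q.zpow_mem g.c_mem _
    · exact Q.mul_mem g.v_mem (Q.zpow_mem g.c_mem _)
  refine ⟨P, ⟨hle, ?_⟩, (hP y).2 ⟨0, Or.inr (by simp)⟩, hxP⟩
  change (P.subgroupOf Q).index = 2
  rw [Subgroup.index_eq_two_iff]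
  refine ⟨⟨x, g.c_mem⟩, ?_⟩
  have hx2 : ∀ q, q ∈ P → q * x ∉ P := fun q hq h => hxP (by
    have := P.mul_mem (P.inv_mem hq) h
    rwa [inv_mul_cancel_left] at this)
  rintro ⟨q, hq⟩
  rw [mem_subgroupOf, mem_subgroupOf, Subgroup.coe_mul]
  change Xor (q * x ∈ P) (q ∈ P)
  by_cases hqP : q ∈ P
  · exact Or.inr ⟨hqP, hx2 q hqP⟩
  · refine Or.inl ⟨?_, hqP⟩
    rw [hP]
    rcases g.cov q hq with ⟨i, rfl⟩ | ⟨i, rfl⟩
    · rcases Nat.even_or_odd i with ⟨k, rfl⟩ | ⟨k, rfl⟩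
      · exfalso; apply hqP; rw [hP]
        refine ⟨k, Or.inl ?_⟩
        rw [← zpow_natCast]; congr 1; omega
      · refine ⟨k + 1, Or.inl ?_⟩
        rw [← pow_succ, ← zpow_natCast]; congr 1
    · rcases Nat.even_or_odd i with ⟨k, rfl⟩ | ⟨k, rfl⟩
      · exfalso; apply hqP; rw [hP]
        refine ⟨k, Or.inr ?_⟩
        rw [← zpow_natCast]; congr 2; omega
      · refine ⟨k + 1, Or.inr ?_⟩
        rw [mul_assoc, ← pow_succ, ← zpow_natCast]; congr 2

theorem dq_odd {Q : Subgroup G} {x y z : G} {n : ℕ} (g : GQ Q x y z n) {s : G} (hs : s ∈ normalizer (Q : Set G))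
    (hx : s * x * s⁻¹ ∈ zpowers x) {j : ℤ} (hy : s * y * s⁻¹ = x ^ j * y) (hj : Odd j) : dq Q s = -1 := by
  classical
  haveI := Fintype.ofFinite {P // IsMX Q P}
  obtain ⟨r, hr⟩ := hx
  have hr : s * x * s⁻¹ = x ^ r := hr.symm
  have hro := g.odd_exp hr
  -- the square
  have h1 : ∀ P, IsMX Q P → cj (s * s) P = P := by
    refine (dq_even g (mul_mem hs hs) (j := r * j + j) ?_ ?_ ?_).1
    · refine ⟨r * r, ?_⟩
      change x ^ (r * r) = _
      calc x ^ (r * r) = (s * x * s⁻¹) ^ r := by rw [hr, zpow_mul]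
        _ = s * (s * x * s⁻¹) * s⁻¹ := by rw [conj_zpow, hr]
        _ = _ := by group
    · calc s * s * y * (s * s)⁻¹ = s * (s * y * s⁻¹) * s⁻¹ := by group
        _ = s * (x ^ j * y) * s⁻¹ := by rw [hy]
        _ = (s * x ^ j * s⁻¹) * (s * y * s⁻¹) := by group
        _ = x ^ (r * j) * (x ^ j * y) := by rw [← conj_zpow, hr, ← zpow_mul, hy]
        _ = x ^ (r * j + j) * y := by rw [zpow_add]; group
    · rw [show r * j + j = (r + 1) * j by ring]
      exact (hro.add_odd odd_one).mul_right j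
  obtain ⟨σ, hσ⟩ : ∃ σ, σ = mxPerm hs := ⟨_, rfl⟩
  have hσP : ∀ P, (σ P).1 = cj s P.1 := fun P => by rw [hσ]; rfl
  have hσσ : σ * σ = 1 := by
    ext1 P
    refine Subtype.ext ?_
    change (σ (σ P)).1 = P.1
    rw [hσP, hσP, ← cj_mul, h1 P.1 P.2]
  have hσ1 : σ ≠ 1 := by
    intro h2
    obtain ⟨P, hP, hyP, hxP⟩ := exists_mx g
    have h3 : cj s P = P := by
      have h4 := hσP ⟨P, hP⟩
      rw [h2] at h4
      exact h4.symm
    have h4 : s * y * s⁻¹ ∈ cj s P := conj_mem_cj hyP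
    rw [h3] at h4
    rw [hy, hP.mul_iff (Q.zpow_mem g.c_mem j) g.v_mem, hP.zpow_odd g.c_mem hj] at h4
    exact hxP (h4.2 hyP)
  -- at most three subgroups
  have hc : Fintype.card {P // IsMX Q P} ≤ 3 := by
    let f : {P // IsMX Q P} → {p : Bool × Bool // p ≠ (true, true)} := fun P =>
      ⟨(decide (x ∈ P.1), decide (y ∈ P.1)), by
        intro h
        rw [Prod.mk.injEq, decide_eq_true_iff, decide_eq_true_iff] at h
        have h5 := g.le_of_mem h.1 g.v_mem g.v_not_mem h.2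
        have h6 := P.2.2
        rw [relIndex_eq_one.2 h5] at h6
        omega⟩
    have hf : Function.Injective f := by
      rintro ⟨P, hP⟩ ⟨R, hR⟩ h
      have h5 := congrArg (fun p => p.1.1) h
      have h6 := congrArg (fun p => p.1.2) h
      simp only [f] at h5 h6
      rw [decide_eq_decide] at h5 h6
      exact Subtype.ext (hP.ext g hR h5 h6)
    calc Fintype.card {P // IsMX Q P} ≤ Fintype.card {p : Bool × Bool // p ≠ (true, true)} :=
          Fintype.card_le_of_injective f hf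
      _ = 3 := by decide
  obtain ⟨h2, h3⟩ := TwoPF.sign_of_sq hσσ
  have h4 : σ.support.card ≤ 3 := (Finset.card_le_univ _).trans hc
  have h5 : σ.support.card ≠ 0 := by
    rw [Finset.card_ne_zero, Finset.nonempty_iff_ne_empty]
    exact fun h => hσ1 (Equiv.Perm.support_eq_empty_iff.1 h)
  have h6 : σ.support.card = 2 := by
    obtain ⟨k, hk⟩ := h3
    omega
  rw [dq_def hs, ← hσ, h2, h6]
  norm_num

end coord

/-! ### The sign of an automorphism of `K` -/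

section dl

variable [Finite G]

open Classical in
/-- the outer sign on `K` -/
noncomputable def dl (K : Subgroup G) (g : G) : ℤˣ :=
  if h : ∃ p : Subgroup G × G, Syl p.1 K ∧ p.2 ∈ K ∧ p.2 * g ∈ normalizer (p.1 : Set G) then
    dq h.choose.1 (h.choose.2 * g)
  else 1

/-- elements of `N_K(Q)` have sign 1 -/
theorem dq_of_mem_syl {K Q : Subgroup G} (hQ : Syl Q K) {k : G} (hk : k ∈ K) (hkQ : k ∈ normalizer (Q : Set G)) :
    dq Q k = 1 := by
  obtain ⟨m, hm, hm2⟩ := OneFieldHom.exists_odd_pow k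
  have h1 : k ^ m ∈ Q := by
    have h2 : zpowers (k ^ m) ≤ Q := syl_le_of_normalizes' hQ hm2 (zpowers_le.2 (K.pow_mem hk m))
      (zpowers_le.2 (pow_mem hkQ m))
    exact h2 (mem_zpowers _)
  have h2 := dq_pow hkQ m
  rw [dq_of_mem h1] at h2
  rcases Int.units_eq_one_or (dq Q k) with h3 | h3
  · exact h3
  · rw [h3, hm.neg_one_pow] at h2
    exact absurd h2 (by decide)

theorem exists_fratt {K Q : Subgroup G} (hQ : Syl Q K) {g : G} (hg : g ∈ normalizer (K : Set G)) :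
    ∃ k ∈ K, k * g ∈ normalizer (Q : Set G) := by
  have h1 : Syl (cj g Q) K := by
    have := hQ.cj g
    rwa [mem_normalizer_iff_cj.1 hg] at this
  obtain ⟨k, hk, h2⟩ := h1.exists_conj hQ
  exact ⟨k, hk, by rw [mem_normalizer_iff_cj, cj_mul, h2]⟩

theorem dl_eq {K Q : Subgroup G} (hQ : Syl Q K) {g k : G} (hg : g ∈ normalizer (K : Set G)) (hk : k ∈ K)
    (hkg : k * g ∈ normalizer (Q : Set G)) : dl K g = dq Q (k * g) := by
  have h : ∃ p : Subgroup G × G, Syl p.1 K ∧ p.2 ∈ K ∧ p.2 * g ∈ normalizer (p.1 : Set G) :=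
    ⟨(Q, k), hQ, hk, hkg⟩
  unfold dl
  rw [dif_pos h]
  obtain ⟨h1, h2, h3⟩ := h.choose_spec
  obtain ⟨a, ha, h4⟩ := hQ.exists_conj h1
  rw [← dq_cj hkg a, h4]
  have e1 : a * (k * g) * a⁻¹ = (a * k * (g * a⁻¹ * g⁻¹)) * g := by group
  have h5 : a * k * (g * a⁻¹ * g⁻¹) ∈ K := by
    refine K.mul_mem (K.mul_mem ha hk) ?_
    exact (mem_normalizer_iff.1 hg a⁻¹).1 (K.inv_mem ha)
  have h6 : a * (k * g) * a⁻¹ ∈ normalizer (h.choose.1 : Set G) := by
    rw [← h4]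
    rw [mem_normalizer_iff_cj] at hkg ⊢
    rw [cj_mul, cj_mul, cj_inv_cj, hkg]
  rw [e1] at h6 ⊢
  have h7 : h.choose.2 * (a * k * (g * a⁻¹ * g⁻¹))⁻¹ ∈ K := K.mul_mem h2 (K.inv_mem h5)
  have h8 : h.choose.2 * (a * k * (g * a⁻¹ * g⁻¹))⁻¹ ∈ normalizer (h.choose.1 : Set G) := by
    have h9 := mul_mem h3 (inv_mem h6)
    convert h9 using 1
    group
  have h10 := dq_mul h8 h6
  rw [dq_of_mem_syl h1 h7 h8, one_mul] at h10
  rw [← h10]
  congr 1
  group

theorem dl_of_normalizer {K Q : Subgroup G} (hQ : Syl Q K) {g : G} (hg : g ∈ normalizer (K : Set G))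
    (hgQ : g ∈ normalizer (Q : Set G)) : dl K g = dq Q g := by
  have := dl_eq hQ hg K.one_mem (by rwa [one_mul])
  rwa [one_mul] at this

theorem dl_mul {K : Subgroup G} {g h : G} (hg : g ∈ normalizer (K : Set G)) (hh : h ∈ normalizer (K : Set G)) :
    dl K (g * h) = dl K g * dl K h := by
  obtain ⟨Q, hQ⟩ := Hyp.exists_syl K
  obtain ⟨k, hk, h1⟩ := exists_fratt hQ hg
  obtain ⟨l, hl, h2⟩ := exists_fratt hQ hh
  rw [dl_eq hQ hg hk h1, dl_eq hQ hh hl h2, ← dq_mul h1 h2]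
  have e1 : k * g * (l * h) = (k * (g * l * g⁻¹)) * (g * h) := by group
  rw [e1]
  refine dl_eq hQ (mul_mem hg hh) (K.mul_mem hk ((mem_normalizer_iff.1 hg l).1 hl)) ?_
  rw [← e1]
  exact mul_mem h1 h2

theorem dl_cj {K : Subgroup G} {g : G} (hg : g ∈ normalizer (K : Set G)) (a : G) :
    dl (cj a K) (a * g * a⁻¹) = dl K g := by
  obtain ⟨Q, hQ⟩ := Hyp.exists_syl K
  obtain ⟨k, hk, h1⟩ := exists_fratt hQ hg
  rw [dl_eq hQ hg hk h1, ← dq_cj h1 a]
  have e1 : a * (k * g) * a⁻¹ = (a * k * a⁻¹) * (a * g * a⁻¹) := by group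
  have h2 : ∀ {g : G} {K : Subgroup G}, g ∈ normalizer (K : Set G) → a * g * a⁻¹ ∈ normalizer (cj a K : Set G) := by
    intro g K hg
    rw [mem_normalizer_iff_cj] at hg ⊢
    rw [cj_mul, cj_mul, cj_inv_cj, hg]
  have h3 := h2 h1
  rw [e1] at h3 ⊢
  exact dl_eq (hQ.cj a) (h2 hg) (conj_mem_cj hk) h3

theorem dl_of_mem {K : Subgroup G} {g : G} (hg : g ∈ K) : dl K g = 1 := by
  obtain ⟨Q, hQ⟩ := Hyp.exists_syl K
  rw [dl_eq hQ (le_normalizer hg) (K.inv_mem hg) (by rw [inv_mul_cancel]; exact one_mem _), inv_mul_cancel, dq_one]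

theorem dl_sq {K : Subgroup G} {g : G} (hg : g ∈ normalizer (K : Set G)) : dl K (g * g) = 1 := by
  rw [dl_mul hg hg, Int.units_mul_self]

end dl

end Cfsg.Agent.Cit.TwoSyl
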